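import Groth.Agent.BigSiteLib.EtDescSec.Spread

/-!
# A pointwise criterion for effectivity
-/

set_option autoImplicit false

universe u

open CategoryTheory CategoryTheory.Limits AlgebraicGeometry Opposite TopologicalSpace

namespace Groth.Agent.BigSiteLib.DescSec

set_option backward.isDefEq.respectTransparency.types false

variable {X' X : Scheme.{u}} (f : X' ⟶ X) {F' : EtDesc.Sh X'}
  (φ : (EtDesc.pullSh (pullback.fst f f)).obj F' ≅ (EtDesc.pullSh (pullback.snd f f)).obj F')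

local notation "pb" => IsPullback.of_hasPullback f f
local notation "Gl" => glueSh f (pullback.fst f f) (pullback.snd f f) (pullback.fst f f ≫ f) rfl pullback.condition.symm φ.hom
local notation "ψψ" => gluePsi f (pullback.fst f f) (pullback.snd f f) (pullback.fst f f ≫ f) rfl pullback.condition.symm φ.hom

/-- The two projections of the double fibre product. -/
noncomputable def side₁ (V : X.Etale) : pullback V.hom (pullback.fst f f ≫ f) ⟶ ((EtCoh.bc f).obj V).left :=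
  pullback.lift (pullback.fst _ _) (pullback.snd _ _ ≫ pullback.fst f f) (pullback.condition.trans (Category.assoc _ _ _).symm)

noncomputable def side₂ (V : X.Etale) : pullback V.hom (pullback.fst f f ≫ f) ⟶ ((EtCoh.bc f).obj V).left :=
  pullback.lift (pullback.fst _ _) (pullback.snd _ _ ≫ pullback.snd f f)
    (pullback.condition.trans ((congrArg (_ ≫ ·) pullback.condition).trans (Category.assoc _ _ _).symm))

theorem side_iff (hφ : EtDesc.IsCocycle F' φ) {V : X.Etale} (s : ToType (F'.obj.obj (op ((EtCoh.bc f).obj V))))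
    {Ω : Type u} [Field Ω] [IsSepClosed Ω] (k : Spec (CommRingCat.of Ω) ⟶ ((EtCoh.bc (pullback.fst f f ≫ f)).obj V).left) :
    ∃ (ζ : Spec (CommRingCat.of Ω) ⟶ pullback f f)
      (t : (Scheme.pointSmallEtale ζ).fiber.obj ((EtCoh.bc (pullback.fst f f ≫ f)).obj V)),
      (t.left : Spec (CommRingCat.of Ω) ⟶ ((EtCoh.bc (pullback.fst f f ≫ f)).obj V).left) = k ∧
      (germ ((EtDesc.pullSh (pullback.snd f f)).obj F') ζ _ t
          (lhs f (pullback.fst f f) (pullback.snd f f) (pullback.fst f f ≫ f) rfl φ.hom V s) =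
        germ ((EtDesc.pullSh (pullback.snd f f)).obj F') ζ _ t
          (side (pullback.fst f f ≫ f) (pullback.snd f f) f pullback.condition.symm F' V s) ↔
        Rel φ s (k ≫ side₁ f V) s (k ≫ side₂ f V)) := by
  let ζ := k ≫ pullback.snd V.hom (pullback.fst f f ≫ f)
  let η := (k ≫ pullback.fst V.hom (pullback.fst f f ≫ f)) ≫ V.hom
  let v : (Scheme.pointSmallEtale η).fiber.obj V := ptMk (k ≫ pullback.fst V.hom (pullback.fst f f ≫ f)) rfl
  have hb : ζ ≫ pullback.fst f f ≫ f = η :=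
    (Category.assoc _ _ _).trans ((congrArg (k ≫ ·) pullback.condition.symm).trans (Category.assoc _ _ _).symm)
  have h₁ : (ζ ≫ pullback.fst f f) ≫ f = η := (Category.assoc _ _ _).trans hb
  have h₂ : (ζ ≫ pullback.snd f f) ≫ f = η := by rw [Category.assoc, ← pullback.condition]; exact hb
  have e : ((EtFound.liftPt (pullback.fst f f ≫ f) hb v).left :
      Spec (CommRingCat.of Ω) ⟶ ((EtCoh.bc (pullback.fst f f ≫ f)).obj V).left) = k :=
    pullback.hom_ext ((EtFound.liftPt_fst _ hb v).trans rfl) ((pullback.lift_snd _ _ _).trans rfl)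
  refine ⟨ζ, EtFound.liftPt _ hb v, e, ?_⟩
  rw [germ_sides_iff f (pullback.fst f f) (pullback.snd f f) _ rfl pullback.condition.symm φ.hom pb h₁ h₂ ζ rfl rfl hb v s]
  refine (rel_iff φ _ _ ?_ ?_ (h₁.trans h₂.symm)).symm
  · refine pullback.hom_ext ((EtFound.liftPt_fst f h₁ v).trans ?_) ((pullback.lift_snd _ _ _).trans ?_)
    · exact ((Category.assoc _ _ _).trans (congrArg (k ≫ ·) (pullback.lift_fst _ _ _))).symm
    · exact (((Category.assoc _ _ _).trans (congrArg (k ≫ ·) (pullback.lift_snd _ _ _))).trans (Category.assoc _ _ _).symm).symm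
  · refine pullback.hom_ext ((EtFound.liftPt_fst f h₂ v).trans ?_) ((pullback.lift_snd _ _ _).trans ?_)
    · exact ((Category.assoc _ _ _).trans (congrArg (k ≫ ·) (pullback.lift_fst _ _ _))).symm
    · exact (((Category.assoc _ _ _).trans (congrArg (k ≫ ·) (pullback.lift_snd _ _ _))).trans (Category.assoc _ _ _).symm).symm

variable {f}

theorem lhs_eq_side (hφ : EtDesc.IsCocycle F' φ) {V : X.Etale} (s : ToType (F'.obj.obj (op ((EtCoh.bc f).obj V))))
    (h : ∀ z : ((EtCoh.bc (pullback.fst f f ≫ f)).obj V).left, ∃ (Ω : Type u) (_ : Field Ω) (_ : IsSepClosed Ω)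
      (k : Spec (CommRingCat.of Ω) ⟶ ((EtCoh.bc (pullback.fst f f ≫ f)).obj V).left),
      k.base (default : Spec (CommRingCat.of Ω)) = z ∧ Rel φ s (k ≫ side₁ f V) s (k ≫ side₂ f V)) :
    lhs f (pullback.fst f f) (pullback.snd f f) (pullback.fst f f ≫ f) rfl φ.hom V s =
      side (pullback.fst f f ≫ f) (pullback.snd f f) f pullback.condition.symm F' V s := by
  refine eq_of_locEq _ fun z => ?_
  obtain ⟨Ω, _, _, k, hk, hR⟩ := h z
  obtain ⟨ζ, t, ht, hiff⟩ := side_iff f φ hφ s k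
  exact locEq_of_germ ζ t (hiff.2 hR) z (by rw [ht]; exact hk)

theorem rel_of_lhs_eq_side (hφ : EtDesc.IsCocycle F' φ) {V : X.Etale} {s : ToType (F'.obj.obj (op ((EtCoh.bc f).obj V)))}
    (h : lhs f (pullback.fst f f) (pullback.snd f f) (pullback.fst f f ≫ f) rfl φ.hom V s =
      side (pullback.fst f f ≫ f) (pullback.snd f f) f pullback.condition.symm F' V s)
    {Ω : Type u} [Field Ω] [IsSepClosed Ω] (k₁ k₂ : Spec (CommRingCat.of Ω) ⟶ ((EtCoh.bc f).obj V).left)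
    (e : k₁ ≫ pullback.fst V.hom f = k₂ ≫ pullback.fst V.hom f) : Rel φ s k₁ s k₂ := by
  have he : ∀ k' : Spec (CommRingCat.of Ω) ⟶ ((EtCoh.bc f).obj V).left,
      (k' ≫ pullback.fst V.hom f) ≫ V.hom = (k' ≫ pullback.snd V.hom f) ≫ f := fun k' =>
    (Category.assoc _ _ _).trans ((congrArg (k' ≫ ·) pullback.condition).trans (Category.assoc _ _ _).symm)
  let k : Spec (CommRingCat.of Ω) ⟶ ((EtCoh.bc (pullback.fst f f ≫ f)).obj V).left :=
    pullback.lift (k₁ ≫ pullback.fst V.hom f)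
      (pullback.lift (k₁ ≫ pullback.snd V.hom f) (k₂ ≫ pullback.snd V.hom f)
        ((he k₁).symm.trans ((congrArg (· ≫ V.hom) e).trans (he k₂))))
      ((he k₁).trans ((congrArg (· ≫ f) (pullback.lift_fst _ _ _).symm).trans (Category.assoc _ _ _)))
  have e₁ : k ≫ side₁ f V = k₁ := pullback.hom_ext
    ((Category.assoc _ _ _).trans ((congrArg (k ≫ ·) (pullback.lift_fst _ _ _)).trans (pullback.lift_fst _ _ _)))
    ((Category.assoc _ _ _).trans ((congrArg (k ≫ ·) (pullback.lift_snd _ _ _)).trans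
      ((Category.assoc _ _ _).symm.trans ((congrArg (· ≫ _) (pullback.lift_snd _ _ _)).trans (pullback.lift_fst _ _ _)))))
  have e₂ : k ≫ side₂ f V = k₂ := pullback.hom_ext
    ((Category.assoc _ _ _).trans ((congrArg (k ≫ ·) (pullback.lift_fst _ _ _)).trans ((pullback.lift_fst _ _ _).trans e)))
    ((Category.assoc _ _ _).trans ((congrArg (k ≫ ·) (pullback.lift_snd _ _ _)).trans
      ((Category.assoc _ _ _).symm.trans ((congrArg (· ≫ _) (pullback.lift_snd _ _ _)).trans (pullback.lift_snd _ _ _)))))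
  obtain ⟨ζ, t, -, hiff⟩ := side_iff f φ hφ s k
  have := hiff.1 (congrArg _ h)
  rwa [e₁, e₂] at this

theorem psi_stalk_injective_of_univSubmersive (hφ : EtDesc.IsCocycle F' φ) (hf : EtDesc.IsUnivSubmersive f)
    {Ω : Type u} [Field Ω] [IsSepClosed Ω] (ξ₀ : Spec (CommRingCat.of Ω) ⟶ X') :
    Function.Injective ((Scheme.pointSmallEtale ξ₀).presheafFiber.map (ψψ).hom) := by
  intro e₁ e₂ he
  let η := ξ₀ ≫ f
  obtain ⟨V₁, v₁, x₁, h₁, k₁⟩ := exists_up_germ f (η := η) rfl Gl e₁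
  obtain ⟨V₂, v₂, x₂, h₂, k₂⟩ := exists_up_germ f (η := η) rfl Gl e₂
  rw [h₁, h₂, psi_germ, psi_germ] at he
  refine (stI f ξ₀ Gl).injective ?_
  rw [tr_rfl] at k₁ k₂
  rw [k₁, k₂]
  haveI : AlgebraicGeometry.Etale V₁.hom := V₁.prop
  haveI : AlgebraicGeometry.Etale (pullback.fst V₁.hom V₂.hom) :=
    MorphismProperty.pullback_fst _ _ (show AlgebraicGeometry.Etale V₂.hom from V₂.prop)
  let V₃ : X.Etale := Scheme.Etale.mk (pullback.fst V₁.hom V₂.hom ≫ V₁.hom)
  let b₁ : V₃ ⟶ V₁ := MorphismProperty.Over.homMk (pullback.fst V₁.hom V₂.hom) rfl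
  let b₂ : V₃ ⟶ V₂ := MorphismProperty.Over.homMk (pullback.snd V₁.hom V₂.hom) pullback.condition.symm
  let l : Spec (CommRingCat.of Ω) ⟶ V₃.left := pullback.lift (v₁.left : Spec (CommRingCat.of Ω) ⟶ V₁.left)
    (v₂.left : Spec (CommRingCat.of Ω) ⟶ V₂.left) ((CategoryTheory.Over.w v₁).trans (CategoryTheory.Over.w v₂).symm)
  let v : (Scheme.pointSmallEtale η).fiber.obj V₃ := ptMk l
    (((Category.assoc _ _ _).symm.trans (congrArg (· ≫ V₁.hom) (pullback.lift_fst _ _ _))).trans (CategoryTheory.Over.w v₁))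
  have hv₁ : (Scheme.pointSmallEtale η).fiber.map b₁ v = v₁ := fib_ext (pullback.lift_fst _ _ _)
  have hv₂ : (Scheme.pointSmallEtale η).fiber.map b₂ v = v₂ := fib_ext (pullback.lift_snd _ _ _)
  rw [← hv₁, ← hv₂, ← germ_map, ← germ_map]
  let s₁ : ToType (F'.obj.obj (op ((EtCoh.bc f).obj V₃))) := ((Gl).obj.map b₁.op x₁).1
  let s₂ : ToType (F'.obj.obj (op ((EtCoh.bc f).obj V₃))) := ((Gl).obj.map b₂.op x₂).1
  have he' : germ F' ξ₀ _ (EtFound.liftPt f (η := η) rfl v) s₁ = germ F' ξ₀ _ (EtFound.liftPt f (η := η) rfl v) s₂ := by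
    have a₁ : germ F' ξ₀ _ (EtFound.liftPt f (η := η) rfl v) s₁ =
        germ F' ξ₀ _ (EtFound.liftPt f (η := η) rfl v₁) x₁.1 :=
      (germ_map F' ξ₀ ((EtCoh.bc f).map b₁) _ _).trans
        (congrArg (fun t => germ F' ξ₀ _ t x₁.1) ((EtFound.liftPt_map f _ b₁ v).trans (congrArg _ hv₁)))
    have a₂ : germ F' ξ₀ _ (EtFound.liftPt f (η := η) rfl v) s₂ =
        germ F' ξ₀ _ (EtFound.liftPt f (η := η) rfl v₂) x₂.1 :=
      (germ_map F' ξ₀ ((EtCoh.bc f).map b₂) _ _).trans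
        (congrArg (fun t => germ F' ξ₀ _ t x₂.1) ((EtFound.liftPt_map f _ b₂ v).trans (congrArg _ hv₂)))
    exact a₁.trans (Eq.trans he a₂.symm)
  let L : Set ↥((EtCoh.bc f).obj V₃).left := {z | LocEq F'.obj s₁ s₂ z}
  have hsat : ∀ z z' : ↥((EtCoh.bc f).obj V₃).left,
      pullback.fst V₃.hom f z = pullback.fst V₃.hom f z' → z ∈ L → z' ∈ L := by
    intro z z' e hz
    obtain ⟨o, ho₁, ho₂⟩ := Scheme.Pullback.exists_preimage_pullback (f := pullback.fst V₃.hom f)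
      (g := pullback.fst V₃.hom f) z z' e
    obtain ⟨Ω', _, _, ρ, hρ⟩ := exists_geometric o
    let k := ρ ≫ pullback.fst (pullback.fst V₃.hom f) (pullback.fst V₃.hom f)
    let k' := ρ ≫ pullback.snd (pullback.fst V₃.hom f) (pullback.fst V₃.hom f)
    have ek : k ≫ pullback.fst V₃.hom f = k' ≫ pullback.fst V₃.hom f := by simp only [k, k', Category.assoc, pullback.condition]
    obtain ⟨ha, ea⟩ := rel_of_lhs_eq_side φ hφ ((Gl).obj.map b₁.op x₁).2 k k' ek
    obtain ⟨hb, eb⟩ := rel_of_lhs_eq_side φ hφ ((Gl).obj.map b₂.op x₂).2 k k' ek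
    have h0 : germ F' (k ≫ ((EtCoh.bc f).obj V₃).hom) _ (ptMk k rfl) s₁ = germ F' _ _ (ptMk k rfl) s₂ :=
      germ_eq_of_locEq' F' hz _ _ ((Scheme.Hom.comp_apply _ _ _).trans ((congrArg _ hρ).trans ho₁))
    let t' : (Scheme.pointSmallEtale (k' ≫ ((EtCoh.bc f).obj V₃).hom)).fiber.obj ((EtCoh.bc f).obj V₃) := ptMk k' rfl
    exact locEq_of_germ (k' ≫ ((EtCoh.bc f).obj V₃).hom) t' (ea.symm.trans ((congrArg _ h0).trans eb)) z'
      ((Scheme.Hom.comp_apply _ _ _).trans ((congrArg _ hρ).trans ho₂))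
  have hpre : pullback.fst V₃.hom f ⁻¹' (pullback.fst V₃.hom f '' L) = L := Set.ext fun z =>
    ⟨fun ⟨z', h', e⟩ => hsat z' z e h', fun h => ⟨z, h, rfl⟩⟩
  let N : V₃.left.Opens := ⟨pullback.fst V₃.hom f '' L,
    (fst_surjective_isQuotientMap f hf V₃.hom).2.isOpen_preimage.1 (hpre.symm ▸ isOpen_locEq s₁ s₂)⟩
  have hlN : l.base (default : Spec (CommRingCat.of Ω)) ∈ N := by
    refine ⟨_, locEq_of_germ ξ₀ (EtFound.liftPt f (η := η) rfl v) he' _ rfl, ?_⟩
    exact (Scheme.Hom.comp_apply _ _ _).symm.trans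
      (congrArg (fun j : Spec (CommRingCat.of Ω) ⟶ V₃.left => j.base default) (EtFound.liftPt_fst f _ v))
  let j := EtFound.restrictEtaleHom V₃ N
  obtain ⟨v', hv', -⟩ := EtFound.exists_lift_point j v ⟨_, hlN⟩ rfl
  rw [← hv', ← germ_map, ← germ_map]
  refine congrArg _ (Subtype.ext (eq_of_locEq F' fun z => ?_))
  show LocEq F'.obj (F'.obj.map ((EtCoh.bc f).map j).op s₁) (F'.obj.map ((EtCoh.bc f).map j).op s₂) z
  refine LocEq.map _ ?_
  obtain ⟨z', hz', e⟩ : pr f V₃ (((EtCoh.bc f).map j).left z) ∈ pullback.fst V₃.hom f '' L := by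
    rw [pr_map]
    exact Subtype.coe_prop (pr f (EtFound.restrictEtale V₃ N) z)
  exact hsat z' _ e hz'

theorem psi_stalk_surjective_of_lift
    {Ω : Type u} [Field Ω] [IsSepClosed Ω] (ξ₀ : Spec (CommRingCat.of Ω) ⟶ X')
    (H : ∀ c₀ : St F' ξ₀, ∃ (V : X.Etale) (v : (Scheme.pointSmallEtale (ξ₀ ≫ f)).fiber.obj V)
      (s : ToType (F'.obj.obj (op ((EtCoh.bc f).obj V)))),
      lhs f (pullback.fst f f) (pullback.snd f f) (pullback.fst f f ≫ f) rfl φ.hom V s =
        side (pullback.fst f f ≫ f) (pullback.snd f f) f pullback.condition.symm F' V s ∧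
      germ F' ξ₀ _ (EtFound.liftPt f rfl v) s = c₀) :
    Function.Surjective ((Scheme.pointSmallEtale ξ₀).presheafFiber.map (ψψ).hom) := by
  intro c₀
  obtain ⟨V, v, s, hs, hc⟩ := H c₀
  let x : ToType ((Gl).obj.obj (op V)) := ⟨s, hs⟩
  exact ⟨germ ((EtDesc.pullSh f).obj Gl) ξ₀ ((EtCoh.bc f).obj V) (EtFound.liftPt f rfl v) (up f Gl V x),
    (psi_germ f φ rfl v x).trans hc⟩

theorem isEffective_of_lift (hφ : EtDesc.IsCocycle F' φ) (hf : EtDesc.IsUnivSubmersive f)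
    (H : ∀ (Ω : Type u) [Field Ω] [IsAlgClosed Ω] (ξ₀ : Spec (CommRingCat.of Ω) ⟶ X') (c₀ : St F' ξ₀),
      ∃ (V : X.Etale) (v : (Scheme.pointSmallEtale (ξ₀ ≫ f)).fiber.obj V) (s : ToType (F'.obj.obj (op ((EtCoh.bc f).obj V)))),
      lhs f (pullback.fst f f) (pullback.snd f f) (pullback.fst f f ≫ f) rfl φ.hom V s =
        side (pullback.fst f f ≫ f) (pullback.snd f f) f pullback.condition.symm F' V s ∧
      germ F' ξ₀ _ (EtFound.liftPt f rfl v) s = c₀) :
    EtDesc.IsEffective f F' φ := by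
  haveI : IsIso (ψψ) := by
    refine EtFound.isIso_of_stalks _ fun Ω₀ _ _ ξ => ?_
    let Ω := AlgebraicClosure Ω₀
    let l : Spec (CommRingCat.of Ω) ⟶ Spec (CommRingCat.of Ω₀) :=
      Spec.map (CommRingCat.ofHom (algebraMap Ω₀ Ω))
    have : IsIso ((Scheme.pointSmallEtale (l ≫ ξ)).sheafFiber.map (ψψ)) :=
      (ConcreteCategory.isIso_iff_bijective _).2
        ⟨psi_stalk_injective_of_univSubmersive φ hφ hf (l ≫ ξ), psi_stalk_surjective_of_lift φ (l ≫ ξ) (H Ω (l ≫ ξ))⟩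
    have := (NatIso.isIso_map_iff (EtFound.stalkExtIso (Type (u + 1)) ξ l) (ψψ)).2 this
    exact (ConcreteCategory.isIso_iff_bijective ((Scheme.pointSmallEtale ξ).sheafFiber.map (ψψ))).1 this
  refine ⟨Gl, asIso (ψψ), ?_⟩
  rw [canIso_eq]
  exact compat_iso _ _ ((EtDesc.pullSh (pullback.fst f f)).mapIso (asIso ψψ))
    ((EtDesc.pullSh (pullback.snd f f)).mapIso (asIso ψψ)) φ
    (gluePsi_compat f (pullback.fst f f) (pullback.snd f f) (pullback.fst f f ≫ f) rfl pullback.condition.symm φ.hom)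

/-- A cover with compatible sections gives an element of the glued stalk. -/
theorem exists_lift_of_cover (hφ : EtDesc.IsCocycle F' φ) {Ω : Type u} [Field Ω] [IsSepClosed Ω]
    (ξ₀ : Spec (CommRingCat.of Ω) ⟶ X') (c₀ : St F' ξ₀)
    {V : X.Etale} (v : (Scheme.pointSmallEtale (ξ₀ ≫ f)).fiber.obj V) {W : Scheme.{u}} (q : W ⟶ V.left)
    (hq : EtDesc.IsUnivSubmersive q) {U : X'.Etale} (s₀ : ToType (F'.obj.obj (op U))) (u : W ⟶ U.left)
    (w : (u ≫ U.hom) ≫ f = q ≫ V.hom)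
    (hm : ∀ (Ω : Type u) [Field Ω] [IsSepClosed Ω] (ω₁ ω₂ : Spec (CommRingCat.of Ω) ⟶ W), ω₁ ≫ q = ω₂ ≫ q →
      Rel φ s₀ (ω₁ ≫ u) s₀ (ω₂ ≫ u))
    (ω₀ : Spec (CommRingCat.of Ω) ⟶ W) (hω₀ : ω₀ ≫ q = (v.left : Spec (CommRingCat.of Ω) ⟶ V.left))
    (h₀ : ((ω₀ ≫ u) ≫ U.hom) ≫ f = ξ₀ ≫ f)
    (hc : Phi φ.hom pb ((ω₀ ≫ u) ≫ U.hom) ξ₀ h₀ (germ F' _ U (ptMk (ω₀ ≫ u) rfl) s₀) = c₀) :
    ∃ (s : ToType (F'.obj.obj (op ((EtCoh.bc f).obj V)))),
      lhs f (pullback.fst f f) (pullback.snd f f) (pullback.fst f f ≫ f) rfl φ.hom V s =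
        side (pullback.fst f f ≫ f) (pullback.snd f f) f pullback.condition.symm F' V s ∧
      germ F' ξ₀ _ (EtFound.liftPt f rfl v) s = c₀ := by
  obtain ⟨s, hs⟩ := exists_spread φ hφ q hq s₀ u w hm
  refine ⟨s, lhs_eq_side φ hφ s fun z => ?_, ?_⟩
  · obtain ⟨p, hp⟩ := (fst_surjective_isQuotientMap q hq (pullback.fst V.hom (pullback.fst f f ≫ f))).1 z
    obtain ⟨Ω', _, _, τ, hτ⟩ := exists_geometric p
    let k := τ ≫ pullback.fst (pullback.fst V.hom (pullback.fst f f ≫ f)) q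
    let ω := τ ≫ pullback.snd (pullback.fst V.hom (pullback.fst f f ≫ f)) q
    have hk : k ≫ pullback.fst V.hom (pullback.fst f f ≫ f) = ω ≫ q := by simp only [k, ω, Category.assoc, pullback.condition]
    refine ⟨Ω', inferInstance, inferInstance, k, (Scheme.Hom.comp_apply _ _ _).trans ((congrArg _ hτ).trans hp), ?_⟩
    exact ((hs Ω' ω (k ≫ side₁ f V) ((Category.assoc _ _ _).trans ((congrArg (k ≫ ·) (pullback.lift_fst _ _ _)).trans hk))).symm hφ).trans hφ
      (hs Ω' ω (k ≫ side₂ f V) ((Category.assoc _ _ _).trans ((congrArg (k ≫ ·) (pullback.lift_fst _ _ _)).trans hk)))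
  · have R := hs Ω ω₀ ((EtFound.liftPt f rfl v).left) ((EtFound.liftPt_fst f rfl v).trans hω₀.symm)
    exact ((rel_iff φ (ptMk (ω₀ ≫ u) rfl) (EtFound.liftPt f rfl v) rfl rfl h₀).1 R).symm.trans hc

end Groth.Agent.BigSiteLib.DescSec
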