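import Groth.Agent.BigSiteLib.EtDescSec.Criterion
import Groth.Agent.GeomSep.Basic
import Groth.Agent.FDescent.UnivOpen
import Groth.Agent.H23.FinDiscrete
import Groth.Agent.UnibEtale.Comp
import Groth.Agent.EtFound.TopInv
import Mathlib.RingTheory.Etale.StandardEtale
import Mathlib.FieldTheory.SeparableClosure

/-!
# Effectivity of descent over a discrete base
-/

set_option autoImplicit false

universe u

open CategoryTheory CategoryTheory.Limits AlgebraicGeometry Opposite TopologicalSpace Polynomial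
open scoped TensorProduct

namespace Groth.Agent.BigSiteLib.DescSec

set_option backward.isDefEq.respectTransparency.types false

theorem isUnivSubmersive_of_open {X Y : Scheme.{u}} (f : X ⟶ Y) [UniversallyOpen f] [Surjective f] :
    EtDesc.IsUnivSubmersive f := fun T g => by
  have : Surjective (pullback.snd f g) := MorphismProperty.pullback_snd f g inferInstance
  exact ⟨(pullback.snd f g).surjective,
    (Scheme.Hom.isOpenMap (pullback.snd f g)).isQuotientMap (pullback.snd f g).continuous (pullback.snd f g).surjective⟩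

/-- Geometric points of an etale scheme over a separably closed field factor through its sections. -/
theorem point_factor {Ω : Type u} [Field Ω] {P : Scheme.{u}} (p : P ⟶ Spec (CommRingCat.of Ω)) [Etale p]
    (l : Spec (CommRingCat.of Ω) ⟶ P) (hl : l ≫ p = 𝟙 _) {R : Scheme.{u}} (r : R ⟶ P)
    (hr : ∀ z : R, r.base z = l.base (default : Spec (CommRingCat.of Ω))) : r = (r ≫ p) ≫ l := by
  haveI : Etale (l ≫ p) := hl ▸ inferInstance
  haveI : Etale l := Etale.of_comp l p
  haveI : Mono l := SplitMono.mono ⟨p, hl⟩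
  haveI : IsOpenImmersion l := IsOpenImmersion.of_flat_of_mono l
  let j := IsOpenImmersion.lift l r (by rintro _ ⟨z, rfl⟩; exact ⟨default, (hr z).symm⟩)
  have hj : j ≫ l = r := IsOpenImmersion.lift_fac _ _ _
  calc r = j ≫ l := hj.symm
    _ = (r ≫ p) ≫ l := by rw [← hj, Category.assoc j l p, hl, Category.comp_id]

variable {X' X : Scheme.{u}} (f : X' ⟶ X) {F' : EtDesc.Sh X'}
  (φ : (EtDesc.pullSh (pullback.fst f f)).obj F' ≅ (EtDesc.pullSh (pullback.snd f f)).obj F')

/-- Over a separably closed field every germ of a pullback comes from a lift of the point. -/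
theorem exists_germ_at {Ω Ω' : Type u} [Field Ω] [IsSepClosed Ω] [Field Ω'] [IsSepClosed Ω']
    (ξ₀ : Spec (CommRingCat.of Ω) ⟶ X') (β : Spec (CommRingCat.of Ω') ⟶ Spec (CommRingCat.of Ω)) {ξ : Spec (CommRingCat.of Ω') ⟶ X'}
    (hξ : β ≫ ξ₀ = ξ) (c : St F' ξ) :
    ∃ (U₁ : X'.Etale) (x₁ : ToType (F'.obj.obj (op U₁))) (u₁ : Spec (CommRingCat.of Ω) ⟶ U₁.left) (h₁ : u₁ ≫ U₁.hom = ξ₀),
      germ F' ξ U₁ (ptMk (β ≫ u₁) ((Category.assoc _ _ _).trans ((congrArg (β ≫ ·) h₁).trans hξ))) x₁ = c := by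
  obtain ⟨U₁, t₁, x₁, hx⟩ := germ_surjective F' ξ c
  haveI : Etale U₁.hom := U₁.prop
  let P := pullback U₁.hom ξ₀
  let p : P ⟶ Spec (CommRingCat.of Ω) := pullback.snd U₁.hom ξ₀
  haveI : Etale p := MorphismProperty.pullback_snd _ _ inferInstance
  let r : Spec (CommRingCat.of Ω') ⟶ P := pullback.lift (t₁.left : Spec (CommRingCat.of Ω') ⟶ U₁.left) β
    ((CategoryTheory.Over.w t₁).trans hξ.symm)
  obtain ⟨l, hl, hl'⟩ := Scheme.exists_fac_of_etale_of_isSepClosed p (𝟙 _) (r.base default) (Subsingleton.elim _ _)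
  have hr := point_factor p l hl r fun z => by rw [Subsingleton.elim z default, hl']
  refine ⟨U₁, x₁, l ≫ pullback.fst U₁.hom ξ₀, ?_, ?_⟩
  · rw [Category.assoc, pullback.condition, ← Category.assoc, hl, Category.id_comp]
  · refine (congrArg (fun t => germ F' ξ U₁ t x₁) (fib_ext ?_)).trans hx
    have e : r ≫ p = β := pullback.lift_snd _ _ _
    have e' : β ≫ l = r := e ▸ hr.symm
    show β ≫ l ≫ pullback.fst U₁.hom ξ₀ = _
    exact (Category.assoc _ _ _).symm.trans ((congrArg (· ≫ pullback.fst U₁.hom ξ₀) e').trans (pullback.lift_fst _ _ _))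

/-- Two sections through one point of `Spec Ω` agree at all its geometric points once they agree at one. -/
theorem rel_spread {Ω : Type u} [Field Ω] [IsSepClosed Ω] (hφ : EtDesc.IsCocycle F' φ) {U U₁ : X'.Etale}
    {s : ToType (F'.obj.obj (op U))} {x : ToType (F'.obj.obj (op U₁))}
    (u₀ : Spec (CommRingCat.of Ω) ⟶ U.left) (u₁ : Spec (CommRingCat.of Ω) ⟶ U₁.left) (h : u₀ ≫ U.hom = u₁ ≫ U₁.hom)
    {Ω₁ Ω₂ : Type u} [Field Ω₁] [IsSepClosed Ω₁] [Field Ω₂] [IsSepClosed Ω₂]
    (ρ₁ : Spec (CommRingCat.of Ω₁) ⟶ Spec (CommRingCat.of Ω)) (ρ₂ : Spec (CommRingCat.of Ω₂) ⟶ Spec (CommRingCat.of Ω))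
    (hR : Rel φ s (ρ₁ ≫ u₀) x (ρ₁ ≫ u₁)) : Rel φ s (ρ₂ ≫ u₀) x (ρ₂ ≫ u₁) := by
  haveI : Etale U.hom := U.prop
  haveI : Etale (pullback.fst U.hom U₁.hom) := MorphismProperty.pullback_fst _ _ (show Etale U₁.hom from U₁.prop)
  let Z : X'.Etale := Scheme.Etale.mk (pullback.fst U.hom U₁.hom ≫ U.hom)
  let m₁ : Z ⟶ U := MorphismProperty.Over.homMk (pullback.fst U.hom U₁.hom) rfl
  let m₂ : Z ⟶ U₁ := MorphismProperty.Over.homMk (pullback.snd U.hom U₁.hom) pullback.condition.symm
  let z : Spec (CommRingCat.of Ω) ⟶ Z.left := pullback.lift u₀ u₁ h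
  have key : ∀ {Ω' : Type u} [Field Ω'] [IsSepClosed Ω'] (ρ : Spec (CommRingCat.of Ω') ⟶ Spec (CommRingCat.of Ω)),
      Rel φ s (ρ ≫ u₀) x (ρ ≫ u₁) ↔ germ F' _ Z (ptMk (ρ ≫ z) rfl) (F'.obj.map m₁.op s) =
        germ F' _ Z (ptMk (ρ ≫ z) rfl) (F'.obj.map m₂.op x) := fun {Ω'} _ _ ρ => by
    rw [germ_map, germ_map]
    exact rel_self φ hφ _ _ ((Category.assoc _ _ _).trans (congrArg (ρ ≫ ·) (pullback.lift_fst _ _ _)))
      ((Category.assoc _ _ _).trans (congrArg (ρ ≫ ·) (pullback.lift_snd _ _ _)))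
  refine (key ρ₂).2 (germ_eq_of_locEq' F' (locEq_of_germ _ _ ((key ρ₁).1 hR) (z.base default)
    ((Scheme.Hom.comp_apply _ _ _).trans (congrArg _ (Subsingleton.elim _ _)))) _ _ ?_)
  exact (Scheme.Hom.comp_apply _ _ _).trans (congrArg _ (Subsingleton.elim _ _))

variable {f}

/-- The locus of the self-product of a geometric point where the germ is preserved is cut out by an idempotent. -/
theorem exists_pair_idempotent (hφ : EtDesc.IsCocycle F' φ) {A : Type u} [CommRing A] {Ω : Type u} [Field Ω] [IsSepClosed Ω]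
    [Algebra A Ω] (j : Spec (CommRingCat.of A) ⟶ X) {U : X'.Etale} (s : ToType (F'.obj.obj (op U)))
    (u₀ : Spec (CommRingCat.of Ω) ⟶ U.left)
    (hu : (u₀ ≫ U.hom) ≫ f = Spec.map (CommRingCat.ofHom (algebraMap A Ω)) ≫ j) :
    ∃ e : Ω ⊗[A] Ω, IsIdempotentElem e ∧ Algebra.TensorProduct.lmul' A (S := Ω) e = 1 ∧
      ∀ (Ω' : Type u) [Field Ω'] [IsSepClosed Ω'] (χ : Ω ⊗[A] Ω →+* Ω'), χ e ≠ 0 →
        Rel φ s (Spec.map (CommRingCat.ofHom (χ.comp Algebra.TensorProduct.includeLeftRingHom)) ≫ u₀) s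
          (Spec.map (CommRingCat.ofHom (χ.comp (Algebra.TensorProduct.includeRight (R := A)).toRingHom)) ≫ u₀) := by
  let R := Spec (CommRingCat.of (Ω ⊗[A] Ω))
  let a : R ⟶ Spec (CommRingCat.of Ω) := Spec.map (CommRingCat.ofHom Algebra.TensorProduct.includeLeftRingHom)
  let b : R ⟶ Spec (CommRingCat.of Ω) := Spec.map (CommRingCat.ofHom (Algebra.TensorProduct.includeRight (R := A)).toRingHom)
  have hab : a ≫ (u₀ ≫ U.hom) ≫ f = b ≫ (u₀ ≫ U.hom) ≫ f := by
    rw [hu, ← Category.assoc, ← Category.assoc]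
    refine congrArg (· ≫ j) ?_
    simp only [a, b, ← Spec.map_comp, ← CommRingCat.ofHom_comp]
    congr 2
    ext r
    exact Algebra.TensorProduct.tmul_one_eq_one_tmul r
  obtain ⟨E, hE⟩ := exists_relOpen f φ s s (a ≫ u₀) (b ≫ u₀) (by simp only [Category.assoc] at hab ⊢; exact hab)
  have hclosed : IsOpen ((E : Set R)ᶜ) := by
    refine isOpen_iff_forall_mem_open.2 fun p hp => ?_
    obtain ⟨Ω', _, _, τ, hτ⟩ := exists_geometric p
    have h' : ((τ ≫ a ≫ u₀) ≫ U.hom) ≫ f = ((τ ≫ b ≫ u₀) ≫ U.hom) ≫ f := by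
      simp only [Category.assoc] at hab ⊢
      rw [hab]
    obtain ⟨U₁, x₁, u₁, h₁, hx⟩ := exists_germ_at (F' := F') (u₀ ≫ U.hom) (τ ≫ b) (ξ := (τ ≫ b ≫ u₀) ≫ U.hom)
      (by simp only [Category.assoc]) (Phi φ.hom (IsPullback.of_hasPullback f f) _ _ h' (germ F' _ U (ptMk (τ ≫ a ≫ u₀) rfl) s))
    obtain ⟨E₁, hE₁⟩ := exists_relOpen f φ s x₁ (a ≫ u₀) (b ≫ u₁) (by
      simp only [Category.assoc] at hab h₁ ⊢
      rw [reassoc_of% h₁]
      exact hab)
    have hp₁ : p ∈ E₁ := by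
      rw [← hτ]
      refine (hE₁ Ω' τ).2 ((rel_iff φ (ptMk (τ ≫ a ≫ u₀) rfl) (ptMk ((τ ≫ b) ≫ u₁) _) rfl ?_ h').2 hx.symm)
      exact Category.assoc _ _ _
    refine ⟨E₁, fun r hr₁ hrE => hp ?_, E₁.2, hp₁⟩
    obtain ⟨Ω'', _, _, ρ, hρ⟩ := exists_geometric r
    have R₁ := (hE₁ Ω'' ρ).1 (hρ.symm ▸ hr₁)
    have R₂ := (hE Ω'' ρ).1 (hρ.symm ▸ hrE)
    have R₃ := (R₂.symm hφ).trans hφ R₁
    rw [← Category.assoc, ← Category.assoc] at R₃
    have R₄ := rel_spread f φ hφ u₀ u₁ h₁.symm (ρ ≫ b) (τ ≫ b) R₃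
    rw [Category.assoc, Category.assoc] at R₄
    rw [← hτ]
    exact (hE Ω' τ).2 (((hE₁ Ω' τ).1 (hτ.symm ▸ hp₁)).trans hφ (R₄.symm hφ))
  obtain ⟨e, he, heE⟩ := PrimeSpectrum.exists_idempotent_basicOpen_eq_of_isClopen
    (s := SetLike.coe E) ⟨isOpen_compl_iff.1 hclosed, E.2⟩
  refine ⟨e, he, ?_, fun Ω' _ _ χ hχ => ?_⟩
  · let d := Spec.map (CommRingCat.ofHom (Algebra.TensorProduct.lmul' A (S := Ω)).toRingHom)
    have h1 : d ≫ a = 𝟙 _ := by
      simp only [d, a, ← Spec.map_comp, ← CommRingCat.ofHom_comp]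
      rw [← Spec.map_id]
      congr 2
      ext r
      simp
    have h2 : d ≫ b = 𝟙 _ := by
      simp only [d, b, ← Spec.map_comp, ← CommRingCat.ofHom_comp]
      rw [← Spec.map_id]
      congr 2
      ext r
      simp
    have hd : d.base (default : Spec (CommRingCat.of Ω)) ∈ E := (hE Ω d).2 (by
      rw [← Category.assoc, h1, ← Category.assoc, h2, Category.id_comp]
      exact (rel_self φ hφ (ptMk u₀ rfl) (ptMk u₀ rfl) rfl rfl).2 rfl)
    have hne : Algebra.TensorProduct.lmul' A (S := Ω) e ≠ 0 := fun h0 => by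
      have := (Set.ext_iff.1 heE _).1 hd
      exact this (by
        show (Algebra.TensorProduct.lmul' A (S := Ω)) e ∈ (default : Spec (CommRingCat.of Ω)).asIdeal
        rw [h0]; exact zero_mem _)
    exact ((IsIdempotentElem.iff_eq_zero_or_one).1 (he.map (Algebra.TensorProduct.lmul' A (S := Ω)))).resolve_left hne
  · let τ := Spec.map (CommRingCat.ofHom χ)
    have hτ : τ.base (default : Spec (CommRingCat.of Ω')) ∈ E := (Set.ext_iff.1 heE _).2 fun (h : e ∈ (τ.base (default : Spec (CommRingCat.of Ω'))).asIdeal) => by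
      have h' : χ e ∈ (default : Spec (CommRingCat.of Ω')).asIdeal := h
      rw [(Ideal.eq_bot_or_top _).resolve_right (default : Spec (CommRingCat.of Ω')).isPrime.ne_top] at h'
      exact hχ (by simpa using h')
    have := (hE Ω' τ).1 hτ
    rw [← Category.assoc, ← Category.assoc] at this
    simp only [τ, a, b, ← Spec.map_comp, ← CommRingCat.ofHom_comp] at this
    exact this

/-- The idempotent is killed by finitely many separable elements. -/
theorem exists_finite_separable {A : Type u} [CommRing A] (k : Type u) [Field k] [Algebra A k] {Ω : Type u} [Field Ω]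
    [IsAlgClosed Ω] [Algebra A Ω] [Algebra k Ω] [IsScalarTower A k Ω] (e : Ω ⊗[A] Ω) (he : IsIdempotentElem e)
    (he1 : Algebra.TensorProduct.lmul' A (S := Ω) e = 1) :
    ∃ S : Finset Ω, (∀ a ∈ S, IsSeparable k a) ∧ ∀ (Ω' : Type u) [Field Ω'] (χ : Ω ⊗[A] Ω →+* Ω'),
      (∀ a ∈ S, χ (a ⊗ₜ 1) = χ (1 ⊗ₜ a)) → χ e ≠ 0 := by
  classical
  let ks := separableClosure k Ω
  haveI : IsSepClosed ks := by
    exact IsSepClosure.sep_closed k
  let G : Set (Ω ⊗[A] Ω) := (fun a : Ω => a ⊗ₜ[A] (1 : Ω) - 1 ⊗ₜ[A] a) '' {a | IsSeparable k a}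
  have htop : Ideal.span (insert e G) = ⊤ := by
    by_contra hne
    obtain ⟨M, hM, hle⟩ := Ideal.exists_le_maximal _ hne
    haveI := hM
    let K := (Ω ⊗[A] Ω) ⧸ M
    let χ := Ideal.Quotient.mk M
    have hks : ∀ a : ks, χ ((a : Ω) ⊗ₜ 1) = χ (1 ⊗ₜ (a : Ω)) := fun a =>
      Ideal.Quotient.eq.2 (hle (Ideal.subset_span (Set.mem_insert_of_mem _ ⟨a, mem_separableClosure_iff.1 a.2, rfl⟩)))
    letI : Algebra A ks := ((algebraMap k ks).comp (algebraMap A k)).toAlgebra
    haveI : IsScalarTower A ks Ω := IsScalarTower.of_algebraMap_eq fun r => IsScalarTower.algebraMap_apply A k Ω r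
    let L : Ω →ₐ[ks] K := { (χ.comp Algebra.TensorProduct.includeLeftRingHom) with commutes' := fun _ => rfl }
    let R : Ω →ₐ[ks] K := { (χ.comp (Algebra.TensorProduct.includeRight (R := A)).toRingHom) with commutes' := fun a => (hks a).symm }
    let P := Algebra.TensorProduct.lift L R fun _ _ => Commute.all _ _
    let π : Ω ⊗[A] Ω →ₐ[A] Ω ⊗[ks] Ω := Algebra.TensorProduct.lift
      ((Algebra.TensorProduct.includeLeft (R := ks) (S := ks) (A := Ω) (B := Ω)).restrictScalars A)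
      ((Algebra.TensorProduct.includeRight (R := ks) (A := Ω) (B := Ω)).restrictScalars A) fun _ _ => Commute.all _ _
    have hP : P.toRingHom.comp π.toRingHom = χ := by
      refine Algebra.TensorProduct.ringHom_ext ?_ ?_ <;> ext r <;> simp [P, π, L, R, ← Algebra.TensorProduct.one_def]
    haveI := GeomSep.irreducibleSpace_tensor_fields (k := ks) Ω Ω
    have hπ : π e = 1 := by
      have hI : π e = 0 ∨ π e = 1 := by
        rcases isClopen_iff.1 (PrimeSpectrum.isClopen_iff.2 ⟨π e, he.map π, rfl⟩) with h | h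
        · exact Or.inl (PrimeSpectrum.basicOpen_injOn_isIdempotentElem (he.map π) IsIdempotentElem.zero
            (SetLike.ext' (h.trans (by simp))))
        · exact Or.inr (PrimeSpectrum.basicOpen_injOn_isIdempotentElem (he.map π) IsIdempotentElem.one
            (SetLike.ext' (h.trans (by simp))))
      refine hI.resolve_left fun h0 => ?_
      have hcomp : (Algebra.TensorProduct.lmul' ks (S := Ω)).toRingHom.comp π.toRingHom =
          (Algebra.TensorProduct.lmul' A (S := Ω)).toRingHom := by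
        refine Algebra.TensorProduct.ringHom_ext ?_ ?_ <;> ext r <;> simp [π]
      have := RingHom.congr_fun hcomp e
      simp [h0, he1] at this
    have h1 : χ e = 1 := by
      rw [← hP]
      simp [hπ]
    exact one_ne_zero (h1.symm.trans (Ideal.Quotient.eq_zero_iff_mem.2 (hle (Ideal.subset_span (Set.mem_insert _ _)))))
  obtain ⟨T, hT, h1⟩ := Submodule.mem_span_finite_of_mem_span ((Ideal.eq_top_iff_one _).1 htop)
  have : ∀ g ∈ T.erase e, ∃ a : Ω, IsSeparable k a ∧ a ⊗ₜ[A] (1 : Ω) - 1 ⊗ₜ[A] a = g := fun g hg => by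
    obtain ⟨hne, hg⟩ := Finset.mem_erase.1 hg
    exact (hT hg).resolve_left hne
  choose a ha hga using this
  refine ⟨(T.erase e).attach.image fun g => a g.1 g.2, fun b hb => ?_, fun Ω' _ χ hχ h0 => ?_⟩
  · obtain ⟨g, -, rfl⟩ := Finset.mem_image.1 hb
    exact ha g.1 g.2
  · have hker : (T : Set (Ω ⊗[A] Ω)) ⊆ RingHom.ker χ := fun g hg => by
      by_cases hge : g = e
      · rw [hge]; exact h0
      · have hg' : g ∈ T.erase e := Finset.mem_erase.2 ⟨hge, hg⟩
        rw [← hga g hg']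
        simp only [SetLike.mem_coe, RingHom.mem_ker, map_sub, sub_eq_zero]
        exact hχ _ (Finset.mem_image.2 ⟨⟨g, hg'⟩, Finset.mem_attach _ _, rfl⟩)
    have := Ideal.span_le.2 hker h1
    simp at this

/-- An etale neighbourhood separating finitely many separable elements. -/
theorem exists_separating {A : Type u} [CommRing A] (k : Type u) [Field k] [Algebra A k]
    (hk : Function.Surjective (algebraMap A k)) {Ω : Type u} [Field Ω] [IsAlgClosed Ω] [Algebra A Ω] [Algebra k Ω]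
    [IsScalarTower A k Ω] (j : Spec (CommRingCat.of A) ⟶ X) [Etale j] (S : Finset Ω) (hS : ∀ a ∈ S, IsSeparable k a) :
    ∃ (V : X.Etale) (v : Spec (CommRingCat.of Ω) ⟶ V.left), v ≫ V.hom = Spec.map (CommRingCat.ofHom (algebraMap A Ω)) ≫ j ∧
      ∀ (Ω' : Type u) [Field Ω'] (ψ₁ ψ₂ : Ω →+* Ω'),
        Spec.map (CommRingCat.ofHom ψ₁) ≫ v = Spec.map (CommRingCat.ofHom ψ₂) ≫ v → ∀ a ∈ S, ψ₁ a = ψ₂ a := by
  classical
  induction S using Finset.induction_on with
  | empty => exact ⟨Scheme.Etale.mk j, Spec.map (CommRingCat.ofHom (algebraMap A Ω)), rfl, fun _ _ _ _ _ a ha => absurd ha (Finset.notMem_empty a)⟩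
  | insert a S _ ih =>
    obtain ⟨V, v, hv, hV⟩ := ih fun b hb => hS b (Finset.mem_insert_of_mem hb)
    have hsep : IsSeparable k a := hS a (Finset.mem_insert_self _ _)
    obtain ⟨g, hg, -, hgm⟩ := Polynomial.lifts_and_degree_eq_and_monic
      ((Polynomial.mem_lifts _).2 (Polynomial.map_surjective _ hk (minpoly k a))) (minpoly.monic hsep.isIntegral)
    let Q : StandardEtalePair A := ⟨g, hgm, derivative g, 1, 0, 1, by simp⟩
    have hmap : Q.HasMap a := by
      refine ⟨?_, isUnit_iff_ne_zero.2 ?_⟩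
      · show aeval a g = 0
        rw [← aeval_map_algebraMap k, hg, minpoly.aeval]
      · show aeval a (derivative g) ≠ 0
        rw [← aeval_map_algebraMap k, ← derivative_map, hg]
        exact Polynomial.Separable.aeval_derivative_ne_zero hsep (minpoly.aeval k a)
    haveI : Etale (Spec.map (CommRingCat.ofHom (algebraMap A Q.Ring))) :=
      (HasRingHomProperty.Spec_iff (P := @Etale)).2 (RingHom.etale_algebraMap.2 inferInstance)
    let Va : X.Etale := Scheme.Etale.mk (Spec.map (CommRingCat.ofHom (algebraMap A Q.Ring)) ≫ j)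
    let va : Spec (CommRingCat.of Ω) ⟶ Va.left := Spec.map (CommRingCat.ofHom (Q.lift a hmap).toRingHom)
    have hva : va ≫ Va.hom = Spec.map (CommRingCat.ofHom (algebraMap A Ω)) ≫ j := by
      show va ≫ Spec.map _ ≫ j = _
      rw [← Category.assoc]
      refine congrArg (· ≫ j) ((Spec.map_comp _ _).symm.trans (congrArg Spec.map (CommRingCat.hom_ext ?_)))
      exact (Q.lift a hmap).comp_algebraMap
    haveI : Etale V.hom := V.prop
    haveI : Etale (pullback.fst V.hom Va.hom) := MorphismProperty.pullback_fst _ _ (show Etale Va.hom from Va.prop)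
    refine ⟨Scheme.Etale.mk (pullback.fst V.hom Va.hom ≫ V.hom), pullback.lift v va (hv.trans hva.symm), ?_, ?_⟩
    · exact (Category.assoc _ _ _).symm.trans ((congrArg (· ≫ V.hom) (pullback.lift_fst _ _ _)).trans hv)
    · intro Ω' _ ψ₁ ψ₂ h b hb
      rcases Finset.mem_insert.1 hb with he | hb
      · have h' := congrArg (fun t => t ≫ pullback.snd V.hom Va.hom) h
        replace h' : Spec.map (CommRingCat.ofHom ψ₁) ≫ va = Spec.map (CommRingCat.ofHom ψ₂) ≫ va := by
          have e := pullback.lift_snd v va (hv.trans hva.symm)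
          exact ((congrArg (Spec.map (CommRingCat.ofHom ψ₁) ≫ ·) e).symm.trans (Category.assoc _ _ _).symm).trans
            (h'.trans ((Category.assoc _ _ _).trans (congrArg (_ ≫ ·) e)))
        have h'' : ψ₁.comp (Q.lift a hmap).toRingHom = ψ₂.comp (Q.lift a hmap).toRingHom :=
          congrArg CommRingCat.Hom.hom (Spec.map_injective ((Spec.map_comp _ _).trans (h'.trans (Spec.map_comp _ _).symm)) :
            CommRingCat.ofHom (Q.lift a hmap).toRingHom ≫ CommRingCat.ofHom ψ₁ = CommRingCat.ofHom (Q.lift a hmap).toRingHom ≫ CommRingCat.ofHom ψ₂)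
        have := RingHom.congr_fun h'' Q.X
        rw [he]
        simpa [StandardEtalePair.lift_X] using this
      · refine hV Ω' ψ₁ ψ₂ ?_ b hb
        have e := pullback.lift_fst v va (hv.trans hva.symm)
        exact ((congrArg (Spec.map (CommRingCat.ofHom ψ₁) ≫ ·) e).symm.trans (Category.assoc _ _ _).symm).trans
          ((congrArg (· ≫ pullback.fst V.hom Va.hom) h).trans ((Category.assoc _ _ _).trans (congrArg (_ ≫ ·) e)))

theorem isEffective_of_discreteTopology [DiscreteTopology ↥X] [Surjective f] (hφ : EtDesc.IsCocycle F' φ) :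
    EtDesc.IsEffective f F' φ := by
  haveI := FDescent.universallyOpen_of_discreteTopology f
  refine isEffective_of_lift φ hφ (isUnivSubmersive_of_open f) fun Ω _ _ ξ₀ c₀ => ?_
  obtain ⟨U, t₀, s₀, hs₀⟩ := germ_surjective F' ξ₀ c₀
  let u₀ : Spec (CommRingCat.of Ω) ⟶ U.left := t₀.left
  have hu₀ : u₀ ≫ U.hom = ξ₀ := CategoryTheory.Over.w t₀
  let η := ξ₀ ≫ f
  let x := η.base (default : Spec (CommRingCat.of Ω))
  let O : X.Opens := ⟨{x}, isOpen_discrete _⟩
  haveI : Subsingleton ↥(O : Scheme.{u}) := ⟨fun a b => Subtype.ext (a.2.trans b.2.symm)⟩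
  haveI : IsAffine (O : Scheme.{u}) := H23.FinDiscrete.isAffine _
  let η' : Spec (CommRingCat.of Ω) ⟶ (O : Scheme.{u}) := IsOpenImmersion.lift O.ι η (by
    rintro _ ⟨z, rfl⟩
    rw [Scheme.Opens.range_ι, Subsingleton.elim z default]
    exact Set.mem_singleton x)
  let A : Type u := Γ((O : Scheme.{u}), ⊤)
  let j : Spec (CommRingCat.of A) ⟶ X := (O : Scheme.{u}).isoSpec.inv ≫ O.ι
  let α : Spec (CommRingCat.of Ω) ⟶ Spec (CommRingCat.of A) := η' ≫ (O : Scheme.{u}).isoSpec.hom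
  have hαj : α ≫ j = η := by
    simp only [α, j, Category.assoc, Iso.hom_inv_id_assoc]
    exact IsOpenImmersion.lift_fac _ _ _
  letI : Algebra A Ω := (Spec.preimage α).hom.toAlgebra
  have hα : Spec.map (CommRingCat.ofHom (algebraMap A Ω)) = α := Spec.map_preimage α
  haveI : Subsingleton (PrimeSpectrum A) :=
    (O : Scheme.{u}).isoSpec.hom.surjective.subsingleton
  let P : Ideal A := RingHom.ker (algebraMap A Ω)
  haveI hP : P.IsMaximal := by
    haveI : P.IsPrime := RingHom.ker_isPrime _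
    obtain ⟨M, hM, hle⟩ := Ideal.exists_le_maximal P (Ideal.IsPrime.ne_top inferInstance)
    have : (⟨P, inferInstance⟩ : PrimeSpectrum A) = ⟨M, hM.isPrime⟩ := Subsingleton.elim _ _
    have hPM : P = M := congrArg PrimeSpectrum.asIdeal this
    exact hPM.symm ▸ hM
  let k := A ⧸ P
  letI : Field k := Ideal.Quotient.field P
  letI : Algebra k Ω := (Ideal.Quotient.lift P (algebraMap A Ω) fun r hr => hr).toAlgebra
  haveI : IsScalarTower A k Ω := IsScalarTower.of_algebraMap_eq fun _ => rfl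
  obtain ⟨e, he, he1, hE⟩ := exists_pair_idempotent φ hφ (A := A) j s₀ u₀ (by rw [hu₀, hα, hαj])
  obtain ⟨S, hS, hkill⟩ := exists_finite_separable k e he he1
  obtain ⟨V₁, v₁, hv₁, hV⟩ := exists_separating k Ideal.Quotient.mk_surjective j S hS
  haveI : Etale V₁.hom := V₁.prop
  haveI : LocallyQuasiFinite V₁.hom := UnibEtale.locallyQuasiFinite_of_formallyUnramified V₁.hom
  have hopen : IsOpen ({v₁.base default} : Set V₁.left) := by
    haveI : DiscreteTopology ↥(V₁.hom ⁻¹' {V₁.hom (v₁.base default)}) :=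
      isDiscrete_iff_discreteTopology.1 (Scheme.Hom.isDiscrete_preimage_singleton V₁.hom _)
    obtain ⟨W', hW', hW''⟩ := isOpen_induced_iff.1
      (isOpen_discrete ({⟨v₁.base default, rfl⟩} : Set ↥(V₁.hom ⁻¹' {V₁.hom (v₁.base default)})))
    have : ({v₁.base default} : Set V₁.left) = W' ∩ V₁.hom ⁻¹' {V₁.hom (v₁.base default)} := by
      ext z
      refine ⟨fun hz => ?_, fun ⟨h1, h2⟩ => congrArg Subtype.val ((Set.ext_iff.1 hW'' ⟨z, h2⟩).1 h1)⟩
      obtain rfl : z = v₁.base default := hz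
      exact ⟨(Set.ext_iff.1 hW'' ⟨_, rfl⟩).2 rfl, rfl⟩
    rw [this]
    exact hW'.inter ((isOpen_discrete (α := ↥X) {V₁.hom (v₁.base default)}).preimage V₁.hom.continuous)
  let N : (V₁.left : Scheme.{u}).Opens := ⟨_, hopen⟩
  let V := EtFound.restrictEtale V₁ N
  have hrange : Set.range v₁.base ⊆ Set.range (Scheme.Opens.ι N).base := by
    rintro _ ⟨z, rfl⟩
    refine (Scheme.Opens.range_ι N).ge ?_
    rw [Subsingleton.elim z default]
    exact Set.mem_singleton _
  let q₀ : Spec (CommRingCat.of Ω) ⟶ (N : Scheme.{u}) :=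
    @IsOpenImmersion.lift _ _ _ (Scheme.Opens.ι N) v₁ inferInstance hrange
  let q : Spec (CommRingCat.of Ω) ⟶ V.left := q₀
  have hq' : q ≫ N.ι = v₁ := @IsOpenImmersion.lift_fac _ _ _ (Scheme.Opens.ι N) v₁ inferInstance hrange
  haveI : Subsingleton ↥(N : Scheme.{u}) := ⟨fun a b => Subtype.ext (a.2.trans b.2.symm)⟩
  haveI : Subsingleton V.left := inferInstanceAs (Subsingleton ↥(N : Scheme.{u}))
  haveI : DiscreteTopology V.left := inferInstance
  haveI : UniversallyOpen q := FDescent.universallyOpen_of_discreteTopology q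
  haveI : Surjective q := ⟨fun z => ⟨default, (inferInstance : Subsingleton ↥(N : Scheme.{u})).elim _ _⟩⟩
  have hqV : q ≫ V.hom = η := by
    show q ≫ N.ι ≫ V₁.hom = η
    rw [← Category.assoc, hq', hv₁, hα, hαj]
  refine ⟨V, ptMk q hqV, exists_lift_of_cover φ hφ ξ₀ c₀ (ptMk q hqV) q (isUnivSubmersive_of_open q) s₀ u₀
    (by rw [hu₀, hqV]) (fun Ω' _ _ ω₁ ω₂ h => ?_) (𝟙 _) (Category.id_comp q) (by rw [Category.id_comp, hu₀]) ?_⟩
  · obtain ⟨ψ₁, rfl⟩ := Spec.map_surjective ω₁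
    obtain ⟨ψ₂, rfl⟩ := Spec.map_surjective ω₂
    have h1 : Spec.map ψ₁ ≫ v₁ = Spec.map ψ₂ ≫ v₁ := by rw [← hq', ← Category.assoc, h, Category.assoc]
    have h2 : Spec.map ψ₁ ≫ Spec.map (CommRingCat.ofHom (algebraMap A Ω)) =
        Spec.map ψ₂ ≫ Spec.map (CommRingCat.ofHom (algebraMap A Ω)) := by
      rw [← cancel_mono j, Category.assoc, Category.assoc, ← hv₁, ← Category.assoc, h1, Category.assoc]
    simp only [← Spec.map_comp, Spec.map_inj] at h2
    letI : Algebra A Ω' := (ψ₁.hom.comp (algebraMap A Ω)).toAlgebra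
    let L : Ω →ₐ[A] Ω' := { ψ₁.hom with commutes' := fun _ => rfl }
    let R : Ω →ₐ[A] Ω' := { ψ₂.hom with commutes' := fun r => (RingHom.congr_fun (CommRingCat.hom_ext_iff.1 h2) r).symm }
    let χ := (Algebra.TensorProduct.lift L R fun _ _ => Commute.all _ _).toRingHom
    have e1 : CommRingCat.ofHom (χ.comp Algebra.TensorProduct.includeLeftRingHom) = ψ₁ := by
      ext r; simp [χ, L]
    have e2 : CommRingCat.ofHom (χ.comp (Algebra.TensorProduct.includeRight (R := A)).toRingHom) = ψ₂ := by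
      ext r; simp [χ, R]
    have := hE Ω' χ (hkill Ω' χ fun a ha => by
      have := hV Ω' ψ₁.hom ψ₂.hom h1 a ha
      simpa [χ, L, R] using this)
    rw [e1, e2] at this
    exact this
  · rw [← hs₀]
    have := (rel_self φ hφ (ptMk (𝟙 _ ≫ u₀) rfl) (ptMk (𝟙 _ ≫ u₀) rfl) (s := s₀) (x := s₀) rfl rfl).2 rfl
    exact (rel_iff φ (ptMk (𝟙 _ ≫ u₀) rfl) t₀ rfl (Category.id_comp _).symm _).1 this

end Groth.Agent.BigSiteLib.DescSec
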