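import Mathlib

/-!
# Finitely generated models of etale algebras over a field extension
-/

set_option autoImplicit false

universe u

open scoped TensorProduct

namespace Groth.Agent.BigSiteLib.DescSec

variable (k R K : Type u) [Field k] [CommRing R] [Algebra k R] [Field K] [Algebra k K]

theorem exists_fg_range (x : R ⊗[k] K) : ∃ F : Finset K, ∀ A : Subalgebra k K, ↑F ⊆ (A : Set K) →
    x ∈ (Algebra.TensorProduct.map (AlgHom.id R R) A.val).range := by
  classical
  induction x using TensorProduct.induction_on with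
  | zero => exact ⟨∅, fun A _ => zero_mem _⟩
  | tmul r y => exact ⟨{y}, fun A h => ⟨r ⊗ₜ ⟨y, h (Finset.mem_singleton_self y)⟩, by simp⟩⟩
  | add x y hx hy =>
    obtain ⟨F, hF⟩ := hx
    obtain ⟨G, hG⟩ := hy
    exact ⟨F ∪ G, fun A h => add_mem (hF A (subset_trans (by simp) h)) (hG A (subset_trans (by simp) h))⟩

theorem exists_extension {A : Subalgebra k K} {Ω : Type u} [Field Ω] (χ : A →+* Ω) (hχ : Function.Injective χ) :
    ∃ (Ω' : Type u) (_ : Field Ω') (_ : IsAlgClosed Ω') (ι : Ω →+* Ω') (κ : K →+* Ω'), ∀ a : A, κ a = ι (χ a) := by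
  let F := FractionRing A
  let e₁ : F →+* Ω := IsFractionRing.lift hχ
  let e₂ : F →+* K := IsFractionRing.lift (g := (A.val : A →+* K)) Subtype.val_injective
  letI : Algebra F Ω := e₁.toAlgebra
  letI : Algebra F K := e₂.toAlgebra
  obtain ⟨M, hM⟩ := Ideal.exists_maximal (Ω ⊗[F] K)
  haveI := hM
  letI : Field ((Ω ⊗[F] K) ⧸ M) := Ideal.Quotient.field M
  let Ω' := AlgebraicClosure ((Ω ⊗[F] K) ⧸ M)
  let g : Ω ⊗[F] K →+* Ω' := (algebraMap _ Ω').comp (Ideal.Quotient.mk M)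
  refine ⟨Ω', inferInstance, inferInstance, g.comp Algebra.TensorProduct.includeLeftRingHom,
    g.comp (Algebra.TensorProduct.includeRight (R := F) (A := Ω)).toRingHom, fun a => ?_⟩
  have h1 : algebraMap F Ω (algebraMap A F a) = χ a := IsFractionRing.lift_algebraMap hχ a
  have h2 : algebraMap F K (algebraMap A F a) = (a : K) := IsFractionRing.lift_algebraMap (g := (A.val : A →+* K)) Subtype.val_injective a
  show g ((1 : Ω) ⊗ₜ[F] (a : K)) = g (χ a ⊗ₜ[F] (1 : K))
  rw [← h1, ← h2, Algebra.TensorProduct.tmul_one_eq_one_tmul]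

/-- An etale algebra over `R ⊗ K` comes from one over `R ⊗ A` for a finitely generated subalgebra. -/
theorem exists_model (B : Type u) [CommRing B] [Algebra (R ⊗[k] K) B] [Algebra.Etale (R ⊗[k] K) B] (S : Finset B) :
    ∃ (A : Subalgebra k K) (_ : A.FG) (BA : Type u) (_ : CommRing BA) (ρ : R ⊗[k] A →+* BA) (π : BA →+* B),
      ρ.Etale ∧ π.comp ρ = (algebraMap (R ⊗[k] K) B).comp (Algebra.TensorProduct.map (AlgHom.id R R) A.val).toRingHom ∧
      (∀ s ∈ S, s ∈ π.range) ∧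
      ∀ (Ω : Type u) [Field Ω] (χ : BA →+* Ω),
        Function.Injective (fun a : A => χ (ρ ((1 : R) ⊗ₜ a))) →
        ∃ (Ω' : Type u) (_ : Field Ω') (_ : IsAlgClosed Ω') (ι : Ω →+* Ω') (ψ : B →+* Ω'), ψ.comp π = ι.comp χ := by
  classical
  obtain ⟨C₀, B₀, _, _, ⟨G, hG⟩, hB₀, ⟨e⟩⟩ := Algebra.Etale.exists_subalgebra_fg (R := R) (A := R ⊗[k] K) (B := B)
  haveI := hB₀
  have hdec : ∀ x : (R ⊗[k] K) ⊗[C₀] B₀, ∃ F : Finset (R ⊗[k] K),
      ∀ T : Subalgebra R (R ⊗[k] K), ↑F ⊆ (T : Set (R ⊗[k] K)) → x ∈ Submodule.span ℤ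
        {z | ∃ c ∈ T, ∃ b : B₀, c ⊗ₜ[C₀] b = z} := fun x => by
    induction x using TensorProduct.induction_on with
    | zero => exact ⟨∅, fun T _ => zero_mem _⟩
    | tmul c b => exact ⟨{c}, fun T h => Submodule.subset_span ⟨c, h (Finset.mem_singleton_self c), b, rfl⟩⟩
    | add x y hx hy =>
      obtain ⟨F, hF⟩ := hx
      obtain ⟨F', hF'⟩ := hy
      exact ⟨F ∪ F', fun T h => add_mem (hF T (subset_trans (by simp) h)) (hF' T (subset_trans (by simp) h))⟩
  choose Fs hFs using hdec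
  let C : Finset (R ⊗[k] K) := G ∪ S.biUnion fun s => Fs (e s)
  choose Fc hFc using exists_fg_range k R K
  let F : Finset K := C.biUnion Fc
  let A : Subalgebra k K := Algebra.adjoin k (F : Set K)
  let φ := Algebra.TensorProduct.map (AlgHom.id R R) A.val
  have hC : ∀ c ∈ C, c ∈ φ.range := fun c hc => hFc c A ((subset_trans (by
    intro y hy; exact Finset.mem_biUnion.2 ⟨c, hc, hy⟩) (Algebra.subset_adjoin (R := k) (s := (F : Set K)))))
  have hC₀ : C₀ ≤ φ.range := hG ▸ Algebra.adjoin_le fun c hc => hC c (Finset.mem_union_left _ hc)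
  have hinj : Function.Injective φ := by
    show Function.Injective (fun x => φ x)
    exact Module.Flat.lTensor_preserves_injective_linearMap (M := R) A.val.toLinearMap Subtype.val_injective
  let γ : C₀ →ₐ[R] R ⊗[k] A := (AlgEquiv.ofInjective φ hinj).symm.toAlgHom.comp (Subalgebra.inclusion hC₀)
  have hγ : ∀ c, φ (γ c) = (c : R ⊗[k] K) := fun c =>
    congrArg Subtype.val ((AlgEquiv.ofInjective φ hinj).apply_symm_apply (Subalgebra.inclusion hC₀ c))
  letI : Algebra C₀ (R ⊗[k] A) := γ.toRingHom.toAlgebra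
  let BA := (R ⊗[k] A) ⊗[C₀] B₀
  let ρ : R ⊗[k] A →+* BA := Algebra.TensorProduct.includeLeftRingHom
  let φ' : R ⊗[k] A →ₐ[C₀] R ⊗[k] K := { φ.toRingHom with commutes' := hγ }
  let π : BA →+* B := (e.symm.toAlgHom.toRingHom).comp (Algebra.TensorProduct.map φ' (AlgHom.id C₀ B₀)).toRingHom
  refine ⟨A, ⟨F, rfl⟩, BA, inferInstance, ρ, π, ?_, ?_, fun s hs => ?_, fun Ω _ χ hχ => ?_⟩
  · show RingHom.Etale (algebraMap (R ⊗[k] A) BA)
    exact RingHom.etale_algebraMap.2 inferInstance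
  · refine RingHom.ext fun x => ?_
    show e.symm (φ x ⊗ₜ[C₀] (1 : B₀)) = algebraMap (R ⊗[k] K) B (φ x)
    exact e.symm.commutes (φ x)
  · have h := hFs (e s) φ.range fun c hc => hC c (Finset.mem_union_right _ (Finset.mem_biUnion.2 ⟨s, hs, hc⟩))
    have h' : ∀ x ∈ Submodule.span ℤ {z : (R ⊗[k] K) ⊗[C₀] B₀ | ∃ c ∈ φ.range, ∃ b : B₀, c ⊗ₜ[C₀] b = z},
        ∃ b : BA, π b = e.symm x := by
      intro x hx
      induction hx using Submodule.span_induction with
      | mem x hx =>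
        obtain ⟨_, ⟨c, rfl⟩, b, rfl⟩ := hx
        exact ⟨c ⊗ₜ b, by simp [π, φ']; rfl⟩
      | zero => exact ⟨0, by rw [map_zero, map_zero]⟩
      | add x y _ _ hx hy =>
        obtain ⟨b, hb⟩ := hx
        obtain ⟨b', hb'⟩ := hy
        exact ⟨b + b', by rw [map_add, map_add, hb, hb']⟩
      | smul n x _ hx =>
        obtain ⟨b, hb⟩ := hx
        exact ⟨n • b, by rw [map_zsmul, map_zsmul, hb]⟩
    obtain ⟨b, hb⟩ := h' (e s) h
    exact ⟨b, hb.trans (e.symm_apply_apply s)⟩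
  · let χA : A →+* Ω := χ.comp (ρ.comp (Algebra.TensorProduct.includeRight (R := k) (A := R)).toRingHom)
    obtain ⟨Ω', _, _, ι, κ, hκ⟩ := exists_extension k K χA hχ
    let χR : R →+* Ω' := (ι.comp χ).comp (ρ.comp Algebra.TensorProduct.includeLeftRingHom)
    letI : Algebra k Ω' := (χR.comp (algebraMap k R)).toAlgebra
    have hκc : ∀ c : k, κ (algebraMap k K c) = algebraMap k Ω' c := fun c => by
      show κ (algebraMap k K c) = ι (χ (ρ (algebraMap k R c ⊗ₜ (1 : A))))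
      rw [show algebraMap k K c = ((algebraMap k A c : A) : K) from rfl, hκ]
      show ι (χ (ρ ((1 : R) ⊗ₜ algebraMap k A c))) = _
      rw [Algebra.TensorProduct.tmul_one_eq_one_tmul]
    let κ' : K →ₐ[k] Ω' := { κ with commutes' := hκc }
    let χR' : R →ₐ[k] Ω' := { χR with commutes' := fun _ => rfl }
    let ψC : R ⊗[k] K →+* Ω' := (Algebra.TensorProduct.lift χR' κ' fun _ _ => Commute.all _ _).toRingHom
    have hψC : ψC.comp φ.toRingHom = (ι.comp χ).comp ρ := by
      refine Algebra.TensorProduct.ringHom_ext ?_ ?_ <;> ext r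
      · simp [ψC, φ, χR', χR]
      · simp [ψC, φ, κ', hκ, χA]
    let χB : B₀ →+* Ω' := (ι.comp χ).comp (Algebra.TensorProduct.includeRight (R := C₀) (A := R ⊗[k] A)).toRingHom
    letI : Algebra C₀ Ω' := (ψC.comp C₀.val.toRingHom).toAlgebra
    have hχB : ∀ c : C₀, χB (algebraMap C₀ B₀ c) = algebraMap C₀ Ω' c := fun c => by
      show ι (χ ((1 : R ⊗[k] A) ⊗ₜ[C₀] algebraMap C₀ B₀ c)) = ψC (c : R ⊗[k] K)
      rw [← Algebra.TensorProduct.tmul_one_eq_one_tmul, ← hγ c]
      exact (RingHom.congr_fun hψC (γ c)).symm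
    let χB' : B₀ →ₐ[C₀] Ω' := { χB with commutes' := hχB }
    let ψC' : R ⊗[k] K →ₐ[C₀] Ω' := { ψC with commutes' := fun _ => rfl }
    refine ⟨Ω', inferInstance, inferInstance, ι,
      ((Algebra.TensorProduct.lift ψC' χB' fun _ _ => Commute.all _ _).toRingHom).comp e.toAlgHom.toRingHom, ?_⟩
    refine Algebra.TensorProduct.ringHom_ext ?_ ?_ <;> refine RingHom.ext fun x => ?_
    · simp [π, φ', ψC']
      exact RingHom.congr_fun hψC x
    · simp [π, φ', χB', χB]

end Groth.Agent.BigSiteLib.DescSec
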