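import Groth.Agent.BigSiteLib.EtDescSec.Fictitious
import Groth.Agent.BigSiteLib.EtDescSec.Model

/-!
# Descent along base changes of surjections onto discrete schemes
-/

set_option autoImplicit false

universe u

open CategoryTheory CategoryTheory.Limits AlgebraicGeometry Opposite TopologicalSpace
open scoped TensorProduct

namespace Groth.Agent.BigSiteLib.DescSec

set_option backward.isDefEq.respectTransparency.types false

/-- An etale-local finite piece through a geometric point of a quasi-finite universally open scheme over the base. -/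
theorem exists_finite_piece' {X : Scheme.{u}} {R T : Type u} [CommRing R] [CommRing T] [Algebra R T] [Algebra.FiniteType R T]
    [Algebra.QuasiFinite R T] [UniversallyOpen (Spec.map (CommRingCat.ofHom (algebraMap R T)))]
    {Ω : Type u} [Field Ω] [IsSepClosed Ω]
    (ω : Spec (CommRingCat.of Ω) ⟶ Spec (CommRingCat.of T)) (j : Spec (CommRingCat.of R) ⟶ X) [Etale j] :
    ∃ (V₀ : X.Etale) (Z : Scheme.{u}) (q₀ : Z ⟶ V₀.left) (a : Z ⟶ Spec (CommRingCat.of T))
      (_ : IsFinite q₀) (_ : UniversallyOpen q₀) (ω₀ : Spec (CommRingCat.of Ω) ⟶ Z),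
      ω₀ ≫ a = ω ∧ q₀ ≫ V₀.hom = a ≫ Spec.map (CommRingCat.ofHom (algebraMap R T)) ≫ j := by
  let t : PrimeSpectrum T := ω.base default
  obtain ⟨R', _, _, _, P, _, _, e, he, P', _, _, hP', heP', -, hfin, -⟩ :=
    Algebra.exists_etale_isIdempotentElem_forall_liesOver_eq (t.asIdeal.under R) t.asIdeal
  haveI := hfin
  haveI : Etale (Spec.map (CommRingCat.ofHom (algebraMap R R'))) :=
    (HasRingHomProperty.Spec_iff (P := @Etale)).2 (RingHom.etale_algebraMap.2 inferInstance)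
  let V₀ : X.Etale := Scheme.Etale.mk (Spec.map (CommRingCat.ofHom (algebraMap R R')) ≫ j)
  letI : Algebra T (R' ⊗[R] T) := Algebra.TensorProduct.rightAlgebra
  let ρ : T →+* R' ⊗[R] T := (Algebra.TensorProduct.includeRight (R := R) (A := R') (B := T)).toRingHom
  haveI : Etale (Spec.map (CommRingCat.ofHom ρ)) := by
    refine (HasRingHomProperty.Spec_iff (P := @Etale)).2 ?_
    show RingHom.Etale ρ
    haveI : Algebra.Etale T (R' ⊗[R] T) := Algebra.Etale.of_equiv (Algebra.TensorProduct.commRight R T R')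
    exact RingHom.etale_algebraMap.2 inferInstance
  let P'p : PrimeSpectrum (R' ⊗[R] T) := ⟨P', inferInstance⟩
  obtain ⟨l, hl, hl'⟩ := Scheme.exists_fac_of_etale_of_isSepClosed (Spec.map (CommRingCat.ofHom ρ)) ω P'p
    (PrimeSpectrum.ext hP')
  let T'' := Localization.Away e
  let ι : Spec (CommRingCat.of T'') ⟶ Spec (CommRingCat.of (R' ⊗[R] T)) :=
    Spec.map (CommRingCat.ofHom (algebraMap (R' ⊗[R] T) T''))
  haveI : IsOpenImmersion ι := IsOpenImmersion.of_isLocalization e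
  let q₀ : Spec (CommRingCat.of T'') ⟶ V₀.left := Spec.map (CommRingCat.ofHom (algebraMap R' T''))
  have hq : q₀ = ι ≫ Spec.map (CommRingCat.ofHom (algebraMap R' (R' ⊗[R] T))) := by
    simp only [q₀, ι, ← Spec.map_comp, ← CommRingCat.ofHom_comp, ← IsScalarTower.algebraMap_eq]
  haveI : IsFinite q₀ := (IsFinite.SpecMap_iff _).2 (RingHom.finite_algebraMap.2 hfin)
  have hG : UniversallyOpen (Spec.map (CommRingCat.ofHom (algebraMap R' (R' ⊗[R] T)))) :=
    MorphismProperty.of_isPullback (isPullback_SpecMap_of_isPushout _ _ _ _ (CommRingCat.isPushout_tensorProduct R R' T)).flip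
      (inferInstance : UniversallyOpen (Spec.map (CommRingCat.ofHom (algebraMap R T))))
  haveI : UniversallyOpen q₀ := hq ▸ MorphismProperty.comp_mem (W := @UniversallyOpen) _ _ inferInstance hG
  have hrange : Set.range l.base ⊆ Set.range ι.base := by
    rintro _ ⟨z, rfl⟩
    rw [Subsingleton.elim z default, hl']
    exact (PrimeSpectrum.localization_away_comap_range T'' e).ge heP'
  refine ⟨V₀, Spec (CommRingCat.of T''), q₀, ι ≫ Spec.map (CommRingCat.ofHom ρ), inferInstance, inferInstance,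
    IsOpenImmersion.lift ι l hrange, ?_, ?_⟩
  · rw [← Category.assoc, IsOpenImmersion.lift_fac, hl]
  · show q₀ ≫ Spec.map _ ≫ j = _
    rw [hq]
    refine (Category.assoc _ _ _).trans ((congrArg (ι ≫ ·) ?_).trans (Category.assoc _ _ _).symm)
    refine (Category.assoc _ _ _).symm.trans ((congrArg (· ≫ j) ?_).trans (Category.assoc _ _ _))
    refine (Spec.map_comp _ _).symm.trans ((congrArg Spec.map ?_).trans (Spec.map_comp _ _))
    ext r
    simpa [ρ] using Algebra.TensorProduct.algebraMap_eq_includeRight_apply r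

theorem isFinite_of_field {P : Scheme.{u}} {Ω : Type u} [Field Ω] (g : P ⟶ Spec (CommRingCat.of Ω)) [IsAffineHom g]
    [LocallyQuasiFinite g] [LocallyOfFiniteType g] : IsFinite g := by
  haveI : IsAffine P := isAffine_of_isAffineHom g
  obtain ⟨θ, hθ⟩ := Spec.map_surjective (P.isoSpec.inv ≫ g)
  haveI : LocallyQuasiFinite (Spec.map θ) := hθ ▸ inferInstance
  haveI : LocallyOfFiniteType (Spec.map θ) := hθ ▸ inferInstance
  letI : Algebra Ω Γ(P, ⊤) := θ.hom.toAlgebra
  haveI : Algebra.QuasiFinite Ω Γ(P, ⊤) := RingHom.quasiFinite_algebraMap.1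
    ((HasRingHomProperty.Spec_iff (P := @LocallyQuasiFinite)).1 ‹LocallyQuasiFinite (Spec.map θ)›)
  haveI : Algebra.FiniteType Ω Γ(P, ⊤) := RingHom.finiteType_algebraMap.1
    ((HasRingHomProperty.Spec_iff (P := @LocallyOfFiniteType)).1 ‹LocallyOfFiniteType (Spec.map θ)›)
  haveI : IsFinite (Spec.map θ) := (IsFinite.SpecMap_iff _).2 (RingHom.finite_algebraMap.2 Module.Finite.of_quasiFinite)
  rw [← Iso.hom_inv_id_assoc P.isoSpec g, ← hθ]
  infer_instance

section fibre

variable {k R K : Type u} [Field k] [CommRing R] [Algebra k R] [Field K] [Algebra k K] {A : Subalgebra k K}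
  {BA : Type u} [CommRing BA] (ρ : R ⊗[k] A →+* BA) (hρ : ρ.Etale)

/-- The projection of the model to the base. -/
noncomputable abbrev toBase : Spec (CommRingCat.of BA) ⟶ Spec (CommRingCat.of R) :=
  Spec.map (CommRingCat.ofHom ρ) ≫ Spec.map (CommRingCat.ofHom (Algebra.TensorProduct.includeLeftRingHom : R →+* R ⊗[k] A))

/-- The projection of the model to the parameters. -/
noncomputable abbrev toParam : Spec (CommRingCat.of BA) ⟶ Spec (CommRingCat.of A) :=
  Spec.map (CommRingCat.ofHom ρ) ≫ Spec.map (CommRingCat.ofHom (Algebra.TensorProduct.includeRight (R := k) (A := R) (B := A)).toRingHom)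

include hρ in
theorem universallyOpen_fibre {Ω : Type u} [Field Ω] (ζ : Spec (CommRingCat.of Ω) ⟶ Spec (CommRingCat.of R)) :
    UniversallyOpen (pullback.fst (toBase ρ) ζ ≫ toParam ρ) := by
  haveI : Etale (Spec.map (CommRingCat.ofHom ρ)) := (HasRingHomProperty.Spec_iff (P := @Etale)).2 hρ
  let L := Spec.map (CommRingCat.ofHom (Algebra.TensorProduct.includeLeftRingHom : R →+* R ⊗[k] A))
  let Rt := Spec.map (CommRingCat.ofHom (Algebra.TensorProduct.includeRight (R := k) (A := R) (B := A)).toRingHom)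
  have hT : IsPullback L Rt (Spec.map (CommRingCat.ofHom (algebraMap k R))) (Spec.map (CommRingCat.ofHom (algebraMap k A))) :=
    isPullback_SpecMap_of_isPushout _ _ _ _ (CommRingCat.isPushout_tensorProduct k R A)
  let P₁ := pullback L ζ
  let q₂ : pullback (toBase ρ) ζ ⟶ P₁ := pullback.lift (pullback.fst _ _ ≫ Spec.map (CommRingCat.ofHom ρ)) (pullback.snd _ _)
    ((Category.assoc _ _ _).trans pullback.condition)
  have hq₂ : IsPullback (pullback.fst (toBase ρ) ζ) q₂ (Spec.map (CommRingCat.ofHom ρ)) (pullback.fst L ζ) :=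
    IsPullback.of_bot (by rw [pullback.lift_snd]; exact IsPullback.of_hasPullback _ _) (pullback.lift_fst _ _ _).symm
      (IsPullback.of_hasPullback L ζ)
  haveI : Etale q₂ := MorphismProperty.of_isPullback hq₂ inferInstance
  have hP : IsPullback (pullback.fst L ζ ≫ Rt) (pullback.snd L ζ) (Spec.map (CommRingCat.ofHom (algebraMap k A)))
      (ζ ≫ Spec.map (CommRingCat.ofHom (algebraMap k R))) :=
    (IsPullback.of_hasPullback L ζ).paste_horiz hT.flip
  haveI : IsIntegral (Spec (CommRingCat.of k)) := inferInstance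
  haveI : UniversallyOpen (ζ ≫ Spec.map (CommRingCat.ofHom (algebraMap k R))) := inferInstance
  haveI : UniversallyOpen (pullback.fst L ζ ≫ Rt) := MorphismProperty.of_isPullback hP.flip inferInstance
  haveI : UniversallyOpen q₂ := inferInstance
  have e : pullback.fst (toBase ρ) ζ ≫ toParam ρ = q₂ ≫ pullback.fst L ζ ≫ Rt := by
    rw [← Category.assoc q₂, pullback.lift_fst, Category.assoc]
  rw [e]
  infer_instance

include hρ in
/-- A geometric point of the fibre lying over the generic point of the parameters lifts. -/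
theorem exists_generic_lift {B : Type u} [CommRing B] (π : BA →+* B)
    (hlift : ∀ (Ω : Type u) [Field Ω] (χ : BA →+* Ω), Function.Injective (fun a : A => χ (ρ ((1 : R) ⊗ₜ a))) →
      ∃ (Ω' : Type u) (_ : Field Ω') (_ : IsAlgClosed Ω') (ι : Ω →+* Ω') (ψ : B →+* Ω'), ψ.comp π = ι.comp χ)
    {Ω : Type u} [Field Ω] (ζ : Spec (CommRingCat.of Ω) ⟶ Spec (CommRingCat.of R)) (O : (pullback (toBase ρ) ζ).Opens)
    (hO : (O : Set ↥(pullback (toBase ρ) ζ)).Nonempty) :
    ∃ (Ω'' : Type u) (_ : Field Ω'') (_ : IsAlgClosed Ω'')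
      (ι : Spec (CommRingCat.of Ω'') ⟶ Spec (CommRingCat.of Ω)) (ψ : Spec (CommRingCat.of Ω'') ⟶ Spec (CommRingCat.of B))
      (h : (ψ ≫ Spec.map (CommRingCat.ofHom π)) ≫ toBase ρ = ι ≫ ζ),
      (pullback.lift (ψ ≫ Spec.map (CommRingCat.ofHom π)) ι h).base default ∈ O := by
  haveI := universallyOpen_fibre ρ hρ ζ
  let qA := pullback.fst (toBase ρ) ζ ≫ toParam ρ
  have hgen : (⟨⊥, Ideal.isPrime_bot⟩ : PrimeSpectrum A) ∈ qA '' (O : Set ↥(pullback (toBase ρ) ζ)) := by
    obtain ⟨m, hm⟩ := hO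
    exact ((PrimeSpectrum.le_iff_specializes ⟨⊥, Ideal.isPrime_bot⟩ (qA m : PrimeSpectrum A)).1 bot_le).mem_open
      ((Scheme.Hom.isOpenMap qA) _ O.2) ⟨m, hm, rfl⟩
  obtain ⟨m, hm, hmA⟩ := hgen
  obtain ⟨Ω₁, _, _, τ, hτ⟩ := exists_geometric m
  obtain ⟨χ, hχ⟩ := Spec.map_surjective (τ ≫ pullback.fst (toBase ρ) ζ)
  have hinj : Function.Injective (fun a : A => χ.hom (ρ ((1 : R) ⊗ₜ a))) := by
    let g : A →+* Ω₁ := χ.hom.comp (ρ.comp (Algebra.TensorProduct.includeRight (R := k) (A := R) (B := A)).toRingHom)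
    show Function.Injective g
    have hg : Spec.map (CommRingCat.ofHom g) = τ ≫ qA := by
      rw [← Category.assoc, ← hχ]
      simp only [toParam, ← Spec.map_comp]
      rfl
    have h1 : (Spec.map (CommRingCat.ofHom g)).base default = (⟨⊥, Ideal.isPrime_bot⟩ : PrimeSpectrum A) := by
      rw [hg, Scheme.Hom.comp_apply, hτ]; exact hmA
    rw [RingHom.injective_iff_ker_eq_bot]
    have h2 := congrArg PrimeSpectrum.asIdeal h1
    refine le_bot_iff.1 (fun a ha => h2.le ?_)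
    show g a ∈ (default : Spec (CommRingCat.of Ω₁)).asIdeal
    rw [show g a = 0 from ha]
    exact zero_mem _
  obtain ⟨Ω', _, _, ι', ψ', hψ'⟩ := hlift Ω₁ χ.hom hinj
  let ι₁ : Spec (CommRingCat.of Ω') ⟶ Spec (CommRingCat.of Ω₁) := Spec.map (CommRingCat.ofHom ι')
  have e : Spec.map (CommRingCat.ofHom ψ') ≫ Spec.map (CommRingCat.ofHom π) = ι₁ ≫ τ ≫ pullback.fst (toBase ρ) ζ := by
    rw [← hχ]
    simp only [ι₁, ← Spec.map_comp]
    exact congrArg Spec.map (CommRingCat.hom_ext hψ')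
  have h : (Spec.map (CommRingCat.ofHom ψ') ≫ Spec.map (CommRingCat.ofHom π)) ≫ toBase ρ =
      (ι₁ ≫ τ ≫ pullback.snd (toBase ρ) ζ) ≫ ζ := by
    rw [e]
    simp only [Category.assoc, pullback.condition]
  refine ⟨Ω', inferInstance, inferInstance, ι₁ ≫ τ ≫ pullback.snd _ _, Spec.map (CommRingCat.ofHom ψ'), h, ?_⟩
  have e' : pullback.lift (Spec.map (CommRingCat.ofHom ψ') ≫ Spec.map (CommRingCat.ofHom π)) (ι₁ ≫ τ ≫ pullback.snd _ _) h = ι₁ ≫ τ := by
    apply pullback.hom_ext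
    · rw [pullback.lift_fst, e, Category.assoc]
    · rw [pullback.lift_snd, Category.assoc]
  rw [e', Scheme.Hom.comp_apply, Subsingleton.elim (ι₁.base default) default, hτ]
  exact hm

include hρ in
/-- An auxiliary quasi-finite scheme through a nonempty open of the fibre. -/
theorem exists_auxiliary (hA : A.FG) {Ω : Type u} [Field Ω] [IsAlgClosed Ω]
    (ζ : Spec (CommRingCat.of Ω) ⟶ Spec (CommRingCat.of R)) (O : (pullback (toBase ρ) ζ).Opens)
    (hO : (O : Set ↥(pullback (toBase ρ) ζ)).Nonempty) :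
    ∃ (T : Scheme.{u}) (_ : IsAffine T) (t : T ⟶ Spec (CommRingCat.of BA)) (m : Spec (CommRingCat.of Ω) ⟶ T)
      (hm : (m ≫ t) ≫ toBase ρ = ζ),
      LocallyOfFiniteType (t ≫ toBase ρ) ∧ LocallyQuasiFinite (t ≫ toBase ρ) ∧ UniversallyOpen (t ≫ toBase ρ) ∧
        (pullback.lift (m ≫ t) (𝟙 _) (hm.trans (Category.id_comp _).symm)).base default ∈ O := by
  haveI : Etale (Spec.map (CommRingCat.ofHom ρ)) := (HasRingHomProperty.Spec_iff (P := @Etale)).2 hρ
  haveI := universallyOpen_fibre ρ hρ ζ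
  let qA := pullback.fst (toBase ρ) ζ ≫ toParam ρ
  haveI : Algebra.FiniteType k A := (Subalgebra.fg_iff_finiteType A).1 hA
  haveI : IsJacobsonRing A := isJacobsonRing_of_finiteType (A := k)
  haveI : JacobsonSpace ↥(Spec (CommRingCat.of A)) := PrimeSpectrum.isJacobsonRing_iff_jacobsonSpace.1 inferInstance
  obtain ⟨p, hpO, hp⟩ : ∃ p : PrimeSpectrum A, p ∈ qA '' (O : Set ↥(pullback (toBase ρ) ζ)) ∧ p.asIdeal.IsMaximal := by
    obtain ⟨p, hp, hpc⟩ := nonempty_inter_closedPoints (X := ↥(Spec (CommRingCat.of A))) (Z := qA '' (O : Set ↥(pullback (toBase ρ) ζ)))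
      (hO.image _) ((Scheme.Hom.isOpenMap qA) _ O.2).isLocallyClosed
    exact ⟨p, hp, (PrimeSpectrum.isClosed_singleton_iff_isMaximal p).1 hpc⟩
  haveI := hp
  let L := A ⧸ p.asIdeal
  letI : Field L := Ideal.Quotient.field _
  haveI : Algebra.FiniteType k L := Algebra.FiniteType.of_surjective (Ideal.Quotient.mkₐ k p.asIdeal) Ideal.Quotient.mk_surjective
  haveI : Module.Finite k L := finite_of_finite_type_of_isJacobsonRing k L
  let μ : R ⊗[k] A →+* R ⊗[k] L := (Algebra.TensorProduct.map (AlgHom.id R R) (Ideal.Quotient.mkₐ k p.asIdeal)).toRingHom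
  let Mμ := Spec.map (CommRingCat.ofHom μ)
  let T := pullback (Spec.map (CommRingCat.ofHom ρ)) Mμ
  let t : T ⟶ Spec (CommRingCat.of BA) := pullback.fst _ _
  let LL := Spec.map (CommRingCat.ofHom (Algebra.TensorProduct.includeLeftRingHom : R →+* R ⊗[k] L))
  have hμL : μ.comp Algebra.TensorProduct.includeLeftRingHom = (Algebra.TensorProduct.includeLeftRingHom : R →+* R ⊗[k] L) := by
    ext r; simp [μ]
  have ht : t ≫ toBase ρ = pullback.snd (Spec.map (CommRingCat.ofHom ρ)) Mμ ≫ LL := by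
    rw [← Category.assoc, pullback.condition, Category.assoc]
    simp only [Mμ, LL, ← Spec.map_comp, ← CommRingCat.ofHom_comp, hμL]
  have hLL : IsPullback LL (Spec.map (CommRingCat.ofHom (Algebra.TensorProduct.includeRight (R := k) (A := R) (B := L)).toRingHom))
      (Spec.map (CommRingCat.ofHom (algebraMap k R))) (Spec.map (CommRingCat.ofHom (algebraMap k L))) :=
    isPullback_SpecMap_of_isPushout _ _ _ _ (CommRingCat.isPushout_tensorProduct k R L)
  haveI : IsFinite (Spec.map (CommRingCat.ofHom (algebraMap k L))) := (IsFinite.SpecMap_iff _).2 (RingHom.finite_algebraMap.2 inferInstance)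
  haveI : IsFinite LL := MorphismProperty.of_isPullback hLL.flip inferInstance
  haveI : UniversallyOpen (Spec.map (CommRingCat.ofHom (algebraMap k L))) := inferInstance
  haveI : UniversallyOpen LL := MorphismProperty.of_isPullback hLL.flip inferInstance
  haveI : Etale (pullback.snd (Spec.map (CommRingCat.ofHom ρ)) Mμ) := MorphismProperty.pullback_snd _ _ inferInstance
  haveI : LocallyQuasiFinite (pullback.snd (Spec.map (CommRingCat.ofHom ρ)) Mμ) := UnibEtale.locallyQuasiFinite_of_formallyUnramified _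
  haveI hlft : LocallyOfFiniteType (t ≫ toBase ρ) := by rw [ht]; infer_instance
  haveI hlqf : LocallyQuasiFinite (t ≫ toBase ρ) := by rw [ht]; infer_instance
  have huo : UniversallyOpen (t ≫ toBase ρ) := by rw [ht]; infer_instance
  haveI : IsFinite (pullback.snd (t ≫ toBase ρ) ζ) := isFinite_of_field _
  obtain ⟨o, hoO, hop⟩ := hpO
  have hsurj : Function.Surjective μ := fun x => by
    induction x using TensorProduct.induction_on with
    | zero => exact ⟨0, map_zero μ⟩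
    | tmul r l =>
      obtain ⟨a, ha⟩ := Ideal.Quotient.mk_surjective l
      exact ⟨r ⊗ₜ a, by rw [← ha]; rfl⟩
    | add x y hx hy =>
      obtain ⟨a, ha⟩ := hx
      obtain ⟨b, hb⟩ := hy
      exact ⟨a + b, by rw [map_add, ha, hb]⟩
  obtain ⟨z, hz⟩ : (Spec.map (CommRingCat.ofHom ρ)).base (pullback.fst (toBase ρ) ζ o) ∈ Set.range Mμ := by
    let y : PrimeSpectrum (R ⊗[k] A) := (Spec.map (CommRingCat.ofHom ρ)).base (pullback.fst (toBase ρ) ζ o)
    show y ∈ Set.range (PrimeSpectrum.comap μ)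
    rw [range_comap_of_surjective _ μ hsurj, PrimeSpectrum.mem_zeroLocus]
    have hker : RingHom.ker μ ≤ (p.asIdeal).map (Algebra.TensorProduct.includeRight (R := k) (A := R) (B := A)).toRingHom := by
      have := Algebra.TensorProduct.lTensor_ker (A := R) (Ideal.Quotient.mkₐ k p.asIdeal) Ideal.Quotient.mk_surjective
      rw [show RingHom.ker (Ideal.Quotient.mkₐ k p.asIdeal) = p.asIdeal from Ideal.mk_ker] at this
      exact this.le
    refine SetLike.coe_subset_coe.2 (hker.trans (Ideal.map_le_iff_le_comap.2 ?_))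
    have e : (Spec.map (CommRingCat.ofHom (Algebra.TensorProduct.includeRight (R := k) (A := R) (B := A)).toRingHom)).base y = p := by
      refine Eq.trans ?_ hop
      show _ = (pullback.fst (toBase ρ) ζ ≫ toParam ρ).base o
      simp only [toParam, Scheme.Hom.comp_apply, y]
    exact (congrArg PrimeSpectrum.asIdeal e).ge
  obtain ⟨z', hz'₁, -⟩ := Scheme.Pullback.exists_preimage_pullback (f := Spec.map (CommRingCat.ofHom ρ)) (g := Mμ)
    (pullback.fst (toBase ρ) ζ o) z hz.symm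
  obtain ⟨o₁, -, ho₁⟩ := Scheme.Pullback.exists_preimage_pullback (f := t) (g := pullback.fst (toBase ρ) ζ) z' o hz'₁
  let G : pullback (t ≫ toBase ρ) ζ ⟶ pullback (toBase ρ) ζ :=
    pullback.lift (pullback.fst _ _ ≫ t) (pullback.snd _ _) ((Category.assoc _ _ _).trans pullback.condition)
  let H : pullback t (pullback.fst (toBase ρ) ζ) ⟶ pullback (t ≫ toBase ρ) ζ :=
    pullback.lift (pullback.fst _ _) (pullback.snd _ _ ≫ pullback.snd _ _) (by
      rw [← Category.assoc, pullback.condition, Category.assoc, pullback.condition, Category.assoc])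
  have hHG : H ≫ G = pullback.snd t (pullback.fst (toBase ρ) ζ) := by
    apply pullback.hom_ext
    · rw [Category.assoc, pullback.lift_fst, ← Category.assoc, pullback.lift_fst, pullback.condition]
    · rw [Category.assoc, pullback.lift_snd, pullback.lift_snd]
  obtain ⟨l, hl, hlw⟩ := EtFound.exists_section_of_integral (pullback.snd (t ≫ toBase ρ) ζ) (H o₁)
  have hm : ((l ≫ pullback.fst _ _) ≫ t) ≫ toBase ρ = ζ := by
    rw [Category.assoc, Category.assoc, pullback.condition, ← Category.assoc, hl, Category.id_comp]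
  refine ⟨T, inferInstance, t, l ≫ pullback.fst _ _, hm, hlft, hlqf, huo, ?_⟩
  have e : pullback.lift ((l ≫ pullback.fst _ _) ≫ t) (𝟙 _) (hm.trans (Category.id_comp _).symm) = l ≫ G := by
    apply pullback.hom_ext
    · rw [pullback.lift_fst, Category.assoc l G, pullback.lift_fst, Category.assoc]
    · rw [pullback.lift_snd, Category.assoc l G, pullback.lift_snd, hl]
  rw [e, Scheme.Hom.comp_apply, hlw, ← Scheme.Hom.comp_apply, hHG, ho₁]
  exact hoO

end fibre

theorem lift_comp_left {R A B C : Type*} [CommRing R] [CommRing A] [CommRing B] [CommRing C] [Algebra R A]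
    [Algebra R B] [Algebra R C] (f : A →ₐ[R] C) (g : B →ₐ[R] C) :
    (Algebra.TensorProduct.lift f g fun _ _ => Commute.all _ _).toRingHom.comp
      (Algebra.TensorProduct.includeLeftRingHom : A →+* A ⊗[R] B) = f.toRingHom :=
  RingHom.ext fun a => by simp

theorem lift_comp_right' {R A B C : Type*} [CommRing R] [CommRing A] [CommRing B] [CommRing C] [Algebra R A]
    [Algebra R B] [Algebra R C] (f : A →ₐ[R] C) (g : B →ₐ[R] C) :
    (Algebra.TensorProduct.lift f g fun _ _ => Commute.all _ _).toRingHom.comp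
      (Algebra.TensorProduct.includeRight (R := R) (A := A) (B := B)).toRingHom = g.toRingHom :=
  RingHom.ext fun a => by simp

theorem appTop_inv {R S : CommRingCat.{u}} (θ : R ⟶ S) (r : R) :
    (Spec.map θ).appTop ((Scheme.ΓSpecIso R).inv r) = (Scheme.ΓSpecIso S).inv (θ r) :=
  ((ConcreteCategory.congr_hom (Scheme.ΓSpecIso_inv_naturality θ) r).symm)

theorem pairFun_spec {n : ℕ} {B BA Ω : Type u} [CommRing B] [CommRing BA] [CommRing Ω] (β : Fin n → B) (γ : Fin n → BA)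
    (p : B →+* Ω) (q : BA →+* Ω) :
    pairFun (fun i => (Scheme.ΓSpecIso (CommRingCat.of B)).inv (β i)) (fun i => (Scheme.ΓSpecIso (CommRingCat.of BA)).inv (γ i))
      (Spec.map (CommRingCat.ofHom p)) (Spec.map (CommRingCat.ofHom q)) =
    (Scheme.ΓSpecIso (CommRingCat.of Ω)).inv (∑ i, p (β i) * q (γ i)) := by
  rw [pairFun, map_sum]
  refine Finset.sum_congr rfl fun i _ => ?_
  rw [map_mul, appTop_inv, appTop_inv]
  rfl

variable {X Y X₁ Y₁ : Scheme.{u}} {g : X ⟶ Y} {g₁ : X₁ ⟶ Y₁} {b' : X₁ ⟶ X} {b : Y₁ ⟶ Y}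

theorem isEffective_of_discrete_baseChange [Surjective g] [DiscreteTopology ↥Y] (sq : IsPullback b' g₁ g b)
    {F' : EtDesc.Sh X₁} (φ : (EtDesc.pullSh (pullback.fst g₁ g₁)).obj F' ≅ (EtDesc.pullSh (pullback.snd g₁ g₁)).obj F')
    (hφ : EtDesc.IsCocycle F' φ) : EtDesc.IsEffective g₁ F' φ := by
  classical
  haveI := FDescent.universallyOpen_of_discreteTopology g
  haveI : UniversallyOpen g₁ := MorphismProperty.of_isPullback sq inferInstance
  haveI : Surjective g₁ := MorphismProperty.of_isPullback sq inferInstance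
  refine isEffective_of_lift φ hφ (isUnivSubmersive_of_open g₁) fun Ω _ _ ξ₀ c₀ => ?_
  obtain ⟨⟨x, aK⟩, hx⟩ := (Scheme.SpecToEquivOfField Ω X).symm.surjective (ξ₀ ≫ b')
  replace hx : Spec.map aK ≫ X.fromSpecResidueField x = ξ₀ ≫ b' := hx
  let y := g x
  let k : Type u := Y.residueField y
  let K : Type u := X.residueField x
  let ik : Spec (CommRingCat.of k) ⟶ Y := Y.fromSpecResidueField y
  let jK : Spec (CommRingCat.of K) ⟶ X := X.fromSpecResidueField x
  let φk : CommRingCat.of k ⟶ CommRingCat.of K := g.residueFieldMap x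
  have hjK : Spec.map φk ≫ ik = jK ≫ g := g.SpecMap_residueFieldMap_fromSpecResidueField x
  haveI : IsClosedImmersion ik := .of_isPreimmersion _ (isClosed_discrete _)
  haveI : UniversallyOpen ik := FDescent.universallyOpen_of_discreteTopology ik
  letI : Algebra k K := φk.hom.toAlgebra
  have hk : Spec.map (CommRingCat.ofHom (algebraMap k K)) = Spec.map φk := rfl
  let η := ξ₀ ≫ g₁
  obtain ⟨W₁, hW₁, hyW₁, -⟩ := exists_isAffineOpen_mem_and_subset (x := η.base default) (U := (⊤ : Y₁.Opens)) trivial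
  let jR₁ : Spec Γ(Y₁, W₁) ⟶ Y₁ := hW₁.fromSpec
  let Pb := pullback (jR₁ ≫ b) ik
  haveI : IsFinite (pullback.fst (jR₁ ≫ b) ik) := MorphismProperty.pullback_fst _ _ inferInstance
  haveI : IsAffine Pb := isAffine_of_isAffineHom (pullback.fst (jR₁ ≫ b) ik)
  let R : Type u := Γ(Pb, ⊤)
  let eP : Spec (CommRingCat.of R) ⟶ Pb := Pb.isoSpec.inv
  haveI : IsIso eP := inferInstanceAs (IsIso Pb.isoSpec.inv)
  let sR : Spec (CommRingCat.of R) ⟶ Spec (CommRingCat.of k) := eP ≫ pullback.snd _ _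
  letI : Algebra k R := (Spec.preimage sR).hom.toAlgebra
  have hsR : Spec.map (CommRingCat.ofHom (algebraMap k R)) = sR := Spec.map_preimage sR
  let toR₁ : Spec (CommRingCat.of R) ⟶ Spec Γ(Y₁, W₁) := eP ≫ pullback.fst (jR₁ ≫ b) ik
  haveI : IsFinite toR₁ := inferInstanceAs (IsFinite (eP ≫ pullback.fst (jR₁ ≫ b) ik))
  haveI : Mono toR₁ := inferInstanceAs (Mono (eP ≫ pullback.fst (jR₁ ≫ b) ik))
  haveI : UniversallyOpen (pullback.fst (jR₁ ≫ b) ik) := MorphismProperty.pullback_fst _ _ inferInstance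
  haveI : UniversallyOpen toR₁ := inferInstanceAs (UniversallyOpen (eP ≫ pullback.fst (jR₁ ≫ b) ik))
  let jR : Spec (CommRingCat.of R) ⟶ Y₁ := toR₁ ≫ jR₁
  haveI : Mono jR := inferInstanceAs (Mono (toR₁ ≫ jR₁))
  haveI : UniversallyOpen jR := inferInstanceAs (UniversallyOpen (toR₁ ≫ jR₁))
  have hjR : jR ≫ b = sR ≫ ik := by
    simp only [jR, toR₁, sR, Category.assoc, pullback.condition]
  -- the point
  let α₁ : Spec (CommRingCat.of Ω) ⟶ Spec Γ(Y₁, W₁) := IsOpenImmersion.lift jR₁ η (by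
    rintro _ ⟨z, rfl⟩
    refine hW₁.range_fromSpec.ge ?_
    rw [Subsingleton.elim z default]
    exact hyW₁)
  have hα₁ : α₁ ≫ jR₁ = η := IsOpenImmersion.lift_fac _ _ _
  let ζ : Spec (CommRingCat.of Ω) ⟶ Spec (CommRingCat.of R) := pullback.lift α₁ (Spec.map aK ≫ Spec.map φk) (by
    rw [← Category.assoc, hα₁, Category.assoc (Spec.map aK), hjK, ← Category.assoc, show Spec.map aK ≫ jK = ξ₀ ≫ b' from hx,
      Category.assoc, Category.assoc, sq.w]) ≫ Pb.isoSpec.hom
  have hζ₁ : ζ ≫ toR₁ = α₁ := by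
    simp only [ζ, toR₁, eP, Category.assoc, Iso.hom_inv_id_assoc, pullback.lift_fst]
  have hζk : ζ ≫ sR = Spec.map aK ≫ Spec.map φk := by
    simp only [ζ, sR, eP, Category.assoc, Iso.hom_inv_id_assoc, pullback.lift_snd]
  let incR : Spec (CommRingCat.of (R ⊗[k] K)) ⟶ Spec (CommRingCat.of R) :=
    Spec.map (CommRingCat.ofHom (Algebra.TensorProduct.includeLeftRingHom : R →+* R ⊗[k] K))
  let incK : Spec (CommRingCat.of (R ⊗[k] K)) ⟶ Spec (CommRingCat.of K) :=
    Spec.map (CommRingCat.ofHom (Algebra.TensorProduct.includeRight (R := k) (A := R) (B := K)).toRingHom)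
  have hT : IsPullback incR incK (Spec.map (CommRingCat.ofHom (algebraMap k R))) (Spec.map (CommRingCat.ofHom (algebraMap k K))) :=
    isPullback_SpecMap_of_isPushout _ _ _ _ (CommRingCat.isPushout_tensorProduct k R K)
  let ιX : Spec (CommRingCat.of (R ⊗[k] K)) ⟶ X₁ := sq.lift (incK ≫ jK) (incR ≫ jR) (by
    rw [Category.assoc, Category.assoc, ← hjK, hjR, ← hsR, ← hk, ← Category.assoc, ← Category.assoc, hT.w])
  let ωX : Spec (CommRingCat.of Ω) ⟶ Spec (CommRingCat.of (R ⊗[k] K)) := hT.lift ζ (Spec.map aK) (by rw [hsR, hk, hζk])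
  have hωX : ωX ≫ ιX = ξ₀ := by
    refine sq.hom_ext ?_ ?_
    · rw [Category.assoc, sq.lift_fst, ← Category.assoc, hT.lift_snd]; exact hx
    · rw [Category.assoc, sq.lift_snd, ← Category.assoc, hT.lift_fst, ← Category.assoc, hζ₁, hα₁]
  obtain ⟨U, tU, s₀, hs₀⟩ := germ_surjective F' ξ₀ c₀
  haveI : Etale U.hom := U.prop
  let ZU := pullback U.hom ιX
  haveI : Etale (pullback.snd U.hom ιX) := MorphismProperty.pullback_snd _ _ inferInstance
  let ωZ : Spec (CommRingCat.of Ω) ⟶ ZU := pullback.lift (tU.left : Spec (CommRingCat.of Ω) ⟶ U.left) ωX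
    ((CategoryTheory.Over.w tU).trans hωX.symm)
  obtain ⟨Z₁, hZ₁, hzZ₁, -⟩ := exists_isAffineOpen_mem_and_subset (x := ωZ.base default) (U := (⊤ : ZU.Opens)) trivial
  let B : Type u := Γ(ZU, Z₁)
  obtain ⟨θ, hθ⟩ := Spec.map_surjective (hZ₁.fromSpec ≫ pullback.snd U.hom ιX)
  letI : Algebra (R ⊗[k] K) B := θ.hom.toAlgebra
  haveI : Algebra.Etale (R ⊗[k] K) B := RingHom.etale_algebraMap.1
    ((HasRingHomProperty.Spec_iff (P := @Etale)).1 (show Etale (Spec.map θ) by rw [hθ]; infer_instance))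
  let u₀ : Spec (CommRingCat.of B) ⟶ U.left := hZ₁.fromSpec ≫ pullback.fst U.hom ιX
  let Sθ : Spec (CommRingCat.of B) ⟶ Spec (CommRingCat.of (R ⊗[k] K)) := Spec.map θ
  have hu₀ : (u₀ ≫ U.hom) ≫ g₁ = Sθ ≫ incR ≫ jR := by
    simp only [u₀, Sθ, hθ, Category.assoc, pullback.condition_assoc]
    rw [sq.lift_snd]
  letI : Algebra R B := ((algebraMap (R ⊗[k] K) B).comp Algebra.TensorProduct.includeLeftRingHom).toAlgebra
  have hRB : Spec.map (CommRingCat.ofHom (algebraMap R B)) = Sθ ≫ incR := by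
    simp only [Sθ, incR, ← Spec.map_comp]
    rfl
  let ω₀ : Spec (CommRingCat.of Ω) ⟶ Spec (CommRingCat.of B) := IsOpenImmersion.lift hZ₁.fromSpec ωZ (by
    rintro _ ⟨z, rfl⟩
    rw [Subsingleton.elim z default]
    exact hZ₁.range_fromSpec.ge hzZ₁)
  have hω₀u : ω₀ ≫ u₀ = (tU.left : Spec (CommRingCat.of Ω) ⟶ U.left) := by
    simp only [u₀, ω₀, ← Category.assoc, IsOpenImmersion.lift_fac]
    exact pullback.lift_fst _ _ _
  have hω₀θ : ω₀ ≫ Sθ = ωX := by
    simp only [ω₀, Sθ, hθ, ← Category.assoc, IsOpenImmersion.lift_fac]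
    exact pullback.lift_snd _ _ _
  -- the open relation
  let D : Type u := B ⊗[R] B
  let d₁ : Spec (CommRingCat.of D) ⟶ Spec (CommRingCat.of B) :=
    Spec.map (CommRingCat.ofHom (Algebra.TensorProduct.includeLeftRingHom : B →+* B ⊗[R] B))
  let d₂ : Spec (CommRingCat.of D) ⟶ Spec (CommRingCat.of B) :=
    Spec.map (CommRingCat.ofHom (Algebra.TensorProduct.includeRight (R := R) (A := B) (B := B)).toRingHom)
  have hd : d₁ ≫ Spec.map (CommRingCat.ofHom (algebraMap R B)) = d₂ ≫ Spec.map (CommRingCat.ofHom (algebraMap R B)) :=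
    (isPullback_SpecMap_of_isPushout _ _ _ _ (CommRingCat.isPushout_tensorProduct R B B)).w
  obtain ⟨E, hE⟩ := exists_relOpen g₁ φ s₀ s₀ (d₁ ≫ u₀) (d₂ ≫ u₀) (by
    simp only [Category.assoc] at hu₀ ⊢
    rw [hu₀, ← Category.assoc Sθ, ← hRB, ← Category.assoc, hd, Category.assoc])
  obtain ⟨ψ₀, hψ₀⟩ := Spec.map_surjective ω₀
  letI : Algebra R Ω := (ψ₀.hom.comp (algebraMap R B)).toAlgebra
  let L₀ : B →ₐ[R] Ω := { ψ₀.hom with commutes' := fun _ => rfl }
  let χ₀ : D →+* Ω := (Algebra.TensorProduct.lift L₀ L₀ fun _ _ => Commute.all _ _).toRingHom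
  let τ₀ : Spec (CommRingCat.of Ω) ⟶ Spec (CommRingCat.of D) := Spec.map (CommRingCat.ofHom χ₀)
  have hτ₁ : τ₀ ≫ d₁ = ω₀ := by
    simp only [τ₀, d₁, ← Spec.map_comp, ← hψ₀]
    exact congrArg Spec.map (CommRingCat.hom_ext (lift_comp_left L₀ L₀))
  have hτ₂ : τ₀ ≫ d₂ = ω₀ := by
    simp only [τ₀, d₂, ← Spec.map_comp, ← hψ₀]
    exact congrArg Spec.map (CommRingCat.hom_ext (lift_comp_right' L₀ L₀))
  have hτE : τ₀.base default ∈ E := (hE Ω τ₀).2 (by
    rw [(Category.assoc τ₀ d₁ u₀).symm.trans (congrArg (· ≫ u₀) hτ₁), (Category.assoc τ₀ d₂ u₀).symm.trans (congrArg (· ≫ u₀) hτ₂)]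
    exact (rel_self φ hφ (ptMk (ω₀ ≫ u₀) rfl) (ptMk (ω₀ ≫ u₀) rfl) rfl rfl).2 rfl)
  obtain ⟨_, ⟨e, rfl⟩, heτ, heE⟩ := PrimeSpectrum.isTopologicalBasis_basic_opens.exists_subset_of_mem_open hτE E.2
  obtain ⟨Sf, hSf⟩ := TensorProduct.exists_finset (R := R) e
  let n := Sf.card
  let β : Fin n → B := fun i => (Sf.equivFin.symm i).1.1
  let γB : Fin n → B := fun i => (Sf.equivFin.symm i).1.2
  have he : e = ∑ i, β i ⊗ₜ[R] γB i := by
    rw [hSf, ← Finset.sum_coe_sort]
    exact (Equiv.sum_comp Sf.equivFin.symm fun p : Sf => p.1.1 ⊗ₜ[R] p.1.2).symm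
  obtain ⟨A, hA, BA, _, ρ, π, hρ, hπρ, hπS, hlift⟩ := exists_model k R K B (Finset.univ.image γB)
  choose γ hγ using fun i : Fin n => hπS (γB i) (Finset.mem_image_of_mem _ (Finset.mem_univ i))
  let β' : Fin n → Γ(Spec (CommRingCat.of B), ⊤) := fun i => (Scheme.ΓSpecIso (CommRingCat.of B)).inv (β i)
  let γ' : Fin n → Γ(Spec (CommRingCat.of BA), ⊤) := fun i => (Scheme.ΓSpecIso (CommRingCat.of BA)).inv (γ i)
  let Sπ : Spec (CommRingCat.of B) ⟶ Spec (CommRingCat.of BA) := Spec.map (CommRingCat.ofHom π)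
  have hSπ : Sπ ≫ toBase ρ = Spec.map (CommRingCat.ofHom (algebraMap R B)) := by
    simp only [Sπ, toBase, ← Spec.map_comp]
    refine congrArg Spec.map (CommRingCat.hom_ext ?_)
    refine RingHom.ext fun r => ?_
    have := RingHom.congr_fun hπρ ((algebraMap R (R ⊗[k] A)) r)
    refine this.trans ?_
    show algebraMap (R ⊗[k] K) B _ = algebraMap (R ⊗[k] K) B _
    simp
  have hpair : ∀ (Ω' : Type u) [Field Ω'] (p₁ p₂ : B →+* Ω') (h : p₁.comp (algebraMap R B) = p₂.comp (algebraMap R B)),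
      pairFun β' γ' (Spec.map (CommRingCat.ofHom p₁)) (Spec.map (CommRingCat.ofHom p₂) ≫ Sπ) ≠ 0 ↔
        ∃ χ : D →+* Ω', χ e ≠ 0 ∧ χ.comp Algebra.TensorProduct.includeLeftRingHom = p₁ ∧
          χ.comp (Algebra.TensorProduct.includeRight (R := R) (A := B) (B := B)).toRingHom = p₂ := by
    intro Ω' _ p₁ p₂ h
    rw [show Spec.map (CommRingCat.ofHom p₂) ≫ Sπ = Spec.map (CommRingCat.ofHom (p₂.comp π)) from (Spec.map_comp _ _).symm,
      pairFun_spec]
    have hval : ∀ χ : D →+* Ω', χ.comp Algebra.TensorProduct.includeLeftRingHom = p₁ →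
        χ.comp (Algebra.TensorProduct.includeRight (R := R) (A := B) (B := B)).toRingHom = p₂ →
        χ e = ∑ i, p₁ (β i) * (p₂.comp π) (γ i) := fun χ e₁ e₂ => by
      rw [he, map_sum]
      refine Finset.sum_congr rfl fun i _ => ?_
      rw [RingHom.comp_apply, hγ, ← e₁, ← e₂]
      show χ (β i ⊗ₜ[R] γB i) = χ (β i ⊗ₜ[R] 1) * χ (1 ⊗ₜ[R] γB i)
      rw [← map_mul, Algebra.TensorProduct.tmul_mul_tmul, mul_one, one_mul]
    refine ⟨fun hne => ?_, fun ⟨χ, hχ, e₁, e₂⟩ h0 => ?_⟩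
    · letI : Algebra R Ω' := (p₁.comp (algebraMap R B)).toAlgebra
      let L₁ : B →ₐ[R] Ω' := { p₁ with commutes' := fun _ => rfl }
      let L₂ : B →ₐ[R] Ω' := { p₂ with commutes' := fun r => (RingHom.congr_fun h r).symm }
      let χ : D →+* Ω' := (Algebra.TensorProduct.lift L₁ L₂ fun _ _ => Commute.all _ _).toRingHom
      have e₁ : χ.comp Algebra.TensorProduct.includeLeftRingHom = p₁ := lift_comp_left L₁ L₂
      have e₂ : χ.comp (Algebra.TensorProduct.includeRight (R := R) (A := B) (B := B)).toRingHom = p₂ := lift_comp_right' L₁ L₂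
      refine ⟨χ, fun h0 => hne ?_, e₁, e₂⟩
      rw [← hval χ e₁ e₂, h0, map_zero]
    · refine hχ ?_
      rw [hval χ e₁ e₂]
      exact (Scheme.ΓSpecIso (CommRingCat.of Ω')).symm.commRingCatIsoToRingEquiv.injective (h0.trans (map_zero _).symm)
  have hEpair : ∀ (Ω' : Type u) [Field Ω'] [IsAlgClosed Ω'] (ψ₁ ψ₂ : Spec (CommRingCat.of Ω') ⟶ Spec (CommRingCat.of B)),
      ψ₁ ≫ Sπ ≫ toBase ρ = ψ₂ ≫ Sπ ≫ toBase ρ → pairFun β' γ' ψ₁ (ψ₂ ≫ Sπ) ≠ 0 →
        Rel φ s₀ (ψ₁ ≫ u₀) s₀ (ψ₂ ≫ u₀) := by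
    intro Ω' _ _ ψ₁ ψ₂ h hne
    obtain ⟨p₁, rfl⟩ := Spec.map_surjective ψ₁
    obtain ⟨p₂, rfl⟩ := Spec.map_surjective ψ₂
    rw [hSπ] at h
    simp only [← Spec.map_comp, Spec.map_inj] at h
    obtain ⟨χ, hχ, e₁, e₂⟩ := (hpair Ω' p₁.hom p₂.hom (CommRingCat.hom_ext_iff.1 h)).1 hne
    let τ : Spec (CommRingCat.of Ω') ⟶ Spec (CommRingCat.of D) := Spec.map (CommRingCat.ofHom χ)
    have hτe : τ.base (default : Spec (CommRingCat.of Ω')) ∈ E :=
      heE fun (h : e ∈ (τ.base (default : Spec (CommRingCat.of Ω'))).asIdeal) => by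
        have h' : χ e ∈ (default : Spec (CommRingCat.of Ω')).asIdeal := h
        exact (default : Spec (CommRingCat.of Ω')).isPrime.ne_top (Ideal.eq_top_of_isUnit_mem _ h' (Ne.isUnit hχ))
    have h1 : τ ≫ d₁ = Spec.map p₁ := by
      simp only [τ, d₁, ← Spec.map_comp, ← CommRingCat.ofHom_comp, e₁]; rfl
    have h2 : τ ≫ d₂ = Spec.map p₂ := by
      simp only [τ, d₂, ← Spec.map_comp, ← CommRingCat.ofHom_comp, e₂]; rfl
    have := (hE Ω' τ).1 hτe
    rw [(Category.assoc τ d₁ u₀).symm.trans (congrArg (· ≫ u₀) h1), (Category.assoc τ d₂ u₀).symm.trans (congrArg (· ≫ u₀) h2)] at this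
    exact this
  -- the auxiliary scheme
  have hζa : ω₀ ≫ Sπ ≫ toBase ρ = ζ := by
    rw [hSπ, hRB, ← Category.assoc, hω₀θ, hT.lift_fst]
  let O := pairOpen β' γ' (pullback.snd (toBase ρ) ζ ≫ ω₀) (pullback.fst (toBase ρ) ζ)
  have hO : (O : Set ↥(pullback (toBase ρ) ζ)).Nonempty := by
    let l : Spec (CommRingCat.of Ω) ⟶ pullback (toBase ρ) ζ :=
      pullback.lift (ω₀ ≫ Sπ) (𝟙 _) (((Category.assoc _ _ _).trans hζa).trans (Category.id_comp _).symm)
    refine ⟨l.base default, (mem_pairOpen β' γ' _ _ l).2 ?_⟩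
    simp only [l, pullback.lift_snd_assoc, pullback.lift_fst, Category.id_comp]
    rw [← hψ₀]
    refine (hpair Ω ψ₀.hom ψ₀.hom rfl).2 ⟨χ₀, fun h0 => heτ ?_, ?_, ?_⟩
    · show χ₀ e ∈ (default : Spec (CommRingCat.of Ω)).asIdeal
      rw [h0]; exact zero_mem _
    · exact lift_comp_left L₀ L₀
    · exact lift_comp_right' L₀ L₀
  obtain ⟨T, _, t, m, hm, _, _, _, hmO⟩ := exists_auxiliary ρ hρ hA ζ O hO
  have hcond : pairFun β' γ' ω₀ (m ≫ t) ≠ 0 := by
    have := (mem_pairOpen β' γ' _ _ _).1 hmO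
    simp only [pullback.lift_snd_assoc, pullback.lift_fst, Category.id_comp] at this
    exact this
  obtain ⟨θT, hθT⟩ := Spec.map_surjective (T.isoSpec.inv ≫ (t ≫ toBase ρ) ≫ toR₁)
  let T₀ : Type u := Γ(T, ⊤)
  letI : Algebra Γ(Y₁, W₁) T₀ := θT.hom.toAlgebra
  have hθT' : Spec.map (CommRingCat.ofHom (algebraMap Γ(Y₁, W₁) T₀)) = T.isoSpec.inv ≫ (t ≫ toBase ρ) ≫ toR₁ := hθT
  haveI : LocallyOfFiniteType (Spec.map θT) := by rw [hθT]; infer_instance
  haveI : LocallyQuasiFinite (Spec.map θT) := by rw [hθT]; infer_instance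
  haveI : Algebra.FiniteType Γ(Y₁, W₁) T₀ := RingHom.finiteType_algebraMap.1
    ((HasRingHomProperty.Spec_iff (P := @LocallyOfFiniteType)).1 ‹LocallyOfFiniteType (Spec.map θT)›)
  haveI : Algebra.QuasiFinite Γ(Y₁, W₁) T₀ := RingHom.quasiFinite_algebraMap.1
    ((HasRingHomProperty.Spec_iff (P := @LocallyQuasiFinite)).1 ‹LocallyQuasiFinite (Spec.map θT)›)
  haveI : UniversallyOpen (Spec.map (CommRingCat.ofHom (algebraMap Γ(Y₁, W₁) T₀))) := by rw [hθT']; infer_instance
  obtain ⟨V₀, Z₀, q₀, aZ, _, _, ωz, hωz, hq₀⟩ :=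
    exists_finite_piece' (X := Y₁) (R := Γ(Y₁, W₁)) (T := T₀) (m ≫ T.isoSpec.hom) jR₁
  let tZ : Z₀ ⟶ Spec (CommRingCat.of BA) := aZ ≫ T.isoSpec.inv ≫ t
  have hw : (u₀ ≫ U.hom) ≫ g₁ = (Sπ ≫ toBase ρ) ≫ jR := by rw [hu₀, hSπ, hRB, Category.assoc]
  have hωzt : ωz ≫ tZ = m ≫ t := by
    simp only [tZ, ← Category.assoc, hωz]
    simp only [Category.assoc, Iso.hom_inv_id_assoc]
  haveI : UniversallyOpen ((Sπ ≫ toBase ρ) ≫ jR) := by
    rw [hSπ, hRB]
    haveI : Etale Sθ := by show Etale (Spec.map θ); rw [hθ]; infer_instance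
    haveI : UniversallyOpen (Spec.map (CommRingCat.ofHom (algebraMap k K))) := inferInstance
    haveI : UniversallyOpen incR := MorphismProperty.of_isPullback hT.flip inferInstance
    infer_instance
  have h₀ : ((ω₀ ≫ u₀) ≫ U.hom) = ξ₀ := by rw [hω₀u]; exact CategoryTheory.Over.w tU
  refine exists_lift_of_fictitious φ hφ ξ₀ c₀ s₀ jR Sπ (toBase ρ) u₀ hw β' γ' hEpair
    (fun Ω' _ _ ζ' O' hO' => exists_generic_lift ρ hρ π hlift ζ' O' hO') V₀ q₀ tZ ?_ ω₀ ωz ?_ ?_ (by rw [h₀]) ?_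
  · rw [hq₀, hθT']
    simp only [tZ, jR, Category.assoc]
  · rw [hωzt, hm, ← hζa, Category.assoc]
  · rw [hωzt]; exact hcond
  · have R₁ : Rel φ s₀ (ω₀ ≫ u₀) s₀ (ω₀ ≫ u₀) := (rel_self φ hφ (ptMk _ rfl) (ptMk _ rfl) rfl rfl).2 rfl
    have R₂ := (rel_iff φ (ptMk (ω₀ ≫ u₀) rfl) tU rfl hω₀u.symm (congrArg (· ≫ g₁) h₀)).1 R₁
    rw [R₂, hs₀]


end Groth.Agent.BigSiteLib.DescSec
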