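import Groth.Agent.BigSiteLib.EtDescSec.Integral
import Groth.Agent.EtFound.FieldExt
import Mathlib.AlgebraicGeometry.Morphisms.UniversallyClosed

/-!
# Effectivity of descent data along integral morphisms
-/

set_option autoImplicit false

universe u

open CategoryTheory CategoryTheory.Limits AlgebraicGeometry Opposite TopologicalSpace

namespace Groth.Agent.BigSiteLib.DescSec

set_option backward.isDefEq.respectTransparency.types false

variable {X' X : Scheme.{u}} (f : X' ⟶ X) {F' : EtDesc.Sh X'}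
  (φ : (EtDesc.pullSh (pullback.fst f f)).obj F' ≅ (EtDesc.pullSh (pullback.snd f f)).obj F')

local notation "pb" => IsPullback.of_hasPullback f f
local notation "Gl" => glueSh f (pullback.fst f f) (pullback.snd f f) (pullback.fst f f ≫ f) rfl pullback.condition.symm φ.hom
local notation "ψψ" => gluePsi f (pullback.fst f f) (pullback.snd f f) (pullback.fst f f ≫ f) rfl pullback.condition.symm φ.hom

theorem psi_germ {Ω : Type u} [Field Ω] [IsSepClosed Ω] {η : Spec (CommRingCat.of Ω) ⟶ X}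
    {ξ : Spec (CommRingCat.of Ω) ⟶ X'} (hξ : ξ ≫ f = η) {V : X.Etale} (v : (Scheme.pointSmallEtale η).fiber.obj V)
    (x : ToType ((Gl).obj.obj (op V))) :
    (Scheme.pointSmallEtale ξ).presheafFiber.map (ψψ).hom
        (germ ((EtDesc.pullSh f).obj Gl) ξ ((EtCoh.bc f).obj V) (EtFound.liftPt f hξ v) (up f Gl V x)) =
      germ F' ξ ((EtCoh.bc f).obj V) (EtFound.liftPt f hξ v)
        ((glueι f (pullback.fst f f) (pullback.snd f f) (pullback.fst f f ≫ f) rfl pullback.condition.symm φ.hom).hom.app (op V) x) := by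
  rw [germ_natural, gluePsi_up]

theorem pushStalkAt_germ' {Ω : Type u} [Field Ω] [IsSepClosed Ω] {η : Spec (CommRingCat.of Ω) ⟶ X}
    {ξ : Spec (CommRingCat.of Ω) ⟶ X'} (hξ : ξ ≫ f = η) (H : EtDesc.Sh X')
    {V : X.Etale} (v : (Scheme.pointSmallEtale η).fiber.obj V) (c : ToType (((EtDesc.pushSh f).obj H).obj.obj (op V))) :
    (EtFound.pushStalkAt f hξ).app H (germ ((EtDesc.pushSh f).obj H) η V v c) =
      germ H ξ ((EtCoh.bc f).obj V) (EtFound.liftPt f hξ v) c :=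
  EtFound.pushStalkAt_germ_apply (A := Type (u + 1)) f hξ H v c

theorem pushStalkAt_map_germ {Ω : Type u} [Field Ω] [IsSepClosed Ω] {η : Spec (CommRingCat.of Ω) ⟶ X}
    {ξ : Spec (CommRingCat.of Ω) ⟶ X'} (hξ : ξ ≫ f = η) {G : EtDesc.Sh X} (H : EtDesc.Sh X') (a : G ⟶ (EtDesc.pushSh f).obj H)
    {V : X.Etale} (v : (Scheme.pointSmallEtale η).fiber.obj V) (x : ToType (G.obj.obj (op V))) :
    (EtFound.pushStalkAt f hξ).app H ((Scheme.pointSmallEtale η).presheafFiber.map a.hom (germ G η V v x)) =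
      germ H ξ ((EtCoh.bc f).obj V) (EtFound.liftPt f hξ v) (a.hom.app (op V) x) :=
  (congrArg _ (germ_natural a η V v x)).trans (pushStalkAt_germ' f hξ H v (a.hom.app (op V) x))

theorem exists_up_germ {Ω : Type u} [Field Ω] [IsSepClosed Ω] {η : Spec (CommRingCat.of Ω) ⟶ X}
    {ξ : Spec (CommRingCat.of Ω) ⟶ X'} (hξ : ξ ≫ f = η) (G : EtDesc.Sh X) (e : St ((EtDesc.pullSh f).obj G) ξ) :
    ∃ (V : X.Etale) (v : (Scheme.pointSmallEtale η).fiber.obj V) (x : ToType (G.obj.obj (op V))),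
      e = germ ((EtDesc.pullSh f).obj G) ξ ((EtCoh.bc f).obj V) (EtFound.liftPt f hξ v) (up f G V x) ∧
        tr G hξ (stI f ξ G e) = germ G η V v x := by
  subst hξ
  obtain ⟨V, v, x, hx⟩ := germ_surjective G (ξ ≫ f) (stI f ξ G e)
  have h : EtFound.bcFiberEquiv f ξ V (EtFound.liftPt f rfl v) = v := (EtFound.bcFiberEquiv f ξ V).apply_symm_apply v
  refine ⟨V, v, x, (stI f ξ G).injective ?_, hx.symm⟩
  rw [stI_germ, h, hx]

section alg

variable [IsIntegralHom f] (hφ : EtDesc.IsCocycle F' φ)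
  {Ω : Type u} [Field Ω] [IsAlgClosed Ω] (ξ₀ : Spec (CommRingCat.of Ω) ⟶ X')

include hφ in
theorem psi_stalk_surjective :
    Function.Surjective ((Scheme.pointSmallEtale ξ₀).presheafFiber.map (ψψ).hom) := by
  intro c₀
  let η := ξ₀ ≫ f
  let c : ∀ ξ : {ξ : Spec (CommRingCat.of Ω) ⟶ X' // ξ ≫ f = η}, St F' ξ.1 := fun ξ =>
    Phi φ.hom pb ξ₀ ξ.1 ξ.2.symm c₀
  have hc : ∀ ξ₁ ξ₂ : {ξ : Spec (CommRingCat.of Ω) ⟶ X' // ξ ≫ f = η},
      Phi φ.hom pb ξ₁.1 ξ₂.1 (ξ₁.2.trans ξ₂.2.symm) (c ξ₁) = c ξ₂ := fun ξ₁ ξ₂ => Phi_trans f φ hφ _ _ _ _ _ c₀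
  obtain ⟨p, hp⟩ := EtFound.exists_preimage_of_local f F' c fun ξ₁ =>
    exists_local f (pullback.fst f f) (pullback.snd f f) pb φ.hom ξ₁ c pullback.condition.symm hc
  obtain ⟨V, v, s, hs⟩ := germ_surjective ((EtDesc.pushSh f).obj F') η p
  have hgerm : ∀ ξ : {ξ : Spec (CommRingCat.of Ω) ⟶ X' // ξ ≫ f = η},
      germ F' ξ.1 ((EtCoh.bc f).obj V) (EtFound.liftPt f ξ.2 v) s = c ξ := fun ξ => by
    rw [← hp ξ, ← hs]
    exact (EtFound.pushStalkAt_germ_apply f ξ.2 F' v s).symm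
  let L := {z : ((EtCoh.bc (pullback.fst f f ≫ f)).obj V).left |
    LocEq ((EtDesc.pullSh (pullback.snd f f)).obj F').obj
      (lhs f (pullback.fst f f) (pullback.snd f f) (pullback.fst f f ≫ f) rfl φ.hom V s)
      (side (pullback.fst f f ≫ f) (pullback.snd f f) f pullback.condition.symm F' V s) z}
  haveI : IsIntegralHom (pullback.fst f f) := MorphismProperty.pullback_fst f f inferInstance
  haveI : IsIntegralHom (pullback.fst f f ≫ f) := inferInstance
  haveI : IsIntegralHom (pullback.fst V.hom (pullback.fst f f ≫ f)) := MorphismProperty.pullback_fst _ _ inferInstance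
  let N : V.left.Opens := ⟨((pullback.fst V.hom (pullback.fst f f ≫ f)) '' Lᶜ)ᶜ,
    ((Scheme.Hom.isClosedMap (pullback.fst V.hom (pullback.fst f f ≫ f))) _ (isOpen_locEq _ _).isClosed_compl).isOpen_compl⟩
  have hv : (v.left : Spec (CommRingCat.of Ω) ⟶ V.left).base (default : Spec (CommRingCat.of Ω)) ∈ N := by
    rintro ⟨z, hz, hzv⟩
    obtain ⟨ζ, hζ, hζz⟩ := EtFound.exists_liftPt_eq (pullback.fst f f ≫ f) v z hzv
    have h₁ : (ζ ≫ pullback.fst f f) ≫ f = η := (Category.assoc _ _ _).trans hζ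
    have h₂ : (ζ ≫ pullback.snd f f) ≫ f = η := by rw [Category.assoc, ← pullback.condition]; exact hζ
    refine hz (locEq_of_germ ζ (EtFound.liftPt _ hζ v) ?_ z hζz)
    refine (germ_sides_iff f (pullback.fst f f) (pullback.snd f f) _ rfl pullback.condition.symm φ.hom pb h₁ h₂ ζ rfl rfl hζ v s).2 ?_
    rw [hgerm ⟨_, h₁⟩, hgerm ⟨_, h₂⟩]
    exact hc ⟨_, h₁⟩ ⟨_, h₂⟩
  let V' := EtFound.restrictEtale V N
  let j := EtFound.restrictEtaleHom V N
  obtain ⟨v', hv', -⟩ := EtFound.exists_lift_point j v ⟨_, hv⟩ rfl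
  let x : ToType ((Gl).obj.obj (op V')) := ⟨F'.obj.map ((EtCoh.bc f).map j).op s, eq_of_locEq _ fun z => by
    rw [lhs_map, side_map]
    refine LocEq.map _ (Classical.byContradiction fun hz => ?_)
    exact (pr (pullback.fst f f ≫ f) V' z).2 ⟨_, hz, pr_map (pullback.fst f f ≫ f) j z⟩⟩
  refine ⟨germ ((EtDesc.pullSh f).obj Gl) ξ₀ ((EtCoh.bc f).obj V') (EtFound.liftPt f (η := η) rfl v') (up f Gl V' x), ?_⟩
  rw [psi_germ]
  show germ F' ξ₀ _ (EtFound.liftPt f (η := η) rfl v') (F'.obj.map ((EtCoh.bc f).map j).op s) = c₀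
  rw [germ_map, EtFound.liftPt_map, hv', hgerm ⟨ξ₀, rfl⟩]
  exact Phi_self f φ hφ ξ₀ c₀

theorem psi_stalk_injective :
    Function.Injective ((Scheme.pointSmallEtale ξ₀).presheafFiber.map (ψψ).hom) := by
  intro e₁ e₂ he
  let η := ξ₀ ≫ f
  obtain ⟨V₁, v₁, x₁, h₁, k₁⟩ := exists_up_germ f (η := η) rfl Gl e₁
  obtain ⟨V₂, v₂, x₂, h₂, k₂⟩ := exists_up_germ f (η := η) rfl Gl e₂
  rw [h₁, h₂, psi_germ, psi_germ] at he
  refine (stI f ξ₀ Gl).injective ?_
  rw [tr_rfl] at k₁ k₂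
  rw [k₁, k₂]
  let ι := glueι f (pullback.fst f f) (pullback.snd f f) (pullback.fst f f ≫ f) rfl pullback.condition.symm φ.hom
  haveI : Mono ι := (sheafToPresheaf _ _).mono_of_mono_map (inferInstanceAs (Mono (Subfunctor.ι _)))
  refine germ_injective ι (injective_app_of_mono ι) η (EtFound.pushStalkAt_injective f F' (funext fun ξ => ?_))
  have key : ∀ {V : X.Etale} (v : (Scheme.pointSmallEtale η).fiber.obj V) (x : ToType ((Gl).obj.obj (op V))),
      (EtFound.pushStalkAt f ξ.2).app F' ((Scheme.pointSmallEtale η).presheafFiber.map ι.hom (germ Gl η V v x)) =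
        Phi φ.hom pb ξ₀ ξ.1 ξ.2.symm (germ F' ξ₀ _ (EtFound.liftPt f (η := η) rfl v) (ι.hom.app (op V) x)) := fun {V} v x => by
    refine (pushStalkAt_map_germ f ξ.2 F' ι v x).trans ?_
    let hζ₁ := (pb).lift_fst ξ₀ ξ.1 ξ.2.symm
    let hζ₂ := (pb).lift_snd ξ₀ ξ.1 ξ.2.symm
    have hζ : (pb).lift ξ₀ ξ.1 ξ.2.symm ≫ pullback.fst f f ≫ f = η := by rw [← Category.assoc, hζ₁]
    refine ((germ_sides_iff f (pullback.fst f f) (pullback.snd f f) _ rfl pullback.condition.symm φ.hom pb rfl ξ.2 _ hζ₁ hζ₂ hζ v _).1 ?_).symm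
    exact congrArg _ x.2
  exact (key v₁ x₁).trans ((congrArg _ he).trans (key v₂ x₂).symm)

end alg

theorem isIso_psi [IsIntegralHom f] (hφ : EtDesc.IsCocycle F' φ) : IsIso (ψψ) := by
  refine EtFound.isIso_of_stalks _ fun Ω₀ _ _ ξ => ?_
  let Ω := AlgebraicClosure Ω₀
  let l : Spec (CommRingCat.of Ω) ⟶ Spec (CommRingCat.of Ω₀) :=
    Spec.map (CommRingCat.ofHom (algebraMap Ω₀ Ω))
  have : IsIso ((Scheme.pointSmallEtale (l ≫ ξ)).sheafFiber.map (ψψ)) :=
    (ConcreteCategory.isIso_iff_bijective _).2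
      ⟨psi_stalk_injective f φ (l ≫ ξ), psi_stalk_surjective f φ hφ (l ≫ ξ)⟩
  have := (NatIso.isIso_map_iff (EtFound.stalkExtIso (Type (u + 1)) ξ l) (ψψ)).2 this
  exact (ConcreteCategory.isIso_iff_bijective ((Scheme.pointSmallEtale ξ).sheafFiber.map (ψψ))).1 this

theorem isEffective_of_integral [IsIntegralHom f] (hφ : EtDesc.IsCocycle F' φ) : EtDesc.IsEffective f F' φ := by
  haveI := isIso_psi f φ hφ
  refine ⟨Gl, asIso (ψψ), ?_⟩
  rw [canIso_eq]
  exact compat_iso _ _ ((EtDesc.pullSh (pullback.fst f f)).mapIso (asIso ψψ))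
    ((EtDesc.pullSh (pullback.snd f f)).mapIso (asIso ψψ)) φ
    (gluePsi_compat f (pullback.fst f f) (pullback.snd f f) (pullback.fst f f ≫ f) rfl pullback.condition.symm φ.hom)

end Groth.Agent.BigSiteLib.DescSec
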