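import Groth.Agent.BigSiteLib.EtDescSec.FlatLfp

/-!
# Spreading a germ with the help of an auxiliary finite cover not mapping to the source
-/

set_option autoImplicit false

universe u

open CategoryTheory CategoryTheory.Limits AlgebraicGeometry Opposite TopologicalSpace

namespace Groth.Agent.BigSiteLib.DescSec

set_option backward.isDefEq.respectTransparency.types false

section pairing

variable {W₀ M : Scheme.{u}} {n : ℕ} (β : Fin n → Γ(W₀, ⊤)) (γ : Fin n → Γ(M, ⊤))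

/-- The pairing of two maps. -/
noncomputable def pairFun {P : Scheme.{u}} (a : P ⟶ W₀) (c : P ⟶ M) : Γ(P, ⊤) :=
  ∑ i, a.appTop (β i) * c.appTop (γ i)

theorem appTop_pairFun {P Q : Scheme.{u}} (a : P ⟶ W₀) (c : P ⟶ M) (τ : Q ⟶ P) :
    τ.appTop (pairFun β γ a c) = pairFun β γ (τ ≫ a) (τ ≫ c) := by
  simp only [pairFun, map_sum, map_mul, Scheme.Hom.comp_appTop, CommRingCat.comp_apply]

theorem mem_basicOpen_iff_ne_zero {Ω : Type u} [Field Ω] (r : Γ(Spec (CommRingCat.of Ω), ⊤)) :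
    (default : Spec (CommRingCat.of Ω)) ∈ (Spec (CommRingCat.of Ω)).basicOpen r ↔ r ≠ 0 := by
  refine ⟨fun h e => by simp [e] at h, fun h => ?_⟩
  rw [basicOpen_eq_of_affine']
  intro hr
  have h0 := (Ideal.eq_bot_or_top _).resolve_right (default : Spec (CommRingCat.of Ω)).isPrime.ne_top
  have hr' : (Scheme.ΓSpecIso (CommRingCat.of Ω)).hom r = 0 := by
    have := h0 ▸ (hr : (Scheme.ΓSpecIso (CommRingCat.of Ω)).hom r ∈ (default : Spec (CommRingCat.of Ω)).asIdeal)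
    simpa using this
  exact h ((Scheme.ΓSpecIso (CommRingCat.of Ω)).commRingCatIsoToRingEquiv.injective (hr'.trans (map_zero _).symm))

/-- The open where the pairing does not vanish. -/
noncomputable def pairOpen {P : Scheme.{u}} (a : P ⟶ W₀) (c : P ⟶ M) : P.Opens := P.basicOpen (pairFun β γ a c)

theorem mem_pairOpen {P : Scheme.{u}} (a : P ⟶ W₀) (c : P ⟶ M) {Ω : Type u} [Field Ω] (τ : Spec (CommRingCat.of Ω) ⟶ P) :
    τ.base (default : Spec (CommRingCat.of Ω)) ∈ pairOpen β γ a c ↔ pairFun β γ (τ ≫ a) (τ ≫ c) ≠ 0 := by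
  rw [← mem_basicOpen_iff_ne_zero, ← appTop_pairFun, ← Scheme.preimage_basicOpen_top]
  rfl

end pairing

variable {X' X : Scheme.{u}} {f : X' ⟶ X} {F' : EtDesc.Sh X'}
  (φ : (EtDesc.pullSh (pullback.fst f f)).obj F' ≅ (EtDesc.pullSh (pullback.snd f f)).obj F')

local notation "pb" => IsPullback.of_hasPullback f f

theorem rel_descend {Ω Ω' : Type u} [Field Ω] [IsSepClosed Ω] [Field Ω'] [IsSepClosed Ω'] {U U' : X'.Etale}
    {s : ToType (F'.obj.obj (op U))} {x : ToType (F'.obj.obj (op U'))}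
    (k : Spec (CommRingCat.of Ω) ⟶ U.left) (k' : Spec (CommRingCat.of Ω) ⟶ U'.left)
    (h : (k ≫ U.hom) ≫ f = (k' ≫ U'.hom) ≫ f) (ι : Spec (CommRingCat.of Ω') ⟶ Spec (CommRingCat.of Ω))
    (hR : Rel φ s (ι ≫ k) x (ι ≫ k')) : Rel φ s k x k' := by
  obtain ⟨E, hE⟩ := exists_relOpen f φ s x k k' h
  have h1 : ι.base default ∈ E := (hE Ω' ι).2 hR
  have h2 := (hE Ω (𝟙 _)).1 (show (default : Spec (CommRingCat.of Ω)) ∈ E by rwa [Subsingleton.elim (ι.base default) default] at h1)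
  rwa [Category.id_comp, Category.id_comp] at h2

theorem exists_lift_of_fictitious (hφ : EtDesc.IsCocycle F' φ) {Ω : Type u} [Field Ω] [IsAlgClosed Ω]
    (ξ₀ : Spec (CommRingCat.of Ω) ⟶ X') (c₀ : St F' ξ₀)
    {U : X'.Etale} (s₀ : ToType (F'.obj.obj (op U))) {S W₀ M : Scheme.{u}} (j : S ⟶ X) [Mono j]
    (π : W₀ ⟶ M) (a : M ⟶ S) [UniversallyOpen ((π ≫ a) ≫ j)] (u₀ : W₀ ⟶ U.left) (w : (u₀ ≫ U.hom) ≫ f = (π ≫ a) ≫ j)
    {n : ℕ} (β : Fin n → Γ(W₀, ⊤)) (γ : Fin n → Γ(M, ⊤))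
    (hE : ∀ (Ω' : Type u) [Field Ω'] [IsAlgClosed Ω'] (ψ₁ ψ₂ : Spec (CommRingCat.of Ω') ⟶ W₀),
      ψ₁ ≫ π ≫ a = ψ₂ ≫ π ≫ a → pairFun β γ ψ₁ (ψ₂ ≫ π) ≠ 0 → Rel φ s₀ (ψ₁ ≫ u₀) s₀ (ψ₂ ≫ u₀))
    (hgen : ∀ (Ω' : Type u) [Field Ω'] [IsAlgClosed Ω'] (ζ : Spec (CommRingCat.of Ω') ⟶ S) (O : (pullback a ζ).Opens),
      (O : Set ↥(pullback a ζ)).Nonempty → ∃ (Ω'' : Type u) (_ : Field Ω'') (_ : IsAlgClosed Ω'')
        (ι : Spec (CommRingCat.of Ω'') ⟶ Spec (CommRingCat.of Ω')) (ψ : Spec (CommRingCat.of Ω'') ⟶ W₀)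
        (h : (ψ ≫ π) ≫ a = ι ≫ ζ), (pullback.lift (ψ ≫ π) ι h).base default ∈ O)
    (V₀ : X.Etale) {Z : Scheme.{u}} (q₀ : Z ⟶ V₀.left) [IsFinite q₀] [UniversallyOpen q₀]
    (t : Z ⟶ M) (wt : (t ≫ a) ≫ j = q₀ ≫ V₀.hom)
    (ω₀ : Spec (CommRingCat.of Ω) ⟶ W₀) (ζ₀ : Spec (CommRingCat.of Ω) ⟶ Z) (hζ₀ : (ζ₀ ≫ t) ≫ a = (ω₀ ≫ π) ≫ a)
    (hcond : pairFun β γ ω₀ (ζ₀ ≫ t) ≠ 0)
    (h₀ : ((ω₀ ≫ u₀) ≫ U.hom) ≫ f = ξ₀ ≫ f)
    (hc : Phi φ.hom pb ((ω₀ ≫ u₀) ≫ U.hom) ξ₀ h₀ (germ F' _ U (ptMk (ω₀ ≫ u₀) rfl) s₀) = c₀) :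
    ∃ (V : X.Etale) (v : (Scheme.pointSmallEtale (ξ₀ ≫ f)).fiber.obj V) (s : ToType (F'.obj.obj (op ((EtCoh.bc f).obj V)))),
      lhs f (pullback.fst f f) (pullback.snd f f) (pullback.fst f f ≫ f) rfl φ.hom V s =
        side (pullback.fst f f ≫ f) (pullback.snd f f) f pullback.condition.symm F' V s ∧
      germ F' ξ₀ _ (EtFound.liftPt f rfl v) s = c₀ := by
  let ν := ζ₀ ≫ q₀
  obtain ⟨Ws, v, Q, hQd, hQtop, hQm⟩ := EtFound.exists_separated_stage q₀ ν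
  let a₀ : {ζ : Spec (CommRingCat.of Ω) ⟶ Z // ζ ≫ q₀ = ν} := ⟨ζ₀, rfl⟩
  haveI : Etale Ws.hom := Ws.prop
  haveI : Etale V₀.hom := V₀.prop
  let Y : Scheme.{u} := pullback Ws.hom q₀
  let O : Y.Opens := Q a₀
  have hOclosed : IsClosed (O : Set Y) := by
    have : ((O : Set Y))ᶜ = ⋃ b : {b // b ≠ a₀}, (SetLike.coe (Q b.1) : Set Y) := by
      ext z
      refine ⟨fun hz => ?_, fun hz => ?_⟩
      · obtain ⟨b, hb⟩ := Opens.mem_iSup.1 (show z ∈ (⨆ a, Q a) by rw [hQtop]; trivial)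
        exact Set.mem_iUnion.2 ⟨⟨b, fun e => hz (by subst e; exact hb)⟩, hb⟩
      · obtain ⟨⟨b, hb⟩, hzb⟩ := Set.mem_iUnion.1 hz
        exact fun hzO => Set.disjoint_left.1 (Opens.coe_disjoint.2 (hQd hb)) hzb hzO
    exact isOpen_compl_iff.1 (this ▸ isOpen_iUnion fun b => (Q b.1).2)
  haveI : IsClosedImmersion O.ι := by
    refine .of_isPreimmersion _ ?_
    rw [Scheme.Opens.range_ι]
    exact hOclosed
  let qY : Y ⟶ Ws.left := pullback.fst Ws.hom q₀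
  haveI : IsFinite qY := MorphismProperty.pullback_fst _ _ inferInstance
  haveI : UniversallyOpen qY := MorphismProperty.pullback_fst _ _ inferInstance
  let q : (O : Scheme.{u}) ⟶ Ws.left := O.ι ≫ qY
  haveI : IsFinite q := inferInstanceAs (IsFinite (O.ι ≫ qY))
  haveI : UniversallyOpen q := inferInstanceAs (UniversallyOpen (O.ι ≫ qY))
  let tO : (O : Scheme.{u}) ⟶ M := O.ι ≫ pullback.snd Ws.hom q₀ ≫ t
  let bV : Ws.left ⟶ X := Ws.hom ≫ V₀.hom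
  have htO : (tO ≫ a) ≫ j = q ≫ bV := by
    simp only [tO, q, qY, bV, Category.assoc] at wt ⊢
    rw [wt, ← pullback.condition_assoc]
  let vl : Spec (CommRingCat.of Ω) ⟶ Ws.left := v.left
  let l₀ : Spec (CommRingCat.of Ω) ⟶ Y := (EtFound.liftPt q₀ (η := ν) (ξ := ζ₀) rfl v).left
  have hl₀ : Set.range l₀.base ⊆ Set.range O.ι.base := by
    rintro _ ⟨z, rfl⟩
    refine (Scheme.Opens.range_ι O).ge ?_
    rw [Subsingleton.elim z default]
    exact hQm a₀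
  let ζ : Spec (CommRingCat.of Ω) ⟶ (O : Scheme.{u}) := IsOpenImmersion.lift O.ι l₀ hl₀
  have hζ : ζ ≫ O.ι = l₀ := IsOpenImmersion.lift_fac _ _ _
  have hζq : ζ ≫ q = vl := (Category.assoc _ _ _).symm.trans ((congrArg (· ≫ qY) hζ).trans (EtFound.liftPt_fst q₀ _ v))
  have hζt : ζ ≫ tO = ζ₀ ≫ t := by
    refine (Category.assoc _ _ _).symm.trans ((congrArg (· ≫ pullback.snd Ws.hom q₀ ≫ t) hζ).trans ?_)
    exact (Category.assoc _ _ _).symm.trans (congrArg (· ≫ t) (pullback.lift_snd _ _ _))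
  have huniq : ∀ χ : Spec (CommRingCat.of Ω) ⟶ (O : Scheme.{u}), χ ≫ q = vl → χ = ζ := by
    intro χ hχ
    refine (cancel_mono O.ι).1 ?_
    rw [hζ]
    have hb : ((χ ≫ O.ι) ≫ pullback.snd Ws.hom q₀) ≫ q₀ = ν := by
      rw [Category.assoc, ← pullback.condition, ← Category.assoc, Category.assoc χ O.ι]
      refine (congrArg (· ≫ Ws.hom) hχ).trans ?_
      exact CategoryTheory.Over.w v
    let b : {ζ : Spec (CommRingCat.of Ω) ⟶ Z // ζ ≫ q₀ = ν} := ⟨_, hb⟩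
    have e : χ ≫ O.ι = (EtFound.liftPt q₀ b.2 v).left :=
      pullback.hom_ext (((Category.assoc _ _ _).trans hχ).trans (EtFound.liftPt_fst q₀ _ v).symm) (pullback.lift_snd _ _ _).symm
    have hbO : ((EtFound.liftPt q₀ b.2 v).left : Spec (CommRingCat.of Ω) ⟶ Y).base (default : Spec (CommRingCat.of Ω)) ∈ O := by
      rw [← e]
      exact (Scheme.Hom.comp_apply _ _ _).symm ▸ Subtype.coe_prop (χ.base default)
    have : b = a₀ := Classical.byContradiction fun hne => Set.disjoint_left.1 (Opens.coe_disjoint.2 (hQd hne)) (hQm b) hbO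
    rw [e, this]
  have hωv : ω₀ ≫ (π ≫ a) ≫ j = vl ≫ bV := by
    rw [← hζq, Category.assoc ζ q, ← htO, ← Category.assoc ω₀, ← Category.assoc ω₀, ← hζ₀, ← hζt]
    simp only [Category.assoc]
  let P := pullback ((π ≫ a) ≫ j) bV
  let pV : P ⟶ Ws.left := pullback.snd _ _
  haveI : UniversallyOpen pV := inferInstanceAs (UniversallyOpen (pullback.snd ((π ≫ a) ≫ j) bV))
  let π₃ : pullback pV q ⟶ P := pullback.fst pV q
  haveI : IsFinite π₃ := MorphismProperty.pullback_fst _ _ inferInstance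
  let a₃ : pullback pV q ⟶ W₀ := π₃ ≫ pullback.fst _ _
  let c₃ : pullback pV q ⟶ M := pullback.snd pV q ≫ tO
  let Wset : P.Opens := ⟨(π₃ '' (pairOpen β γ a₃ c₃ : Set ↥(pullback pV q))ᶜ)ᶜ,
    ((Scheme.Hom.isClosedMap π₃) _ (pairOpen β γ a₃ c₃).2.isClosed_compl).isOpen_compl⟩
  let p₀ : Spec (CommRingCat.of Ω) ⟶ P := pullback.lift ω₀ vl hωv
  have hp₀ : p₀.base default ∈ Wset := by
    rintro ⟨o, ho, hov⟩
    obtain ⟨τ, hτ, hτo⟩ := EtFound.exists_fac_of_integral π₃ p₀ o hov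
    refine ho (hτo ▸ (mem_pairOpen β γ a₃ c₃ τ).2 ?_)
    have e₁ : τ ≫ a₃ = ω₀ := by rw [← Category.assoc, hτ]; exact pullback.lift_fst _ _ _
    have e₂ : τ ≫ pullback.snd pV q = ζ := huniq _ (by
      rw [Category.assoc, ← pullback.condition, ← Category.assoc, hτ]
      exact pullback.lift_snd _ _ _)
    rw [e₁, ← Category.assoc, e₂, hζt]
    exact hcond
  let N : (Ws.left : Scheme.{u}).Opens := ⟨(pV '' (Wset : Set P)) ∩ Set.range q,
    ((Scheme.Hom.isOpenMap pV) _ Wset.2).inter (Scheme.Hom.isOpenMap q).isOpen_range⟩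
  have hvN : vl.base default ∈ N := ⟨⟨_, hp₀, (Scheme.Hom.comp_apply _ _ _).symm.trans
    (congrArg (fun k : Spec (CommRingCat.of Ω) ⟶ Ws.left => k.base default) (pullback.lift_snd _ _ _))⟩,
    ⟨ζ.base default, (Scheme.Hom.comp_apply _ _ _).symm.trans
      (congrArg (fun k : Spec (CommRingCat.of Ω) ⟶ Ws.left => k.base default) hζq)⟩⟩
  let qW : (Wset : Scheme.{u}) ⟶ Ws.left := Wset.ι ≫ pV
  haveI : UniversallyOpen qW := inferInstanceAs (UniversallyOpen (Wset.ι ≫ pV))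
  let qN := qW ∣_ N
  haveI : UniversallyOpen qN := IsZariskiLocalAtTarget.restrict (P := @UniversallyOpen) inferInstance N
  haveI : Surjective qN := ⟨fun z => by
    obtain ⟨y, hy, hyz⟩ := z.2.1
    have hy' : qW ⟨y, hy⟩ = z.1 := (Scheme.Hom.comp_apply _ _ _).trans hyz
    exact ⟨⟨⟨y, hy⟩, show qW ⟨y, hy⟩ ∈ N from hy'.symm ▸ z.2⟩, Subtype.ext ((morphismRestrict_base_coe qW N _).trans hy')⟩⟩
  let ZN := qW ⁻¹ᵁ N
  let V : X.Etale := Scheme.Etale.mk (N.ι ≫ bV)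
  let q' : (ZN : Scheme.{u}) ⟶ V.left := qN
  let pr₁ : (ZN : Scheme.{u}) ⟶ W₀ := ZN.ι ≫ Wset.ι ≫ pullback.fst _ _
  have hqN : qN ≫ N.ι = ZN.ι ≫ Wset.ι ≫ pV := morphismRestrict_ι qW N
  have hq' : pr₁ ≫ (π ≫ a) ≫ j = q' ≫ V.hom := by
    show _ = qN ≫ N.ι ≫ bV
    rw [← Category.assoc qN, hqN]
    simp only [pr₁, pV, P, Category.assoc] at *
    rw [← pullback.condition]
    simp only [Category.assoc]
  have hw' : ((pr₁ ≫ u₀) ≫ U.hom) ≫ f = q' ≫ V.hom := by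
    rw [← hq']
    simp only [Category.assoc] at w ⊢
    rw [w]
  let p₀' : Spec (CommRingCat.of Ω) ⟶ (Wset : Scheme.{u}) := IsOpenImmersion.lift Wset.ι p₀ (by
    rintro _ ⟨z, rfl⟩
    refine (Scheme.Opens.range_ι Wset).ge ?_
    rw [Subsingleton.elim z default]
    exact hp₀)
  have hp₀' : p₀' ≫ Wset.ι = p₀ := IsOpenImmersion.lift_fac _ _ _
  have hp₀q : p₀' ≫ qW = vl := (Category.assoc _ _ _).symm.trans ((congrArg (· ≫ pV) hp₀').trans (pullback.lift_snd _ _ _))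
  let ωN : Spec (CommRingCat.of Ω) ⟶ (ZN : Scheme.{u}) := IsOpenImmersion.lift ZN.ι p₀' (by
    rintro _ ⟨z, rfl⟩
    refine (Scheme.Opens.range_ι ZN).ge ?_
    show qW (p₀'.base z) ∈ N
    rw [Subsingleton.elim z default, ← Scheme.Hom.comp_apply, hp₀q]
    exact hvN)
  have hωN : ωN ≫ pr₁ = ω₀ := by
    rw [← Category.assoc, IsOpenImmersion.lift_fac, ← Category.assoc, hp₀', pullback.lift_fst]
  have hv : (ωN ≫ q') ≫ V.hom = ξ₀ ≫ f := by
    rw [Category.assoc, ← hw', ← h₀, ← hωN]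
    simp only [Category.assoc]
  refine ⟨V, ptMk (ωN ≫ q') hv, exists_lift_of_cover φ hφ ξ₀ c₀ (ptMk (ωN ≫ q') hv) q'
    (isUnivSubmersive_of_open qN) s₀ (pr₁ ≫ u₀) hw' (fun Ω' _ _ ω₁ ω₂ h => ?_) ωN rfl
    (by rw [← Category.assoc ωN, hωN]; exact h₀) ?_⟩
  · let n' : Spec (CommRingCat.of Ω') ⟶ Ws.left := (ω₁ ≫ qN) ≫ N.ι
    have hn₂ : (ω₂ ≫ qN) ≫ N.ι = n' := congrArg (· ≫ N.ι) h.symm
    obtain ⟨z, hz⟩ : n'.base default ∈ Set.range q := by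
      simp only [n', Scheme.Hom.comp_apply]
      exact (Subtype.coe_prop _ : ((qN (ω₁.base default)).1) ∈ N).2
    obtain ⟨o, -, -⟩ := Scheme.Pullback.exists_preimage_pullback (f := n') (g := q) default z hz.symm
    obtain ⟨Ω'', _, _, ρ, -⟩ := exists_geometric o
    let ι := ρ ≫ pullback.fst n' q
    let χ := ρ ≫ pullback.snd n' q
    have hχ : χ ≫ q = ι ≫ n' := by simp only [ι, χ, Category.assoc, pullback.condition]
    have hcond' : ∀ (ω : Spec (CommRingCat.of Ω') ⟶ (ZN : Scheme.{u})), (ω ≫ qN) ≫ N.ι = n' →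
        pairFun β γ ((ι ≫ ω) ≫ pr₁) (χ ≫ tO) ≠ 0 ∧ (((ι ≫ ω) ≫ pr₁) ≫ π) ≫ a = (χ ≫ tO) ≫ a := by
      intro ω hω
      let l : Spec (CommRingCat.of Ω'') ⟶ P := ((ι ≫ ω) ≫ ZN.ι) ≫ Wset.ι
      have hl : l ≫ pV = χ ≫ q := by
        rw [hχ, ← hω]
        simp only [l, Category.assoc]
        rw [← hqN]
      let τ : Spec (CommRingCat.of Ω'') ⟶ pullback pV q := pullback.lift l χ hl
      have hτa : τ ≫ a₃ = (ι ≫ ω) ≫ pr₁ := by
        rw [← Category.assoc, pullback.lift_fst]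
        simp only [l, pr₁, Category.assoc]
      have hτc : τ ≫ c₃ = χ ≫ tO := by rw [← Category.assoc, pullback.lift_snd]
      refine ⟨?_, ?_⟩
      · rw [← hτa, ← hτc, ← mem_pairOpen β γ a₃ c₃ τ]
        refine Classical.byContradiction fun hne => ?_
        have hlW : l.base default ∈ Wset := by
          rw [Scheme.Hom.comp_apply]
          exact Subtype.coe_prop _
        exact hlW ⟨τ.base default, hne, (Scheme.Hom.comp_apply _ _ _).symm.trans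
          (congrArg (fun k : Spec (CommRingCat.of Ω'') ⟶ P => k.base default) (pullback.lift_fst _ _ _))⟩
      · rw [← cancel_mono j]
        have e1 : ((((ι ≫ ω) ≫ pr₁) ≫ π) ≫ a) ≫ j = l ≫ pV ≫ bV := by
          simp only [l, pr₁, Category.assoc]
          simp only [pV, P, Category.assoc] at *
          rw [← pullback.condition]
          simp only [Category.assoc]
        rw [e1, ← Category.assoc l, hl, Category.assoc, ← htO]
        simp only [Category.assoc]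
    obtain ⟨c₁, e₁⟩ := hcond' ω₁ rfl
    obtain ⟨c₂, e₂⟩ := hcond' ω₂ hn₂
    let ψ₁ := (ι ≫ ω₁) ≫ pr₁
    let ψ₂ := (ι ≫ ω₂) ≫ pr₁
    let ζ'' := (χ ≫ tO) ≫ a
    let O₁ : (pullback a ζ'').Opens := pairOpen β γ (pullback.snd a ζ'' ≫ ψ₁) (pullback.fst a ζ'') ⊓
      pairOpen β γ (pullback.snd a ζ'' ≫ ψ₂) (pullback.fst a ζ'')
    let m₀ : Spec (CommRingCat.of Ω'') ⟶ pullback a ζ'' := pullback.lift (χ ≫ tO) (𝟙 _) (Category.id_comp _).symm
    have hm₀ : m₀.base default ∈ O₁ := by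
      refine ⟨(mem_pairOpen β γ _ _ m₀).2 ?_, (mem_pairOpen β γ _ _ m₀).2 ?_⟩
      · simp only [m₀, pullback.lift_fst, pullback.lift_snd_assoc, Category.id_comp]
        exact c₁
      · simp only [m₀, pullback.lift_fst, pullback.lift_snd_assoc, Category.id_comp]
        exact c₂
    obtain ⟨Ω₃, _, _, ι₃, ψ, hψ, hψO⟩ := hgen Ω'' ζ'' O₁ ⟨_, hm₀⟩
    have d₁ := (mem_pairOpen β γ _ _ _).1 hψO.1
    have d₂ := (mem_pairOpen β γ _ _ _).1 hψO.2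
    simp only [pullback.lift_fst, pullback.lift_snd_assoc] at d₁ d₂
    have k : ∀ ψ' : Spec (CommRingCat.of Ω'') ⟶ W₀, (ψ' ≫ π) ≫ a = ζ'' → (ι₃ ≫ ψ') ≫ π ≫ a = ψ ≫ π ≫ a := fun ψ' e => by
      rw [← Category.assoc ψ, hψ, ← e]
      simp only [Category.assoc]
    have R₁ := hE Ω₃ (ι₃ ≫ ψ₁) ψ (k ψ₁ e₁) d₁
    have R₂ := hE Ω₃ (ι₃ ≫ ψ₂) ψ (k ψ₂ e₂) d₂
    have R₃ := R₁.trans hφ (R₂.symm hφ)
    simp only [ψ₁, ψ₂, Category.assoc] at R₃
    refine rel_descend φ _ _ ?_ (ι₃ ≫ ι) ?_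
    · have hh : ((ω₁ ≫ q') ≫ V.hom) = ((ω₂ ≫ q') ≫ V.hom) := congrArg (· ≫ V.hom) h
      rw [Category.assoc ω₁ q', Category.assoc ω₂ q', ← hw'] at hh
      simp only [Category.assoc] at hh ⊢
      exact hh
    · simp only [Category.assoc]
      exact R₃
  · refine Eq.trans ?_ hc
    have hR : Rel φ s₀ (ω₀ ≫ u₀) s₀ (ωN ≫ pr₁ ≫ u₀) := by
      rw [← Category.assoc ωN, hωN]
      exact (rel_self φ hφ (ptMk (ω₀ ≫ u₀) rfl) (ptMk (ω₀ ≫ u₀) rfl) rfl rfl).2 rfl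
    obtain ⟨d, hd⟩ := hR
    rw [← hd, Phi_trans f φ hφ]

end Groth.Agent.BigSiteLib.DescSec
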