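import Groth.Agent.BigSiteLib.EtDescSec.Discrete
import Groth.Agent.EtFound.FiniteSplit
import Groth.Agent.S9432
import Mathlib.RingTheory.Etale.QuasiFinite

/-!
# Effectivity of descent along faithfully flat morphisms locally of finite presentation
-/

set_option autoImplicit false

universe u

open CategoryTheory CategoryTheory.Limits AlgebraicGeometry Opposite TopologicalSpace
open scoped TensorProduct

namespace Groth.Agent.BigSiteLib.DescSec

set_option backward.isDefEq.respectTransparency.types false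

variable {X' X : Scheme.{u}} {f : X' ⟶ X} {F' : EtDesc.Sh X'}
  (φ : (EtDesc.pullSh (pullback.fst f f)).obj F' ≅ (EtDesc.pullSh (pullback.snd f f)).obj F')

local notation "pb" => IsPullback.of_hasPullback f f

/-- A finite flat neighbourhood carrying a section gives an element of the glued stalk. -/
theorem exists_lift_of_finite (hφ : EtDesc.IsCocycle F' φ) {Ω : Type u} [Field Ω] [IsAlgClosed Ω]
    (ξ₀ : Spec (CommRingCat.of Ω) ⟶ X') (c₀ : St F' ξ₀) (V₀ : X.Etale)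
    {Z : Scheme.{u}} (q₀ : Z ⟶ V₀.left) [IsFinite q₀] [Flat q₀] [LocallyOfFinitePresentation q₀]
    {U : X'.Etale} (s₀ : ToType (F'.obj.obj (op U))) (u₀ : Z ⟶ U.left) (w : (u₀ ≫ U.hom) ≫ f = q₀ ≫ V₀.hom)
    (ω₀ : Spec (CommRingCat.of Ω) ⟶ Z) (h₀ : ((ω₀ ≫ u₀) ≫ U.hom) ≫ f = ξ₀ ≫ f)
    (hc : Phi φ.hom pb ((ω₀ ≫ u₀) ≫ U.hom) ξ₀ h₀ (germ F' _ U (ptMk (ω₀ ≫ u₀) rfl) s₀) = c₀) :
    ∃ (V : X.Etale) (v : (Scheme.pointSmallEtale (ξ₀ ≫ f)).fiber.obj V) (s : ToType (F'.obj.obj (op ((EtCoh.bc f).obj V)))),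
      lhs f (pullback.fst f f) (pullback.snd f f) (pullback.fst f f ≫ f) rfl φ.hom V s =
        side (pullback.fst f f ≫ f) (pullback.snd f f) f pullback.condition.symm F' V s ∧
      germ F' ξ₀ _ (EtFound.liftPt f rfl v) s = c₀ := by
  let ν := ω₀ ≫ q₀
  obtain ⟨W, v, Q, hQd, hQtop, hQm⟩ := EtFound.exists_separated_stage q₀ ν
  let a₀ : {ζ : Spec (CommRingCat.of Ω) ⟶ Z // ζ ≫ q₀ = ν} := ⟨ω₀, rfl⟩
  haveI : Etale W.hom := W.prop
  let Y : Scheme.{u} := pullback W.hom q₀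
  let O : Y.Opens := Q a₀
  have hOclosed : IsClosed (O : Set Y) := by
    have : ((O : Set Y))ᶜ = ⋃ b : {b // b ≠ a₀}, (SetLike.coe (Q b.1) : Set Y) := by
      ext z
      refine ⟨fun hz => ?_, fun hz => ?_⟩
      · obtain ⟨b, hb⟩ := Opens.mem_iSup.1 (show z ∈ (⨆ a, Q a) by rw [hQtop]; trivial)
        exact Set.mem_iUnion.2 ⟨⟨b, fun e => hz (by subst e; exact hb)⟩, hb⟩
      · obtain ⟨⟨b, hb⟩, hzb⟩ := Set.mem_iUnion.1 hz
        exact fun hzO => Set.disjoint_left.1 (Opens.coe_disjoint.2 (hQd hb)) hzb hzO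
    exact isOpen_compl_iff.1 (this ▸ isOpen_iUnion fun b => (Q b.1).2)
  haveI : IsClosedImmersion O.ι := by
    refine .of_isPreimmersion _ ?_
    rw [Scheme.Opens.range_ι]
    exact hOclosed
  let qY : Y ⟶ W.left := pullback.fst W.hom q₀
  haveI : IsFinite qY := MorphismProperty.pullback_fst _ _ inferInstance
  haveI : Flat qY := MorphismProperty.pullback_fst _ _ inferInstance
  haveI : LocallyOfFinitePresentation qY := MorphismProperty.pullback_fst _ _ inferInstance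
  let q : (O : Scheme.{u}) ⟶ W.left := O.ι ≫ qY
  haveI : IsFinite q := inferInstanceAs (IsFinite (O.ι ≫ qY))
  haveI : Flat q := inferInstanceAs (Flat (O.ι ≫ qY))
  haveI : LocallyOfFinitePresentation q := inferInstanceAs (LocallyOfFinitePresentation (O.ι ≫ qY))
  let u : (O : Scheme.{u}) ⟶ U.left := O.ι ≫ pullback.snd W.hom q₀ ≫ u₀
  have hu : (u ≫ U.hom) ≫ f = q ≫ W.hom ≫ V₀.hom := by
    simp only [u, q, qY, Category.assoc] at w ⊢
    rw [w, ← pullback.condition_assoc]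
  let vl : Spec (CommRingCat.of Ω) ⟶ W.left := v.left
  let l₀ : Spec (CommRingCat.of Ω) ⟶ Y := (EtFound.liftPt q₀ (η := ν) (ξ := ω₀) rfl v).left
  have hl₀ : Set.range l₀.base ⊆ Set.range O.ι.base := by
    rintro _ ⟨z, rfl⟩
    refine (Scheme.Opens.range_ι O).ge ?_
    rw [Subsingleton.elim z default]
    exact hQm a₀
  let ω : Spec (CommRingCat.of Ω) ⟶ (O : Scheme.{u}) := IsOpenImmersion.lift O.ι l₀ hl₀
  have hω : ω ≫ O.ι = l₀ := IsOpenImmersion.lift_fac _ _ _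
  have hωq : ω ≫ q = vl := (Category.assoc _ _ _).symm.trans ((congrArg (· ≫ qY) hω).trans (EtFound.liftPt_fst q₀ _ v))
  have hωu : ω ≫ u = ω₀ ≫ u₀ := by
    refine (Category.assoc _ _ _).symm.trans ((congrArg (· ≫ pullback.snd W.hom q₀ ≫ u₀) hω).trans ?_)
    exact (Category.assoc _ _ _).symm.trans (congrArg (· ≫ u₀) (pullback.lift_snd _ _ _))
  have huniq : ∀ ζ : Spec (CommRingCat.of Ω) ⟶ (O : Scheme.{u}), ζ ≫ q = vl → ζ = ω := by
    intro ζ hζ
    refine (cancel_mono O.ι).1 ?_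
    rw [hω]
    have hb : ((ζ ≫ O.ι) ≫ pullback.snd W.hom q₀) ≫ q₀ = ν := by
      rw [Category.assoc, ← pullback.condition, ← Category.assoc, Category.assoc ζ O.ι]
      refine (congrArg (· ≫ W.hom) hζ).trans ?_
      exact CategoryTheory.Over.w v
    let b : {ζ : Spec (CommRingCat.of Ω) ⟶ Z // ζ ≫ q₀ = ν} := ⟨_, hb⟩
    have e : ζ ≫ O.ι = (EtFound.liftPt q₀ b.2 v).left :=
      pullback.hom_ext (((Category.assoc _ _ _).trans hζ).trans (EtFound.liftPt_fst q₀ _ v).symm) (pullback.lift_snd _ _ _).symm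
    have hbO : ((EtFound.liftPt q₀ b.2 v).left : Spec (CommRingCat.of Ω) ⟶ Y).base (default : Spec (CommRingCat.of Ω)) ∈ O := by
      rw [← e]
      exact (Scheme.Hom.comp_apply _ _ _).symm ▸ Subtype.coe_prop (ζ.base default)
    have : b = a₀ := Classical.byContradiction fun hne => Set.disjoint_left.1 (Opens.coe_disjoint.2 (hQd hne)) (hQm b) hbO
    rw [e, this]
  obtain ⟨E, hE⟩ := exists_relOpen f φ s₀ s₀ (pullback.fst q q ≫ u) (pullback.snd q q ≫ u) (by
    simp only [Category.assoc] at hu ⊢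
    rw [hu, pullback.condition_assoc])
  haveI : IsFinite (pullback.fst q q) := MorphismProperty.pullback_fst _ _ inferInstance
  let π : pullback q q ⟶ W.left := pullback.fst q q ≫ q
  haveI : IsFinite π := inferInstanceAs (IsFinite (pullback.fst q q ≫ q))
  let N : (W.left : Scheme.{u}).Opens := ⟨(π '' (E : Set ↥(pullback q q))ᶜ)ᶜ ∩ Set.range q,
    ((Scheme.Hom.isClosedMap π) _ E.2.isClosed_compl).isOpen_compl.inter (Scheme.Hom.isOpenMap q).isOpen_range⟩
  have hvN : vl.base default ∈ N := by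
    refine ⟨?_, ⟨ω.base default, (Scheme.Hom.comp_apply _ _ _).symm.trans
      (congrArg (fun j : Spec (CommRingCat.of Ω) ⟶ W.left => j.base default) hωq)⟩⟩
    rintro ⟨o, ho, hov⟩
    obtain ⟨τ, hτ, hτo⟩ := EtFound.exists_fac_of_integral π vl o hov
    refine ho (hτo ▸ (hE Ω τ).2 ?_)
    have e₁ : τ ≫ pullback.fst q q = ω := huniq _ ((Category.assoc _ _ _).trans hτ)
    have e₂ : τ ≫ pullback.snd q q = ω := huniq _ (by rw [Category.assoc, ← pullback.condition]; exact hτ)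
    rw [(Category.assoc _ _ _).symm.trans (congrArg (· ≫ u) e₁), (Category.assoc _ _ _).symm.trans (congrArg (· ≫ u) e₂)]
    exact (rel_self φ hφ (ptMk (ω ≫ u) rfl) (ptMk (ω ≫ u) rfl) rfl rfl).2 rfl
  let ZN : (O : Scheme.{u}).Opens := q ⁻¹ᵁ N
  let qN : (ZN : Scheme.{u}) ⟶ (N : Scheme.{u}) := q ∣_ N
  haveI : Flat qN := inferInstanceAs (Flat (q ∣_ N))
  haveI : LocallyOfFinitePresentation qN := IsZariskiLocalAtTarget.restrict (P := @LocallyOfFinitePresentation) inferInstance N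
  haveI : Surjective qN := ⟨fun z => by
    obtain ⟨y, hy⟩ := z.2.2
    exact ⟨⟨y, show q y ∈ N from hy.symm ▸ z.2⟩, Subtype.ext ((morphismRestrict_base_coe q N _).trans hy)⟩⟩
  have hqN : qN ≫ N.ι = ZN.ι ≫ q := morphismRestrict_ι q N
  haveI : Etale V₀.hom := V₀.prop
  let V : X.Etale := Scheme.Etale.mk (N.ι ≫ W.hom ≫ V₀.hom)
  have hωN : Set.range ω.base ⊆ Set.range ZN.ι.base := by
    rintro _ ⟨z, rfl⟩
    refine (Scheme.Opens.range_ι ZN).ge ?_
    show q (ω.base z) ∈ N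
    rw [Subsingleton.elim z default, ← Scheme.Hom.comp_apply, hωq]
    exact hvN
  let ωN : Spec (CommRingCat.of Ω) ⟶ (ZN : Scheme.{u}) := IsOpenImmersion.lift ZN.ι ω hωN
  have hωN' : ωN ≫ ZN.ι = ω := IsOpenImmersion.lift_fac _ _ _
  let q' : (ZN : Scheme.{u}) ⟶ V.left := qN
  have hu' : ((ZN.ι ≫ u) ≫ U.hom) ≫ f = q' ≫ V.hom := by
    show _ = qN ≫ N.ι ≫ W.hom ≫ V₀.hom
    rw [← Category.assoc qN, hqN, Category.assoc ZN.ι q, ← hu]
    simp only [Category.assoc]
  have hωu' : ωN ≫ ZN.ι ≫ u = ω₀ ≫ u₀ := by rw [← Category.assoc, hωN', hωu]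
  have hv : (ωN ≫ q') ≫ V.hom = ξ₀ ≫ f := by
    rw [Category.assoc, ← hu', ← h₀, ← hωu']
    simp only [Category.assoc]
  refine ⟨V, ptMk (ωN ≫ q') hv, exists_lift_of_cover φ hφ ξ₀ c₀ (ptMk (ωN ≫ q') hv) q'
    (isUnivSubmersive_of_open qN) s₀ (ZN.ι ≫ u) hu' (fun Ω' _ _ ω₁ ω₂ h => ?_) ωN rfl (by rw [hωu']; exact h₀) ?_⟩
  · have h' : (ω₁ ≫ ZN.ι) ≫ q = (ω₂ ≫ ZN.ι) ≫ q := by
      rw [Category.assoc, Category.assoc, ← hqN]
      exact (Category.assoc _ _ _).symm.trans ((congrArg (· ≫ N.ι) h).trans (Category.assoc _ _ _))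
    let τ : Spec (CommRingCat.of Ω') ⟶ pullback q q := pullback.lift _ _ h'
    have hE' : τ.base default ∈ E := Classical.byContradiction fun hne => by
      have hN : ((ω₁ ≫ ZN.ι) ≫ q).base default ∈ N := by
        rw [Category.assoc, ← hqN, ← Category.assoc, Scheme.Hom.comp_apply]
        exact Subtype.coe_prop _
      refine hN.1 ⟨τ.base default, hne, ?_⟩
      exact (Scheme.Hom.comp_apply _ _ _).symm.trans (congrArg (fun j : Spec (CommRingCat.of Ω') ⟶ W.left => j.base default)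
        ((Category.assoc _ _ _).symm.trans (congrArg (· ≫ q) (pullback.lift_fst _ _ h'))))
    have := (hE Ω' τ).1 hE'
    simp only [τ, pullback.lift_fst_assoc, pullback.lift_snd_assoc] at this
    simp only [Category.assoc] at this ⊢
    exact this
  · have hh : ((ω₀ ≫ u₀) ≫ U.hom) = (ωN ≫ ZN.ι ≫ u) ≫ U.hom := by rw [hωu']
    refine Eq.trans ?_ hc
    have hR : Rel φ s₀ (ω₀ ≫ u₀) s₀ (ωN ≫ ZN.ι ≫ u) := by
      rw [hωu']
      exact (rel_self φ hφ (ptMk (ω₀ ≫ u₀) rfl) (ptMk (ω₀ ≫ u₀) rfl) rfl rfl).2 rfl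
    obtain ⟨a, ha⟩ := hR
    rw [← ha, Phi_trans f φ hφ]

theorem exists_geometric_lift {R S : Type u} [CommRing R] [CommRing S] [Algebra R S] [Module.FaithfullyFlat R S]
    [Algebra.QuasiFinite R S] [Algebra.FiniteType R S] {Ω : Type u} [Field Ω] [IsAlgClosed Ω] [Algebra R Ω] : Nonempty (S →ₐ[R] Ω) := by
  haveI : Nontrivial (Ω ⊗[R] S) := inferInstance
  haveI : Algebra.QuasiFinite Ω (Ω ⊗[R] S) := inferInstance
  haveI : Module.Finite Ω (Ω ⊗[R] S) := Module.Finite.of_quasiFinite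
  obtain ⟨M, hM⟩ := Ideal.exists_maximal (Ω ⊗[R] S)
  haveI := hM
  letI : Field ((Ω ⊗[R] S) ⧸ M) := Ideal.Quotient.field M
  let e : Ω ≃ₐ[Ω] (Ω ⊗[R] S) ⧸ M := AlgEquiv.ofBijective (Algebra.ofId _ _)
    (IsAlgClosed.algebraMap_bijective_of_isIntegral (k := Ω) (K := (Ω ⊗[R] S) ⧸ M))
  exact ⟨((e.symm : _ →ₐ[Ω] Ω).restrictScalars R).comp
    (((Ideal.Quotient.mkₐ Ω M).restrictScalars R).comp Algebra.TensorProduct.includeRight)⟩

variable (f)

/-- A finite flat etale-local piece through a geometric point of a quasi-finite flat scheme over the base. -/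
theorem exists_finite_piece {R T : Type u} [CommRing R] [CommRing T] [Algebra R T] [Algebra.FinitePresentation R T]
    [Algebra.QuasiFinite R T] [Module.Flat R T] {Ω : Type u} [Field Ω] [IsSepClosed Ω]
    (ω : Spec (CommRingCat.of Ω) ⟶ Spec (CommRingCat.of T)) (j : Spec (CommRingCat.of R) ⟶ X) [Etale j] :
    ∃ (V₀ : X.Etale) (Z : Scheme.{u}) (q₀ : Z ⟶ V₀.left) (a : Z ⟶ Spec (CommRingCat.of T))
      (_ : IsFinite q₀) (_ : Flat q₀) (_ : LocallyOfFinitePresentation q₀) (ω₀ : Spec (CommRingCat.of Ω) ⟶ Z),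
      ω₀ ≫ a = ω ∧ q₀ ≫ V₀.hom = a ≫ Spec.map (CommRingCat.ofHom (algebraMap R T)) ≫ j := by
  let t : PrimeSpectrum T := ω.base default
  obtain ⟨R', _, _, _, P, _, _, e, he, P', _, _, hP', heP', -, hfin, -⟩ :=
    Algebra.exists_etale_isIdempotentElem_forall_liesOver_eq (t.asIdeal.under R) t.asIdeal
  haveI := hfin
  haveI : Etale (Spec.map (CommRingCat.ofHom (algebraMap R R'))) :=
    (HasRingHomProperty.Spec_iff (P := @Etale)).2 (RingHom.etale_algebraMap.2 inferInstance)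
  let V₀ : X.Etale := Scheme.Etale.mk (Spec.map (CommRingCat.ofHom (algebraMap R R')) ≫ j)
  letI : Algebra T (R' ⊗[R] T) := Algebra.TensorProduct.rightAlgebra
  let ρ : T →+* R' ⊗[R] T := (Algebra.TensorProduct.includeRight (R := R) (A := R') (B := T)).toRingHom
  haveI : Etale (Spec.map (CommRingCat.ofHom ρ)) := by
    refine (HasRingHomProperty.Spec_iff (P := @Etale)).2 ?_
    show RingHom.Etale ρ
    haveI : Algebra.Etale T (R' ⊗[R] T) := Algebra.Etale.of_equiv (Algebra.TensorProduct.commRight R T R')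
    exact RingHom.etale_algebraMap.2 inferInstance
  let P'p : PrimeSpectrum (R' ⊗[R] T) := ⟨P', inferInstance⟩
  obtain ⟨l, hl, hl'⟩ := Scheme.exists_fac_of_etale_of_isSepClosed (Spec.map (CommRingCat.ofHom ρ)) ω P'p
    (PrimeSpectrum.ext hP')
  let T'' := Localization.Away e
  let ι : Spec (CommRingCat.of T'') ⟶ Spec (CommRingCat.of (R' ⊗[R] T)) :=
    Spec.map (CommRingCat.ofHom (algebraMap (R' ⊗[R] T) T''))
  haveI : IsOpenImmersion ι := IsOpenImmersion.of_isLocalization e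
  let q₀ : Spec (CommRingCat.of T'') ⟶ V₀.left := Spec.map (CommRingCat.ofHom (algebraMap R' T''))
  have hq : q₀ = ι ≫ Spec.map (CommRingCat.ofHom (algebraMap R' (R' ⊗[R] T))) := by
    simp only [q₀, ι, ← Spec.map_comp, ← CommRingCat.ofHom_comp, ← IsScalarTower.algebraMap_eq]
  haveI : IsFinite q₀ := (IsFinite.SpecMap_iff _).2 (RingHom.finite_algebraMap.2 hfin)
  haveI : Flat q₀ := Flat.SpecMap_iff.2 (RingHom.flat_algebraMap_iff.2 (Module.Flat.trans R' (R' ⊗[R] T) T''))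
  haveI : LocallyOfFinitePresentation q₀ := by
    haveI : Algebra.FinitePresentation (R' ⊗[R] T) T'' := IsLocalization.Away.finitePresentation e
    refine (LocallyOfFinitePresentation.SpecMap_iff _).2 ?_
    exact RingHom.finitePresentation_algebraMap.2 (Algebra.FinitePresentation.trans R' (R' ⊗[R] T) T'')
  have hrange : Set.range l.base ⊆ Set.range ι.base := by
    rintro _ ⟨z, rfl⟩
    rw [Subsingleton.elim z default, hl']
    exact (PrimeSpectrum.localization_away_comap_range T'' e).ge heP'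
  refine ⟨V₀, Spec (CommRingCat.of T''), q₀, ι ≫ Spec.map (CommRingCat.ofHom ρ), inferInstance, inferInstance, inferInstance,
    IsOpenImmersion.lift ι l hrange, ?_, ?_⟩
  · rw [← Category.assoc, IsOpenImmersion.lift_fac, hl]
  · show q₀ ≫ Spec.map _ ≫ j = _
    rw [hq]
    refine (Category.assoc _ _ _).trans ((congrArg (ι ≫ ·) ?_).trans (Category.assoc _ _ _).symm)
    refine (Category.assoc _ _ _).symm.trans ((congrArg (· ≫ j) ?_).trans (Category.assoc _ _ _))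
    refine (Spec.map_comp _ _).symm.trans ((congrArg Spec.map ?_).trans (Spec.map_comp _ _))
    ext r
    simpa [ρ] using Algebra.TensorProduct.algebraMap_eq_includeRight_apply r

theorem isEffective_of_flat [Surjective f] [Flat f] [LocallyOfFinitePresentation f] (hφ : EtDesc.IsCocycle F' φ) :
    EtDesc.IsEffective f F' φ := by
  refine isEffective_of_lift φ hφ (isUnivSubmersive_of_open f) fun Ω _ _ ξ₀ c₀ => ?_
  let x' := ξ₀.base (default : Spec (CommRingCat.of Ω))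
  obtain ⟨O₀, hO₀, hxO₀, -⟩ := exists_isAffineOpen_mem_and_subset (x := f x') (U := (⊤ : X.Opens)) trivial
  obtain ⟨U₀, hU₀, hxU₀, hU₀O⟩ := exists_isAffineOpen_mem_and_subset (x := x') (U := f ⁻¹ᵁ O₀) hxO₀
  let D : X.Opens := ⟨f '' U₀, (Scheme.Hom.isOpenMap f) _ U₀.2⟩
  obtain ⟨r, hrD, hxr⟩ := hO₀.exists_basicOpen_le (V := D) ⟨f x', ⟨x', hxU₀, rfl⟩⟩ hxO₀
  let O := X.basicOpen r
  have hO : IsAffineOpen O := hO₀.basicOpen r
  let U' : X'.Opens := X'.basicOpen (f.appLE O₀ U₀ hU₀O r)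
  have hU' : IsAffineOpen U' := hU₀.basicOpen _
  have hU'eq : U' = U₀ ⊓ f ⁻¹ᵁ O := Scheme.basicOpen_appLE f U₀ O₀ hU₀O r
  have hle : U' ≤ f ⁻¹ᵁ O := hU'eq.le.trans inf_le_right
  let R : Type u := Γ(X, O)
  let S : Type u := Γ(X', U')
  let φRS := f.appLE O U' hle
  letI : Algebra R S := φRS.hom.toAlgebra
  haveI : Module.Flat R S := RingHom.flat_algebraMap_iff.1 (f.flat_appLE hO hU' hle)
  haveI : Algebra.FinitePresentation R S := RingHom.finitePresentation_algebraMap.1 (f.finitePresentation_appLE hO hU' hle)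
  have hSR : Spec.map φRS ≫ hO.fromSpec = hU'.fromSpec ≫ f := IsAffineOpen.SpecMap_appLE_fromSpec f hO hU' hle
  haveI : Module.FaithfullyFlat R S := by
    refine Module.FaithfullyFlat.of_comap_surjective fun p => ?_
    obtain ⟨y, hy, hyp⟩ := hrD (show hO.fromSpec p ∈ O from hO.range_fromSpec.le ⟨p, rfl⟩)
    have hyU : y ∈ U' := hU'eq.ge ⟨hy, show f y ∈ O from hyp.symm ▸ hO.range_fromSpec.le ⟨p, rfl⟩⟩
    obtain ⟨q, hq⟩ := hU'.range_fromSpec.ge hyU
    refine ⟨q, hO.fromSpec.isOpenEmbedding.injective ?_⟩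
    refine Eq.trans ?_ hyp
    rw [← hq]
    exact ((Scheme.Hom.comp_apply _ _ _).symm.trans (congrArg (fun k : Spec Γ(X', U') ⟶ X => k.base q) hSR)).trans
      (Scheme.Hom.comp_apply _ _ _)
  obtain ⟨S', _, _, hqf, hft, hff, hfp, ⟨χ⟩⟩ := S9432.result R S
  let η := ξ₀ ≫ f
  have hηO : Set.range η.base ⊆ Set.range hO.fromSpec.base := by
    rintro _ ⟨z, rfl⟩
    refine hO.range_fromSpec.ge ?_
    rw [Subsingleton.elim z default]
    exact (Scheme.Hom.comp_apply ξ₀ f default).symm ▸ hxr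
  let α : Spec (CommRingCat.of Ω) ⟶ Spec (CommRingCat.of R) := IsOpenImmersion.lift hO.fromSpec η hηO
  letI : Algebra R Ω := (Spec.preimage α).hom.toAlgebra
  obtain ⟨ψ⟩ := exists_geometric_lift (R := R) (S := S') (Ω := Ω)
  let g : Spec (CommRingCat.of S') ⟶ Spec (CommRingCat.of R) := Spec.map (CommRingCat.ofHom (algebraMap R S'))
  haveI : Flat g := Flat.SpecMap_iff.2 (RingHom.flat_algebraMap_iff.2 inferInstance)
  haveI : LocallyOfFinitePresentation g := (LocallyOfFinitePresentation.SpecMap_iff _).2 (RingHom.finitePresentation_algebraMap.2 hfp)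
  haveI : LocallyQuasiFinite g := (HasRingHomProperty.Spec_iff (P := @LocallyQuasiFinite)).2 (RingHom.quasiFinite_algebraMap.2 hqf)
  let σ : Spec (CommRingCat.of S') ⟶ X' := Spec.map (CommRingCat.ofHom χ.toRingHom) ≫ hU'.fromSpec
  have hσ : σ ≫ f = g ≫ hO.fromSpec := by
    simp only [σ, g, Category.assoc, ← hSR]
    rw [← Category.assoc, ← Spec.map_comp]
    congr 2
    exact CommRingCat.hom_ext χ.comp_algebraMap
  let ω : Spec (CommRingCat.of Ω) ⟶ Spec (CommRingCat.of S') := Spec.map (CommRingCat.ofHom ψ.toRingHom)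
  have hωg : ω ≫ g = α := by
    simp only [ω, g, ← Spec.map_comp, ← CommRingCat.ofHom_comp]
    exact (congrArg Spec.map (CommRingCat.hom_ext ψ.comp_algebraMap)).trans (Spec.map_preimage α)
  have hωσ : (ω ≫ σ) ≫ f = ξ₀ ≫ f := by
    rw [Category.assoc, hσ, ← Category.assoc, hωg]
    exact IsOpenImmersion.lift_fac _ _ _
  obtain ⟨U, t, s₀, hs₀⟩ := germ_surjective F' (ω ≫ σ) (Phi φ.hom pb ξ₀ (ω ≫ σ) hωσ.symm c₀)
  haveI : Etale U.hom := U.prop
  let Z := pullback U.hom σ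
  haveI : Etale (pullback.snd U.hom σ) := MorphismProperty.pullback_snd _ _ inferInstance
  let h : Z ⟶ Spec (CommRingCat.of R) := pullback.snd U.hom σ ≫ g
  haveI : Flat h := inferInstanceAs (Flat (pullback.snd U.hom σ ≫ g))
  haveI : LocallyOfFinitePresentation h := inferInstanceAs (LocallyOfFinitePresentation (pullback.snd U.hom σ ≫ g))
  haveI : LocallyQuasiFinite (pullback.snd U.hom σ) := UnibEtale.locallyQuasiFinite_of_formallyUnramified _
  haveI : LocallyQuasiFinite h := inferInstanceAs (LocallyQuasiFinite (pullback.snd U.hom σ ≫ g))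
  let ωZ : Spec (CommRingCat.of Ω) ⟶ Z := pullback.lift (t.left : Spec (CommRingCat.of Ω) ⟶ U.left) ω (CategoryTheory.Over.w t)
  obtain ⟨Z₁, hZ₁, hzZ₁, -⟩ := exists_isAffineOpen_mem_and_subset (x := ωZ.base default) (U := (⊤ : Z.Opens)) trivial
  let T : Type u := Γ(Z, Z₁)
  obtain ⟨ρ, hρ⟩ := Spec.map_surjective (hZ₁.fromSpec ≫ h)
  letI : Algebra R T := ρ.hom.toAlgebra
  have hρ' : Spec.map (CommRingCat.ofHom (algebraMap R T)) = hZ₁.fromSpec ≫ h := hρ
  haveI : LocallyQuasiFinite hZ₁.fromSpec := inferInstance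
  haveI : Module.Flat R T := RingHom.flat_algebraMap_iff.1 (Flat.SpecMap_iff.1 (show Flat (Spec.map ρ) from hρ ▸ inferInstance))
  haveI : Algebra.FinitePresentation R T := RingHom.finitePresentation_algebraMap.1
    ((LocallyOfFinitePresentation.SpecMap_iff _).1 (show LocallyOfFinitePresentation (Spec.map ρ) from hρ ▸ inferInstance))
  haveI : Algebra.QuasiFinite R T := RingHom.quasiFinite_algebraMap.1
    ((HasRingHomProperty.Spec_iff (P := @LocallyQuasiFinite)).1 (show LocallyQuasiFinite (Spec.map ρ) from hρ ▸ inferInstance))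
  have hωT : Set.range ωZ.base ⊆ Set.range hZ₁.fromSpec.base := by
    rintro _ ⟨z, rfl⟩
    rw [Subsingleton.elim z default]
    exact hZ₁.range_fromSpec.ge hzZ₁
  let ωT : Spec (CommRingCat.of Ω) ⟶ Spec (CommRingCat.of T) := IsOpenImmersion.lift hZ₁.fromSpec ωZ hωT
  obtain ⟨V₀, Z₀, q₀, a, _, _, _, ω₀, ha, hq₀⟩ := exists_finite_piece (X := X) ωT hO.fromSpec
  let u₀ : Z₀ ⟶ U.left := a ≫ hZ₁.fromSpec ≫ pullback.fst U.hom σ
  have hw : (u₀ ≫ U.hom) ≫ f = q₀ ≫ V₀.hom := by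
    rw [hq₀, hρ']
    simp only [u₀, h, Category.assoc]
    rw [← hσ, pullback.condition_assoc]
  have e₀ : ω₀ ≫ u₀ = (t.left : Spec (CommRingCat.of Ω) ⟶ U.left) := by
    simp only [u₀, ← Category.assoc, ha]
    exact (congrArg (· ≫ pullback.fst U.hom σ) (IsOpenImmersion.lift_fac _ _ _)).trans (pullback.lift_fst _ _ _)
  have hpt : (ω₀ ≫ u₀) ≫ U.hom = ω ≫ σ := by rw [e₀]; exact CategoryTheory.Over.w t
  refine exists_lift_of_finite φ hφ ξ₀ c₀ V₀ q₀ s₀ u₀ hw ω₀ (by rw [hpt, hωσ]) ?_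
  have R₁ : Rel φ s₀ (ω₀ ≫ u₀) s₀ (ω₀ ≫ u₀) := (rel_self φ hφ (ptMk _ rfl) (ptMk _ rfl) rfl rfl).2 rfl
  have R₂ := (rel_iff φ (ptMk (ω₀ ≫ u₀) rfl) t rfl e₀.symm (congrArg (· ≫ f) hpt)).1 R₁
  rw [← Phi_trans f φ hφ _ (ω ≫ σ) _ (congrArg (· ≫ f) hpt) hωσ, R₂, hs₀, Phi_trans f φ hφ, Phi_self f φ hφ]

end Groth.Agent.BigSiteLib.DescSec
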