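import Groth.Agent.BigSiteLib.EtDescSec.Main

/-!
# Descent of sections over etale schemes and of morphisms
-/

set_option autoImplicit false

universe u

open CategoryTheory CategoryTheory.Limits AlgebraicGeometry Opposite TopologicalSpace

namespace Groth.Agent.BigSiteLib.DescSec

set_option backward.isDefEq.respectTransparency.types false

variable {X' X : Scheme.{u}} (f : X' ⟶ X)

/-- Comparison of base changes along `g ≫ a = b`. -/
noncomputable def viaC {T S : Scheme.{u}} (g : T ⟶ S) (a : S ⟶ X) (b : T ⟶ X) (w : g ≫ a = b) (V : X.Etale) :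
    (EtCoh.bc b).obj V ⟶ (EtCoh.bc g).obj ((EtCoh.bc a).obj V) :=
  eqToHom (by rw [w]) ≫ bcC g a V

theorem viaC_natural {T S : Scheme.{u}} (g : T ⟶ S) (a : S ⟶ X) (b : T ⟶ X) (w : g ≫ a = b) {V U : X.Etale} (m : V ⟶ U) :
    viaC g a b w V ≫ (EtCoh.bc g).map ((EtCoh.bc a).map m) = (EtCoh.bc b).map m ≫ viaC g a b w U := by
  subst w
  simp only [viaC, eqToHom_refl, Category.id_comp]
  exact ((MorphismProperty.Over.pullbackComp (P := EtCoh.etaleMP) (Q := ⊤) g a).hom.naturality m).symm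

theorem viaC_left {T S : Scheme.{u}} (g : T ⟶ S) (a : S ⟶ X) (b : T ⟶ X) (w : g ≫ a = b) (V : X.Etale) :
    ((viaC g a b w V).left ≫ pullback.fst ((EtCoh.bc a).obj V).hom g) ≫ pullback.fst V.hom a = pullback.fst V.hom b ∧
      ((viaC g a b w V).left ≫ pullback.fst ((EtCoh.bc a).obj V).hom g) ≫ pullback.snd V.hom a = pullback.snd V.hom b ≫ g := by
  subst w
  simp only [viaC, eqToHom_refl, Category.id_comp]
  exact ⟨bcC_fst_fst g a V, bcC_fst_snd g a V⟩

theorem unit_viaC {T S : Scheme.{u}} (g : T ⟶ S) (a : S ⟶ X) (b : T ⟶ X) (w : g ≫ a = b) (F : EtDesc.Sh X) (V : X.Etale)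
    (x : F.obj.obj (op V)) :
    (EtDesc.pullVia g a b w F).hom.hom.app (op ((EtCoh.bc b).obj V))
      (((EtDesc.pullSh g).obj ((EtDesc.pullSh a).obj F)).obj.map (viaC g a b w V).op
        (up g ((EtDesc.pullSh a).obj F) _ (up a F V x))) = up b F V x := by
  subst w
  simp only [viaC, eqToHom_refl, Category.id_comp]
  have e : (EtDesc.pullVia g a (g ≫ a) rfl F).hom = (EtDesc.pullCompSh g a).inv.app F := by
    simp [EtDesc.pullVia, EtDesc.pullCongrSh]
  rw [e]
  exact unit_pullCompSh g a F V x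

/-- A section over a base change, transported to the composite base change. -/
noncomputable def lift {T S : Scheme.{u}} (g : T ⟶ S) (a : S ⟶ X) (b : T ⟶ X) (w : g ≫ a = b) (F : EtDesc.Sh X) (U : X.Etale)
    (s : ((EtDesc.pullSh a).obj F).obj.obj (op ((EtCoh.bc a).obj U))) :
    ((EtDesc.pullSh b).obj F).obj.obj (op ((EtCoh.bc b).obj U)) :=
  (EtDesc.pullVia g a b w F).hom.hom.app (op ((EtCoh.bc b).obj U))
    (((EtDesc.pullSh g).obj ((EtDesc.pullSh a).obj F)).obj.map (viaC g a b w U).op (up g ((EtDesc.pullSh a).obj F) _ s))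

theorem lift_map {T S : Scheme.{u}} (g : T ⟶ S) (a : S ⟶ X) (b : T ⟶ X) (w : g ≫ a = b) (F : EtDesc.Sh X) {V U : X.Etale} (m : V ⟶ U)
    (s : ((EtDesc.pullSh a).obj F).obj.obj (op ((EtCoh.bc a).obj U))) :
    lift g a b w F V (((EtDesc.pullSh a).obj F).obj.map ((EtCoh.bc a).map m).op s) =
      ((EtDesc.pullSh b).obj F).obj.map ((EtCoh.bc b).map m).op (lift g a b w F U s) := by
  rw [lift, lift, up_map, mapF, viaC_natural, ← mapF]
  exact NatTrans.naturality_apply (EtDesc.pullVia g a b w F).hom.hom ((EtCoh.bc b).map m).op _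

theorem lift_up {T S : Scheme.{u}} (g : T ⟶ S) (a : S ⟶ X) (b : T ⟶ X) (w : g ≫ a = b) (F : EtDesc.Sh X) (U : X.Etale)
    (x : F.obj.obj (op U)) : lift g a b w F U (up a F U x) = up b F U x :=
  unit_viaC g a b w F U x

/-- a local section agreeing with a section over a base change -/
abbrev MatchU {F : EtDesc.Sh X} {U V : X.Etale} (s' : ((EtDesc.pullSh f).obj F).obj.obj (op ((EtCoh.bc f).obj U)))
    (m : V ⟶ U) (a : F.obj.obj (op V)) (z : ((EtCoh.bc f).obj V).left) : Prop :=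
  LocEq ((EtDesc.pullSh f).obj F).obj (up f F V a) (((EtDesc.pullSh f).obj F).obj.map ((EtCoh.bc f).map m).op s') z

/-- The relation between two points of a base change with the same image. -/
theorem exists_common {T : Scheme.{u}} (p₁ p₂ : T ⟶ X') (hP : IsPullback p₁ p₂ f f) (b : T ⟶ X) (w₁ : p₁ ≫ f = b)
    (w₂ : p₂ ≫ f = b) {V : X.Etale} {z₁ z₂ : ((EtCoh.bc f).obj V).left} (hz : pr f V z₁ = pr f V z₂) :
    ∃ w : ((EtCoh.bc b).obj V).left, pr p₁ ((EtCoh.bc f).obj V) ((viaC p₁ f b w₁ V).left w) = z₁ ∧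
      pr p₂ ((EtCoh.bc f).obj V) ((viaC p₂ f b w₂ V).left w) = z₂ := by
  obtain ⟨c₁f, c₁s⟩ := viaC_left p₁ f b w₁ V
  obtain ⟨c₂f, c₂s⟩ := viaC_left p₂ f b w₂ V
  obtain ⟨t, ht₁, ht₂⟩ := Scheme.Pullback.exists_preimage_pullback (f := pullback.fst V.hom f) (g := pullback.fst V.hom f) z₁ z₂ hz
  let r₁ := pullback.fst (pullback.fst V.hom f) (pullback.fst V.hom f)
  let r₂ := pullback.snd (pullback.fst V.hom f) (pullback.fst V.hom f)
  have hr : r₁ ≫ pullback.fst V.hom f = r₂ ≫ pullback.fst V.hom f := pullback.condition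
  let q : pullback (pullback.fst V.hom f) (pullback.fst V.hom f) ⟶ T :=
    hP.lift (r₁ ≫ pullback.snd V.hom f) (r₂ ≫ pullback.snd V.hom f) (by
      rw [Category.assoc, Category.assoc, ← pullback.condition, ← Category.assoc, hr, Category.assoc])
  let L : pullback (pullback.fst V.hom f) (pullback.fst V.hom f) ⟶ pullback V.hom b :=
    pullback.lift (r₁ ≫ pullback.fst V.hom f) q (by
      rw [← w₁, ← Category.assoc q, hP.lift_fst, Category.assoc, Category.assoc, pullback.condition])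
  have hd₁ : L ≫ ((viaC p₁ f b w₁ V).left ≫ pullback.fst ((EtCoh.bc f).obj V).hom p₁) = r₁ := pullback.hom_ext
    ((Category.assoc _ _ _).trans ((congrArg (L ≫ ·) c₁f).trans (pullback.lift_fst _ _ _)))
    ((Category.assoc _ _ _).trans ((congrArg (L ≫ ·) c₁s).trans
      ((Category.assoc _ _ _).symm.trans ((congrArg (· ≫ p₁) (pullback.lift_snd _ _ _)).trans (hP.lift_fst _ _ _)))))
  have hd₂ : L ≫ ((viaC p₂ f b w₂ V).left ≫ pullback.fst ((EtCoh.bc f).obj V).hom p₂) = r₂ := pullback.hom_ext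
    ((Category.assoc _ _ _).trans ((congrArg (L ≫ ·) c₂f).trans ((pullback.lift_fst _ _ _).trans hr)))
    ((Category.assoc _ _ _).trans ((congrArg (L ≫ ·) c₂s).trans
      ((Category.assoc _ _ _).symm.trans ((congrArg (· ≫ p₂) (pullback.lift_snd _ _ _)).trans (hP.lift_snd _ _ _)))))
  refine ⟨L t, ?_, ?_⟩
  · rw [← ht₁]
    exact ((Scheme.Hom.comp_apply _ _ _).symm.trans (Scheme.Hom.comp_apply _ _ _).symm).trans
      (congrArg (fun m : pullback (pullback.fst V.hom f) (pullback.fst V.hom f) ⟶ pullback V.hom f => m t) hd₁)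
  · rw [← ht₂]
    exact ((Scheme.Hom.comp_apply _ _ _).symm.trans (Scheme.Hom.comp_apply _ _ _).symm).trans
      (congrArg (fun m : pullback (pullback.fst V.hom f) (pullback.fst V.hom f) ⟶ pullback V.hom f => m t) hd₂)

theorem locEq_lift {T S : Scheme.{u}} (g : T ⟶ S) (a : S ⟶ X) (b : T ⟶ X) (w : g ≫ a = b) (F : EtDesc.Sh X) (V : X.Etale)
    {x y : ((EtDesc.pullSh a).obj F).obj.obj (op ((EtCoh.bc a).obj V))} {z : ((EtCoh.bc b).obj V).left}
    (h : LocEq ((EtDesc.pullSh a).obj F).obj x y (pr g ((EtCoh.bc a).obj V) ((viaC g a b w V).left z))) :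
    LocEq ((EtDesc.pullSh b).obj F).obj (lift g a b w F V x) (lift g a b w F V y) z :=
  ((locEq_up g ((EtDesc.pullSh a).obj F) h).map (viaC g a b w V)).natural (EtDesc.pullVia g a b w F).hom.hom

theorem locEq_of_lift {T S : Scheme.{u}} (g : T ⟶ S) (a : S ⟶ X) (b : T ⟶ X) (w : g ≫ a = b) (F : EtDesc.Sh X) (V : X.Etale)
    {x y : ((EtDesc.pullSh a).obj F).obj.obj (op ((EtCoh.bc a).obj V))} {z : ((EtCoh.bc b).obj V).left}
    (h : LocEq ((EtDesc.pullSh b).obj F).obj (lift g a b w F V x) (lift g a b w F V y) z) :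
    LocEq ((EtDesc.pullSh a).obj F).obj x y (pr g ((EtCoh.bc a).obj V) ((viaC g a b w V).left z)) := by
  have h₂ := h.natural (EtDesc.pullVia g a b w F).inv.hom
  rw [lift, lift, app_inv_apply, app_inv_apply] at h₂
  exact locEq_of_up g _ (LocEq.of_map (viaC g a b w V) h₂)

theorem germ_up_of_germ {Ω : Type u} [Field Ω] [IsSepClosed Ω] (ξ : Spec (CommRingCat.of Ω) ⟶ X') (F : EtDesc.Sh X) (V : X.Etale)
    (t : (Scheme.pointSmallEtale ξ).fiber.obj ((EtCoh.bc f).obj V)) (a : ToType (F.obj.obj (op V)))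
    (c : (Scheme.pointSmallEtale ξ).presheafFiber.obj ((EtDesc.pullSh f).obj F).obj)
    (h : (Scheme.pointSmallEtale (ξ ≫ f)).toPresheafFiber V (EtFound.bcFiberEquiv f ξ V t) F.obj a =
      (EtFound.sheafFiberPullIso f ξ).hom.app F c) :
    (Scheme.pointSmallEtale ξ).toPresheafFiber ((EtCoh.bc f).obj V) t ((EtDesc.pullSh f).obj F).obj (up f F V a) = c :=
  by
  have h' := (ConcreteCategory.comp_apply _ _ a).symm.trans
    ((ConcreteCategory.congr_hom (EtFound.sheafFiberPullIso_germ f ξ F V t) a).trans (ConcreteCategory.comp_apply _ _ a))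
  refine h'.symm.trans ?_
  refine (congrArg ((EtFound.sheafFiberPullIso f ξ).inv.app F) h).trans ?_
  exact iso_hom_inv_apply ((EtFound.sheafFiberPullIso f ξ).app F) c

theorem bcFiber_map {Ω : Type u} [Field Ω] [IsSepClosed Ω] (ξ : Spec (CommRingCat.of Ω) ⟶ X') {V U : X.Etale} (m : V ⟶ U)
    (t : (Scheme.pointSmallEtale ξ).fiber.obj ((EtCoh.bc f).obj V)) :
    EtFound.bcFiberEquiv f ξ U ((Scheme.pointSmallEtale ξ).fiber.map ((EtCoh.bc f).map m) t) =
      (Scheme.pointSmallEtale (ξ ≫ f)).fiber.map m (EtFound.bcFiberEquiv f ξ V t) := by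
  apply CategoryTheory.Over.OverMorphism.ext
  change ((t.left : Spec (CommRingCat.of Ω) ⟶ ((EtCoh.bc f).obj V).left) ≫ ((EtCoh.bc f).map m).left) ≫
      pullback.fst U.hom f = ((t.left : Spec (CommRingCat.of Ω) ⟶ pullback V.hom f) ≫ pullback.fst V.hom f) ≫ m.left
  rw [Category.assoc, Category.assoc]
  exact congrArg _ (EtCoh.isPullback_bc_map f m).w

theorem exists_locEq_up' (F : EtDesc.Sh X) {U : X.Etale} (s : ((EtDesc.pullSh f).obj F).obj.obj (op ((EtCoh.bc f).obj U)))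
    (z₀ : ((EtCoh.bc f).obj U).left) :
    ∃ (V : X.Etale) (m : V ⟶ U) (a : F.obj.obj (op V)) (z : ((EtCoh.bc f).obj V).left),
      ((EtCoh.bc f).map m).left z = z₀ ∧ MatchU f s m a z := by
  obtain ⟨Ω, _, _, ξ, t₀, ht₀⟩ := EtFound.exists_point_through ((EtCoh.bc f).obj U) z₀
  let Φ := Scheme.pointSmallEtale ξ
  let Ψ := Scheme.pointSmallEtale (ξ ≫ f)
  let G := (EtDesc.pullSh f).obj F
  let c := Φ.toPresheafFiber ((EtCoh.bc f).obj U) t₀ G.obj s
  obtain ⟨V₀, v₀, a₀, ha⟩ := Ψ.toPresheafFiber_jointly_surjective (P := F.obj) ((EtFound.sheafFiberPullIso f ξ).hom.app F c)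
  obtain ⟨⟨V, v⟩, ⟨α, hα⟩, ⟨β, hβ⟩, -⟩ := IsCofilteredOrEmpty.cone_objs
    (Ψ.fiber.elementsMk V₀ v₀) (Ψ.fiber.elementsMk U (EtFound.bcFiberEquiv f ξ U t₀))
  obtain ⟨α', hα'⟩ : ∃ α' : V ⟶ V₀, Ψ.fiber.map α' v = v₀ := ⟨α, hα⟩
  obtain ⟨β', hβ'⟩ : ∃ β' : V ⟶ U, Ψ.fiber.map β' v = EtFound.bcFiberEquiv f ξ U t₀ := ⟨β, hβ⟩
  let t := (EtFound.bcFiberEquiv f ξ V).symm v
  have htv : EtFound.bcFiberEquiv f ξ V t = v := Equiv.apply_symm_apply _ _
  have htm : Φ.fiber.map ((EtCoh.bc f).map β') t = t₀ := by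
    apply (EtFound.bcFiberEquiv f ξ U).injective
    rw [bcFiber_map, htv, hβ']
  obtain ⟨a, hav⟩ : ∃ a : F.obj.obj (op V), Ψ.toPresheafFiber V v F.obj a = (EtFound.sheafFiberPullIso f ξ).hom.app F c :=
    ⟨F.obj.map α'.op a₀, by rw [Ψ.toPresheafFiber_w_apply, hα', ha]⟩
  refine ⟨V, β', a, (t.left : Spec (CommRingCat.of Ω) ⟶ ((EtCoh.bc f).obj V).left).base (default : Spec (CommRingCat.of Ω)), ?_, ?_⟩
  · refine Eq.trans ?_ (ht₀ (default : Spec (CommRingCat.of Ω)))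
    rw [← htm]
    exact (Scheme.Hom.comp_apply _ _ _).symm
  · refine locEq_of_germ ξ t ?_ _ rfl
    refine (germ_up_of_germ f ξ F V t a c (htv.symm ▸ hav)).trans ?_
    rw [Φ.toPresheafFiber_w_apply, htm]

section descend

variable {T : Scheme.{u}} (p₁ p₂ : T ⟶ X') (hP : IsPullback p₁ p₂ f f) (b : T ⟶ X) (w₁ : p₁ ≫ f = b) (w₂ : p₂ ≫ f = b)
  {F : EtDesc.Sh X} {U : X.Etale} (s' : ((EtDesc.pullSh f).obj F).obj.obj (op ((EtCoh.bc f).obj U)))
  (hs : lift p₁ f b w₁ F U s' = lift p₂ f b w₂ F U s')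

include hP hs in
theorem matchU_aux {V : X.Etale} {m : V ⟶ U} {a : F.obj.obj (op V)} {z₁ z₂ : ((EtCoh.bc f).obj V).left}
    (hz : pr f V z₁ = pr f V z₂) (h : MatchU f s' m a z₁) : MatchU f s' m a z₂ := by
  obtain ⟨w, hw₁, hw₂⟩ := exists_common f p₁ p₂ hP b w₁ w₂ hz
  subst hw₁ hw₂
  have h₁ := locEq_lift p₁ f b w₁ F V h
  rw [lift_map, lift_up, hs, ← lift_map, ← lift_up p₂ f b w₂ F V a] at h₁
  exact locEq_of_lift p₂ f b w₂ F V h₁

variable (hf : EtDesc.IsUnivSubmersive f)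

include hf in
theorem up_injective {a a' : F.obj.obj (op U)} (h : up f F U a = up f F U a') : a = a' :=
  eq_of_locEq F fun v => by
    obtain ⟨z, rfl⟩ := (fst_surjective_isQuotientMap f hf U.hom).1 v
    exact locEq_of_up f F (h ▸ LocEq.refl _ _)

include hP hs hf in
theorem exists_descend : ∃ a : F.obj.obj (op U), up f F U a = s' := by
  choose v₀ hv₀ using (fst_surjective_isQuotientMap f hf U.hom).1
  choose V m a z hz hm using fun x : ((EtCoh.bc f).obj U).left => exists_locEq_up' f F s' x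
  have hgood : ∀ x, IsOpen {v : (V x).left | ∀ z', pr f (V x) z' = v → MatchU f s' (m x) (a x) z'} := fun x => by
    refine (fst_surjective_isQuotientMap f hf (V x).hom).2.isOpen_preimage.1 ?_
    have e : pullback.fst (V x).hom f ⁻¹' {v : (V x).left | ∀ z', pr f (V x) z' = v → MatchU f s' (m x) (a x) z'} =
        {z' : ((EtCoh.bc f).obj (V x)).left | MatchU f s' (m x) (a x) z'} :=
      Set.ext fun z' => ⟨fun h => h z' rfl, fun h z'' h' => matchU_aux f p₁ p₂ hP b w₁ w₂ s' hs h'.symm h⟩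
    rw [e]
    exact isOpen_locEq _ _
  let O : ∀ x, (V x).left.Opens := fun x => ⟨_, hgood x⟩
  let W : ((EtCoh.bc f).obj U).left → X.Etale := fun x => MorphismProperty.Over.mk ⊤ ((O x).ι ≫ (V x).hom) (by
    haveI : Etale (V x).hom := (V x).prop
    exact inferInstanceAs (Etale ((O x).ι ≫ (V x).hom)))
  let ι : ∀ x, W x ⟶ V x := fun x => MorphismProperty.Over.homMk (O x).ι rfl
  let π : ∀ x, W x ⟶ U := fun x => ι x ≫ m x
  let c : ∀ x, F.obj.obj (op (W x)) := fun x => F.obj.map (ι x).op (a x)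
  have hmatch : ∀ x (z' : ((EtCoh.bc f).obj (W x)).left), MatchU f s' (π x) (c x) z' := fun x z' => by
    have hz' : pr f (V x) (((EtCoh.bc f).map (ι x)).left z') = (ι x).left (pr f (W x) z') :=
      ((Scheme.Hom.comp_apply _ _ _).symm.trans
        (congrArg (fun q : ((EtCoh.bc f).obj (W x)).left ⟶ (V x).left => q z') (EtCoh.isPullback_bc_map f (ι x)).w)).trans
          (Scheme.Hom.comp_apply _ _ _)
    have h := ((pr f (W x) z').2 (((EtCoh.bc f).map (ι x)).left z') hz').map ((EtCoh.bc f).map (ι x))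
    rw [← up_map, mapF ((EtDesc.pullSh f).obj F).obj, ← Functor.map_comp] at h
    exact h
  have hcomp : ∀ i j (Y : X.Etale) (p : Y ⟶ W i) (q : Y ⟶ W j), p ≫ π i = q ≫ π j →
      F.obj.map p.op (c i) = F.obj.map q.op (c j) := fun i j Y p q e => by
    refine eq_of_locEq F fun y => ?_
    obtain ⟨z', rfl⟩ := (fst_surjective_isQuotientMap f hf Y.hom).1 y
    have key : ∀ x (r : Y ⟶ W x), LocEq ((EtDesc.pullSh f).obj F).obj (up f F Y (F.obj.map r.op (c x)))
        (((EtDesc.pullSh f).obj F).obj.map ((EtCoh.bc f).map (r ≫ π x)).op s') z' := fun x r => by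
      have h := (hmatch x (((EtCoh.bc f).map r).left z')).map ((EtCoh.bc f).map r)
      rw [← up_map, mapF ((EtDesc.pullSh f).obj F).obj, ← Functor.map_comp] at h
      exact h
    exact locEq_of_up f F ((key i p).trans (e ▸ (key j q).symm))
  have hcov : Sieve.generate (Presieve.ofArrows W π) ∈ X.smallEtaleTopology U := by
    rw [EtFound.mem_topology_iff]
    intro u
    let x := v₀ u
    refine ⟨W x, π x, ⟨pr f (V x) (z x), fun z' h' => matchU_aux f p₁ p₂ hP b w₁ w₂ s' hs h'.symm (hm x)⟩,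
      ⟨W x, 𝟙 _, π x, ⟨x⟩, Category.id_comp _⟩, ?_⟩
    refine Eq.trans ?_ (hv₀ u)
    show (m x).left (pr f (V x) (z x)) = _
    refine (((Scheme.Hom.comp_apply _ _ _).symm.trans
      (congrArg (fun q : ((EtCoh.bc f).obj (V x)).left ⟶ U.left => q (z x)) (EtCoh.isPullback_bc_map f (m x)).w.symm)).trans
        (Scheme.Hom.comp_apply _ _ _)).trans ?_
    exact congrArg (pullback.fst U.hom f) (hz x)
  obtain ⟨s, hs', -⟩ := (Presieve.isSheafFor_arrows_iff _ _).1 ((Presieve.isSheafFor_iff_generate _).2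
    (((isSheaf_iff_isSheaf_of_type _ _).1 F.property) _ hcov)) c hcomp
  refine ⟨s, eq_of_locEq _ fun x => ?_⟩
  have hx : pr f (V x) (z x) ∈ O x := fun z' h' => matchU_aux f p₁ p₂ hP b w₁ w₂ s' hs h'.symm (hm x)
  obtain ⟨t, ht, ht'⟩ := Scheme.exists_preimage_of_isPullback (EtCoh.isPullback_bc_map f (ι x)) (z x)
    (⟨pr f (V x) (z x), hx⟩ : (W x).left) rfl
  have hx' : ((EtCoh.bc f).map (π x)).left t = x := by
    exact ((congrArg (fun q : (EtCoh.bc f).obj (W x) ⟶ (EtCoh.bc f).obj U => q.left t) (Functor.map_comp _ _ _)).trans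
      (Scheme.Hom.comp_apply _ _ _)).trans ((congrArg ((EtCoh.bc f).map (m x)).left ht).trans (hz x))
  rw [← hx']
  refine LocEq.of_map ((EtCoh.bc f).map (π x)) ?_
  rw [← up_map, hs']
  exact hmatch x t

end descend

section morphisms

variable {T : Scheme.{u}} (p₁ p₂ : T ⟶ X') (hP : IsPullback p₁ p₂ f f) (b : T ⟶ X) (w₁ : p₁ ≫ f = b) (w₂ : p₂ ≫ f = b)
  {F G : EtDesc.Sh X} (a : (EtDesc.pullSh f).obj F ⟶ (EtDesc.pullSh f).obj G)

theorem up_natural {S R : Scheme.{u}} (g : S ⟶ R) {A B : EtDesc.Sh R} (φ : A ⟶ B) (U : R.Etale) (x : A.obj.obj (op U)) :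
    ((EtDesc.pullSh g).map φ).hom.app (op ((EtCoh.bc g).obj U)) (up g A U x) = up g B U (φ.hom.app (op U) x) :=
  (ConcreteCategory.congr_hom (congrArg (fun α : A ⟶ (EtDesc.pushSh g).obj ((EtDesc.pullSh g).obj B) => α.hom.app (op U))
    ((EtDesc.adjSh g).unit.naturality φ)) x).symm

theorem lift_hom (v₁ : (EtDesc.pullSh p₁).obj ((EtDesc.pullSh f).obj F) ≅ (EtDesc.pullSh b).obj F)
    (v₂ : (EtDesc.pullSh p₂).obj ((EtDesc.pullSh f).obj F) ≅ (EtDesc.pullSh b).obj F)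
    (u₁ : (EtDesc.pullSh p₁).obj ((EtDesc.pullSh f).obj G) ≅ (EtDesc.pullSh b).obj G)
    (u₂ : (EtDesc.pullSh p₂).obj ((EtDesc.pullSh f).obj G) ≅ (EtDesc.pullSh b).obj G)
    (a₁ : (EtDesc.pullSh p₁).obj ((EtDesc.pullSh f).obj F) ⟶ (EtDesc.pullSh p₁).obj ((EtDesc.pullSh f).obj G))
    (a₂ : (EtDesc.pullSh p₂).obj ((EtDesc.pullSh f).obj F) ⟶ (EtDesc.pullSh p₂).obj ((EtDesc.pullSh f).obj G))
    (h : (v₁ ≪≫ v₂.symm).hom ≫ a₂ = a₁ ≫ (u₁ ≪≫ u₂.symm).hom) (W : T.Etale)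
    (x₁ : ((EtDesc.pullSh p₁).obj ((EtDesc.pullSh f).obj F)).obj.obj (op W))
    (x₂ : ((EtDesc.pullSh p₂).obj ((EtDesc.pullSh f).obj F)).obj.obj (op W))
    (e : v₁.hom.hom.app (op W) x₁ = v₂.hom.hom.app (op W) x₂) :
    u₁.hom.hom.app (op W) (a₁.hom.app (op W) x₁) = u₂.hom.hom.app (op W) (a₂.hom.app (op W) x₂) := by
  refine (trans_symm_apply_eq_iff u₁ u₂ W _ _).1 ?_
  have h' := ConcreteCategory.congr_hom (congrArg (fun α : _ ⟶ (EtDesc.pullSh p₂).obj ((EtDesc.pullSh f).obj G) => α.hom.app (op W)) h) x₁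
  refine h'.symm.trans ?_
  exact congrArg (a₂.hom.app (op W)) ((trans_symm_apply_eq_iff v₁ v₂ W _ _).2 e)

theorem lift_app_eq
    (h : (EtDesc.pullVia p₁ f b w₁ F ≪≫ (EtDesc.pullVia p₂ f b w₂ F).symm).hom ≫ (EtDesc.pullSh p₂).map a =
      (EtDesc.pullSh p₁).map a ≫ (EtDesc.pullVia p₁ f b w₁ G ≪≫ (EtDesc.pullVia p₂ f b w₂ G).symm).hom)
    (U : X.Etale) (x : F.obj.obj (op U)) :
    lift p₁ f b w₁ G U (a.hom.app (op ((EtCoh.bc f).obj U)) (up f F U x)) =
      lift p₂ f b w₂ G U (a.hom.app (op ((EtCoh.bc f).obj U)) (up f F U x)) := by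
  rw [lift, lift, ← up_natural p₁ a, ← up_natural p₂ a, ← NatTrans.naturality_apply, ← NatTrans.naturality_apply]
  exact lift_hom f p₁ p₂ b _ _ _ _ _ _ h _ _ _ ((lift_up p₁ f b w₁ F U x).trans (lift_up p₂ f b w₂ F U x).symm)

include hP in
theorem existsUnique_hom (hf : EtDesc.IsUnivSubmersive f)
    (h : (EtDesc.pullVia p₁ f b w₁ F ≪≫ (EtDesc.pullVia p₂ f b w₂ F).symm).hom ≫ (EtDesc.pullSh p₂).map a =
      (EtDesc.pullSh p₁).map a ≫ (EtDesc.pullVia p₁ f b w₁ G ≪≫ (EtDesc.pullVia p₂ f b w₂ G).symm).hom) :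
    ∃! φ : F ⟶ G, (EtDesc.pullSh f).map φ = a := by
  choose β hβ using fun (U : X.Etale) (x : F.obj.obj (op U)) =>
    exists_descend f p₁ p₂ hP b w₁ w₂ (a.hom.app (op ((EtCoh.bc f).obj U)) (up f F U x))
      (lift_app_eq f p₁ p₂ b w₁ w₂ a h U x) hf
  let φ : F ⟶ G := ⟨{ app := fun U => TypeCat.ofHom (β U.unop)
                      naturality := fun U V k => by
                        ext x
                        refine up_injective f hf ?_
                        show up f G V.unop (β V.unop (F.obj.map k x)) = up f G V.unop (G.obj.map k (β U.unop x))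
                        rw [hβ, ← Quiver.Hom.op_unop k, up_map, up_map, hβ]
                        exact NatTrans.naturality_apply a.hom ((EtCoh.bc f).map k.unop).op _ }⟩
  have hφ : ∀ U x, up f G U (φ.hom.app (op U) x) = a.hom.app (op ((EtCoh.bc f).obj U)) (up f F U x) := fun U x => hβ U x
  refine ⟨φ, ?_, fun ψ hψ => Sheaf.hom_ext (NatTrans.ext (funext fun U => ConcreteCategory.hom_ext _ _ fun x => up_injective f hf ?_))⟩
  · apply ((EtDesc.adjSh f).homEquiv F _).injective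
    refine Sheaf.hom_ext (NatTrans.ext (funext fun U => ConcreteCategory.hom_ext _ _ fun x => ?_))
    rw [Adjunction.homEquiv_unit, Adjunction.homEquiv_unit]
    exact ((up_natural f φ U.unop x).trans (hφ U.unop x))
  · refine ((up_natural f ψ U.unop x).symm.trans ?_).trans (hφ U.unop x).symm
    rw [hψ]

end morphisms

theorem fullyFaithful (hf : EtDesc.IsUnivSubmersive f) (F G : EtDesc.Sh X) (a : (EtDesc.pullSh f).obj F ⟶ (EtDesc.pullSh f).obj G)
    (ha : (EtDesc.canIso f F).hom ≫ (EtDesc.pullSh (pullback.snd f f)).map a =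
      (EtDesc.pullSh (pullback.fst f f)).map a ≫ (EtDesc.canIso f G).hom) :
    ∃! b : F ⟶ G, (EtDesc.pullSh f).map b = a := by
  rw [canIso_eq, canIso_eq] at ha
  exact existsUnique_hom f (pullback.fst f f) (pullback.snd f f) (IsPullback.of_hasPullback f f) _ rfl
    pullback.condition.symm a hf ha

end Groth.Agent.BigSiteLib.DescSec
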