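import Groth.Agent.BigSiteLib.EtDescSec.LocIn

/-!
# Descent of subsheaves along universally submersive morphisms
-/

set_option autoImplicit false

universe u

open CategoryTheory CategoryTheory.Limits AlgebraicGeometry Opposite TopologicalSpace

namespace Groth.Agent.BigSiteLib.DescSec

set_option backward.isDefEq.respectTransparency.types false

variable {X' X : Scheme.{u}} (f : X' ⟶ X)

theorem injective_app_of_mono {S : Scheme.{u}} {A B : EtDesc.Sh S} (a : A ⟶ B) [Mono a] (U : S.Etale) :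
    Function.Injective (a.hom.app (op U)) := by
  haveI : Mono a.hom := inferInstanceAs (Mono ((sheafToPresheaf _ _).map a))
  exact (mono_iff_injective _).1 inferInstance

theorem mono_pull {S T : Scheme.{u}} (g : T ⟶ S) {A B : EtDesc.Sh S} (a : A ⟶ B) [Mono a] :
    Mono ((EtDesc.pullSh g).map a) := by
  haveI : ∀ U, Mono (((EtDesc.pullSh g).map a).hom.app U) := fun U =>
    (mono_iff_injective _).2 (pull_map_injective g (injective_app_of_mono a) U.unop)
  haveI : Mono ((sheafToPresheaf _ _).map ((EtDesc.pullSh g).map a)) :=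
    @NatTrans.mono_of_mono_app _ _ _ _ _ _ ((EtDesc.pullSh g).map a).hom this
  exact (sheafToPresheaf _ _).mono_of_mono_map this

theorem pullVia_natural {T S R : Scheme.{u}} (g : T ⟶ S) (a : S ⟶ R) (b : T ⟶ R) (w : g ≫ a = b) {F G : EtDesc.Sh R} (φ : F ⟶ G) :
    (EtDesc.pullSh g).map ((EtDesc.pullSh a).map φ) ≫ (EtDesc.pullVia g a b w G).hom =
      (EtDesc.pullVia g a b w F).hom ≫ (EtDesc.pullSh b).map φ :=
  ((EtDesc.pullCompSh g a).symm ≪≫ EtDesc.pullCongrSh w).hom.naturality φ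

theorem trans_symm_natural {C : Type*} [Category C] {A₁ A₂ B A₁' A₂' B' : C} (α₁ : A₁ ≅ B) (α₂ : A₂ ≅ B)
    (β₁ : A₁' ≅ B') (β₂ : A₂' ≅ B') (a₁ : A₁ ⟶ A₁') (a₂ : A₂ ⟶ A₂') (c : B ⟶ B')
    (h₁ : a₁ ≫ β₁.hom = α₁.hom ≫ c) (h₂ : a₂ ≫ β₂.hom = α₂.hom ≫ c) :
    (α₁ ≪≫ α₂.symm).hom ≫ a₂ = a₁ ≫ (β₁ ≪≫ β₂.symm).hom := by
  have h : α₂.inv ≫ a₂ = c ≫ β₂.inv := by rw [Iso.inv_comp_eq, ← Category.assoc, ← h₂, Category.assoc, Iso.hom_inv_id, Category.comp_id]
  simp only [Iso.trans_hom, Iso.symm_hom, Category.assoc]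
  rw [h, ← Category.assoc, ← h₁, Category.assoc]

theorem canIso_natural {F G : EtDesc.Sh X} (φ : F ⟶ G) :
    (EtDesc.canIso f F).hom ≫ (EtDesc.pullSh (pullback.snd f f)).map ((EtDesc.pullSh f).map φ) =
      (EtDesc.pullSh (pullback.fst f f)).map ((EtDesc.pullSh f).map φ) ≫ (EtDesc.canIso f G).hom := by
  rw [canIso_eq, canIso_eq]
  exact trans_symm_natural _ _ _ _ _ _ _ (pullVia_natural _ _ _ _ φ) (pullVia_natural _ _ _ _ φ)

theorem exists_iso_of_pull (hf : EtDesc.IsUnivSubmersive f) {F G₁ G₂ : EtDesc.Sh X} (a₁ : G₁ ⟶ F) (a₂ : G₂ ⟶ F)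
    [Mono a₁] [Mono a₂]
    (φ : (EtDesc.pullSh f).obj G₁ ≅ (EtDesc.pullSh f).obj G₂)
    (h : φ.hom ≫ (EtDesc.pullSh f).map a₂ = (EtDesc.pullSh f).map a₁) :
    ∃ ψ : G₁ ≅ G₂, ψ.hom ≫ a₂ = a₁ := by
  have h' : φ.inv ≫ (EtDesc.pullSh f).map a₁ = (EtDesc.pullSh f).map a₂ := by rw [Iso.inv_comp_eq, h]
  have key : ∀ {G H : EtDesc.Sh X} (a : G ⟶ F) (c : H ⟶ F) [Mono c] (β : (EtDesc.pullSh f).obj G ⟶ (EtDesc.pullSh f).obj H),
      β ≫ (EtDesc.pullSh f).map c = (EtDesc.pullSh f).map a → ∃ ψ : G ⟶ H, ψ ≫ c = a := fun {G H} a c _ β hβ => by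
    haveI := mono_pull f c
    haveI := mono_pull (pullback.snd f f) ((EtDesc.pullSh f).map c)
    have hc : (EtDesc.canIso f G).hom ≫ (EtDesc.pullSh (pullback.snd f f)).map β =
        (EtDesc.pullSh (pullback.fst f f)).map β ≫ (EtDesc.canIso f H).hom := by
      rw [← cancel_mono ((EtDesc.pullSh (pullback.snd f f)).map ((EtDesc.pullSh f).map c)), Category.assoc, Category.assoc,
        ← Functor.map_comp, hβ, canIso_natural, canIso_natural, ← Category.assoc, ← Functor.map_comp, hβ]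
    obtain ⟨ψ, hψ, -⟩ := fullyFaithful f hf G H β hc
    obtain ⟨θ, -, hθ⟩ := fullyFaithful f hf G F ((EtDesc.pullSh f).map a) (canIso_natural f a)
    refine ⟨ψ, (hθ (ψ ≫ c) ?_).trans (hθ a rfl).symm⟩
    show (EtDesc.pullSh f).map (ψ ≫ c) = _
    rw [Functor.map_comp, hψ, hβ]
  obtain ⟨ψ, hψ⟩ := key a₁ a₂ φ.hom h
  obtain ⟨ψ', hψ'⟩ := key a₂ a₁ φ.inv h'
  exact ⟨⟨ψ, ψ', (cancel_mono a₁).1 (by rw [Category.assoc, hψ', hψ, Category.id_comp]),
    (cancel_mono a₂).1 (by rw [Category.assoc, hψ, hψ', Category.id_comp])⟩, hψ⟩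

section effective

variable {F : EtDesc.Sh X} {G' : EtDesc.Sh X'} (a' : G' ⟶ (EtDesc.pullSh f).obj F)
  {T : Scheme.{u}} (p₁ p₂ : T ⟶ X') (hP : IsPullback p₁ p₂ f f) (b : T ⟶ X) (w₁ : p₁ ≫ f = b) (w₂ : p₂ ≫ f = b)
  (φ : (EtDesc.pullSh p₁).obj G' ⟶ (EtDesc.pullSh p₂).obj G')
  (hφ : φ ≫ (EtDesc.pullSh p₂).map a' = (EtDesc.pullSh p₁).map a' ≫
    (EtDesc.pullVia p₁ f b w₁ F ≪≫ (EtDesc.pullVia p₂ f b w₂ F).symm).hom)

include hP hφ in
theorem locIn_saturated {V : X.Etale} {x : F.obj.obj (op V)} {z₁ z₂ : ((EtCoh.bc f).obj V).left}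
    (hz : pr f V z₁ = pr f V z₂) (h : LocIn a' (up f F V x) z₁) : LocIn a' (up f F V x) z₂ := by
  obtain ⟨w, hw₁, hw₂⟩ := exists_common f p₁ p₂ hP b w₁ w₂ hz
  subst hw₁ hw₂
  have h₁ := ((locIn_up p₁ h).map (viaC p₁ f b w₁ V)).natural φ _ hφ
  rw [(trans_symm_apply_eq_iff (EtDesc.pullVia p₁ f b w₁ F) (EtDesc.pullVia p₂ f b w₂ F) _ _ _).2
    ((lift_up p₁ f b w₁ F V x).trans (lift_up p₂ f b w₂ F V x).symm)] at h₁
  exact locIn_of_up p₂ (LocIn.of_map (viaC p₂ f b w₂ V) h₁)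

/-- The descended subsheaf, as a subfunctor. -/
def subF : Subfunctor F.obj where
  obj U := {x | ∀ z, LocIn a' (up f F U.unop x) z}
  map {U V} i := fun x hx z => by
    show LocIn a' (up f F V.unop (F.obj.map i.unop.op x)) z
    rw [up_map]
    exact (hx _).map _

theorem pr_map {V U : X.Etale} (m : V ⟶ U) (z : ((EtCoh.bc f).obj V).left) :
    pr f U (((EtCoh.bc f).map m).left z) = m.left (pr f V z) :=
  ((Scheme.Hom.comp_apply _ _ _).symm.trans
    (congrArg (fun q : ((EtCoh.bc f).obj V).left ⟶ U.left => q z) (EtCoh.isPullback_bc_map f m).w)).trans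
    (Scheme.Hom.comp_apply _ _ _)

theorem subF_isSheaf : Presieve.IsSheaf X.smallEtaleTopology (subF f a').toFunctor :=
  ((subF f a').isSheaf_iff ((isSheaf_iff_isSheaf_of_type _ _).1 F.property)).2 fun U s hs z => by
    obtain ⟨W, k, w, hk, hw⟩ := (EtFound.mem_topology_iff _).1 hs (pr f U.unop z)
    obtain ⟨t, ht, -⟩ := Scheme.exists_preimage_of_isPullback (EtCoh.isPullback_bc_map f k) z w hw.symm
    subst ht
    refine LocIn.of_map _ ?_
    rw [← up_map]
    exact hk t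

/-- The descended subsheaf. -/
noncomputable def subSh : EtDesc.Sh X := ⟨(subF f a').toFunctor, (isSheaf_iff_isSheaf_of_type _ _).2 (subF_isSheaf f a')⟩

/-- Its inclusion. -/
noncomputable def subShι : subSh f a' ⟶ F := ⟨(subF f a').ι⟩

theorem mono_subShι : Mono (subShι f a') :=
  (sheafToPresheaf _ _).mono_of_mono_map (inferInstanceAs (Mono (subF f a').ι))

variable (hf : EtDesc.IsUnivSubmersive f)

include hP hφ hf in
theorem exists_effective [Mono a'] :
    ∃ (G : EtDesc.Sh X) (a : G ⟶ F) (_ : Mono a) (ψ : (EtDesc.pullSh f).obj G ≅ G'),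
      ψ.hom ≫ a' = (EtDesc.pullSh f).map a := by
  choose γ hγ using fun (U : X.Etale) (x : (subF f a').obj (op U)) =>
    mem_range_of_locIn (injective_app_of_mono a') x.2
  let Γ : subSh f a' ⟶ (EtDesc.pushSh f).obj G' :=
    ⟨{ app := fun U => TypeCat.ofHom (γ U.unop)
       naturality := fun U V k => by
         ext x
         refine injective_app_of_mono a' _ ?_
         show a'.hom.app (op ((EtCoh.bc f).obj V.unop)) (γ V.unop ((subF f a').toFunctor.map k x)) =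
           a'.hom.app (op ((EtCoh.bc f).obj V.unop)) (G'.obj.map ((EtCoh.bc f).map k.unop).op (γ U.unop x))
         rw [hγ, NatTrans.naturality_apply a'.hom, hγ]
         exact up_map f F k.unop x.1 }⟩
  let ψ : (EtDesc.pullSh f).obj (subSh f a') ⟶ G' := ((EtDesc.adjSh f).homEquiv _ _).symm Γ
  have hψ : ψ ≫ a' = (EtDesc.pullSh f).map (subShι f a') := by
    apply ((EtDesc.adjSh f).homEquiv _ _).injective
    rw [Adjunction.homEquiv_naturality_right, Equiv.apply_symm_apply, Adjunction.homEquiv_unit]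
    refine Sheaf.hom_ext (NatTrans.ext (funext fun U => ConcreteCategory.hom_ext _ _ fun x => ?_))
    exact (hγ U.unop x).trans (up_natural f (subShι f a') U.unop x).symm
  haveI := mono_subShι f a'
  haveI := mono_pull f (subShι f a')
  haveI : Mono (ψ ≫ a') := hψ ▸ inferInstance
  haveI : Mono ψ := mono_of_mono ψ a'
  have hinj : ∀ U, Function.Injective (ψ.hom.app U) := fun U => injective_app_of_mono ψ U.unop
  haveI : IsIso ψ := by
    refine (Sheaf.isLocallyBijective_iff_isIso ψ).1 ⟨Presheaf.isLocallyInjective_of_injective _ _ hinj, ⟨fun {U'} g => ?_⟩⟩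
    rw [EtFound.mem_topology_iff]
    intro z
    obtain ⟨V, x, W, k₁, k₂, ⟨w, rfl⟩, e⟩ := exists_locEq_up_obj f F (a'.hom.app (op U') g) z
    have hO : IsOpen {v : V.left | ∀ z', pr f V z' = v → LocIn a' (up f F V x) z'} := by
      refine (fst_surjective_isQuotientMap f hf V.hom).2.isOpen_preimage.1 ?_
      have e' : pullback.fst V.hom f ⁻¹' {v : V.left | ∀ z', pr f V z' = v → LocIn a' (up f F V x) z'} =
          {z' : ((EtCoh.bc f).obj V).left | LocIn a' (up f F V x) z'} :=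
        Set.ext fun z' => ⟨fun h => h z' rfl,
          fun h z'' h' => locIn_saturated f a' p₁ p₂ hP b w₁ w₂ φ hφ h'.symm h⟩
      rw [e']
      exact isOpen_locIn _
    let O : V.left.Opens := ⟨_, hO⟩
    let V' : X.Etale := MorphismProperty.Over.mk ⊤ (O.ι ≫ V.hom) (by
      haveI : Etale V.hom := V.prop
      exact inferInstanceAs (Etale (O.ι ≫ V.hom)))
    let ι : V' ⟶ V := MorphismProperty.Over.homMk O.ι rfl
    have hx : F.obj.map ι.op x ∈ (subF f a').obj (op V') := fun z' => by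
      rw [up_map]
      exact LocIn.map _ ((pr f V' z').2 _ (pr_map f ι z'))
    have hw : pr f V (k₂.left w) ∈ O := fun z' hz' => by
      refine locIn_saturated f a' p₁ p₂ hP b w₁ w₂ φ hφ hz'.symm (LocIn.of_map k₂ ?_)
      rw [← e]
      exact LocIn.map k₁ (locIn_range g _)
    obtain ⟨t₀, ht₀, -⟩ := Scheme.exists_preimage_of_isPullback (EtCoh.isPullback_bc_map f ι) (k₂.left w)
      (⟨pr f V (k₂.left w), hw⟩ : V'.left) rfl
    obtain ⟨t, ht, -⟩ := Scheme.exists_preimage_of_isPullback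
      ((IsPullback.of_hasPullback k₂ ((EtCoh.bc f).map ι)).map (Scheme.Etale.forget X' ⋙ Over.forget X')) w t₀ ht₀.symm
    let W' := pullback k₂ ((EtCoh.bc f).map ι)
    refine ⟨W', pullback.fst k₂ ((EtCoh.bc f).map ι) ≫ k₁, t,
      ⟨((EtDesc.pullSh f).obj (subSh f a')).obj.map (pullback.snd k₂ ((EtCoh.bc f).map ι)).op
        (up f (subSh f a') V' ⟨_, hx⟩), injective_app_of_mono a' _ ?_⟩, ?_⟩
    · refine Eq.trans (ConcreteCategory.congr_hom (congrArg (fun α : _ ⟶ (EtDesc.pullSh f).obj F => α.hom.app (op W')) hψ) _) ?_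
      rw [NatTrans.naturality_apply, NatTrans.naturality_apply a'.hom, up_natural]
      show _ = ((EtDesc.pullSh f).obj F).obj.map (pullback.fst k₂ ((EtCoh.bc f).map ι) ≫ k₁).op (a'.hom.app (op U') g)
      rw [← mapF, e, mapF, pullback.condition, ← mapF]
      exact congrArg _ (up_map f F ι x)
    · show ((pullback.fst k₂ ((EtCoh.bc f).map ι)).left ≫ k₁.left) t = k₁.left w
      rw [Scheme.Hom.comp_apply]
      exact congrArg k₁.left ht
  exact ⟨subSh f a', subShι f a', mono_subShι f a', asIso ψ, hψ⟩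

end effective

theorem subsheaf_descent (hf : EtDesc.IsUnivSubmersive f) (F : EtDesc.Sh X) :
    (∀ (G₁ G₂ : EtDesc.Sh X) (a₁ : G₁ ⟶ F) (a₂ : G₂ ⟶ F) [Mono a₁] [Mono a₂],
      (∃ φ : (EtDesc.pullSh f).obj G₁ ≅ (EtDesc.pullSh f).obj G₂,
          φ.hom ≫ (EtDesc.pullSh f).map a₂ = (EtDesc.pullSh f).map a₁) →
      ∃ ψ : G₁ ≅ G₂, ψ.hom ≫ a₂ = a₁) ∧
    (∀ (G' : EtDesc.Sh X') (a' : G' ⟶ (EtDesc.pullSh f).obj F) [Mono a'],
      (∃ φ : (EtDesc.pullSh (pullback.fst f f)).obj G' ≅ (EtDesc.pullSh (pullback.snd f f)).obj G',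
          φ.hom ≫ (EtDesc.pullSh (pullback.snd f f)).map a' =
            (EtDesc.pullSh (pullback.fst f f)).map a' ≫ (EtDesc.canIso f F).hom) →
      ∃ (G : EtDesc.Sh X) (a : G ⟶ F) (_ : Mono a) (ψ : (EtDesc.pullSh f).obj G ≅ G'),
        ψ.hom ≫ a' = (EtDesc.pullSh f).map a) := by
  refine ⟨fun G₁ G₂ a₁ a₂ _ _ h => ?_, fun G' a' _ h => ?_⟩
  · obtain ⟨φ, hφ⟩ := h
    exact exists_iso_of_pull f hf a₁ a₂ φ hφ
  · obtain ⟨φ, hφ⟩ := h
    rw [canIso_eq] at hφ
    exact exists_effective f a' (pullback.fst f f) (pullback.snd f f) (IsPullback.of_hasPullback f f) _ rfl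
      pullback.condition.symm φ.hom hφ hf

end Groth.Agent.BigSiteLib.DescSec
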