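import Groth.Agent.BigSiteLib.EtDescSec.Stalk
import Groth.Agent.BigSiteLib.EtDescSec.Sub
import Groth.Agent.EtFound.IntegralStalk

/-!
# The sheaf glued from a descent datum
-/

set_option autoImplicit false

universe u

open CategoryTheory CategoryTheory.Limits AlgebraicGeometry Opposite TopologicalSpace

namespace Groth.Agent.BigSiteLib.DescSec

set_option backward.isDefEq.respectTransparency.types false

variable {X' X : Scheme.{u}} (f : X' ⟶ X)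
  {T : Scheme.{u}} (p₁ p₂ : T ⟶ X') (b : T ⟶ X) (w₁ : p₁ ≫ f = b) (w₂ : p₂ ≫ f = b)
  {F' : EtDesc.Sh X'} (φ : (EtDesc.pullSh p₁).obj F' ⟶ (EtDesc.pullSh p₂).obj F')

/-- A section over a base change, pulled to the double base change. -/
noncomputable def side {S : Scheme.{u}} (g : T ⟶ S) (a : S ⟶ X) (w : g ≫ a = b) (G : EtDesc.Sh S) (V : X.Etale)
    (s : G.obj.obj (op ((EtCoh.bc a).obj V))) : ((EtDesc.pullSh g).obj G).obj.obj (op ((EtCoh.bc b).obj V)) :=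
  ((EtDesc.pullSh g).obj G).obj.map (viaC g a b w V).op (up g G _ s)

theorem side_map {S : Scheme.{u}} (g : T ⟶ S) (a : S ⟶ X) (w : g ≫ a = b) (G : EtDesc.Sh S) {V U : X.Etale} (m : V ⟶ U)
    (s : G.obj.obj (op ((EtCoh.bc a).obj U))) :
    side b g a w G V (G.obj.map ((EtCoh.bc a).map m).op s) =
      ((EtDesc.pullSh g).obj G).obj.map ((EtCoh.bc b).map m).op (side b g a w G U s) := by
  rw [side, side, up_map, mapF, viaC_natural, ← mapF]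

/-- The image of the first side under the datum. -/
noncomputable def lhs (V : X.Etale) (s : F'.obj.obj (op ((EtCoh.bc f).obj V))) :
    ((EtDesc.pullSh p₂).obj F').obj.obj (op ((EtCoh.bc b).obj V)) :=
  φ.hom.app (op ((EtCoh.bc b).obj V)) (side b p₁ f w₁ F' V s)

theorem lhs_map {V U : X.Etale} (m : V ⟶ U) (s : F'.obj.obj (op ((EtCoh.bc f).obj U))) :
    lhs f p₁ p₂ b w₁ φ V (F'.obj.map ((EtCoh.bc f).map m).op s) =
      ((EtDesc.pullSh p₂).obj F').obj.map ((EtCoh.bc b).map m).op (lhs f p₁ p₂ b w₁ φ U s) := by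
  rw [lhs, lhs, side_map]
  exact NatTrans.naturality_apply φ.hom _ _

/-- The subfunctor of compatible sections. -/
def eqF : Subfunctor ((EtDesc.pushSh f).obj F').obj where
  obj U := {s | lhs f p₁ p₂ b w₁ φ U.unop s = side b p₂ f w₂ F' U.unop s}
  map {U V} i := fun s hs => by
    show lhs f p₁ p₂ b w₁ φ V.unop (F'.obj.map ((EtCoh.bc f).map i.unop).op s) =
      side b p₂ f w₂ F' V.unop (F'.obj.map ((EtCoh.bc f).map i.unop).op s)
    rw [lhs_map, side_map]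
    exact congrArg _ hs

theorem eqF_isSheaf : Presieve.IsSheaf X.smallEtaleTopology (eqF f p₁ p₂ b w₁ w₂ φ).toFunctor :=
  ((eqF f p₁ p₂ b w₁ w₂ φ).isSheaf_iff ((isSheaf_iff_isSheaf_of_type _ _).1 ((EtDesc.pushSh f).obj F').property)).2
    fun U s hs => eq_of_locEq _ fun z => by
      obtain ⟨W, k, w, hk, hw⟩ := (EtFound.mem_topology_iff _).1 hs (pr b U.unop z)
      obtain ⟨t, ht, -⟩ := Scheme.exists_preimage_of_isPullback (EtCoh.isPullback_bc_map b k) z w hw.symm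
      subst ht
      refine LocEq.of_map _ ?_
      rw [← lhs_map, ← side_map]
      exact hk ▸ LocEq.refl _ t

/-- The glued sheaf. -/
noncomputable def glueSh : EtDesc.Sh X :=
  ⟨(eqF f p₁ p₂ b w₁ w₂ φ).toFunctor, (isSheaf_iff_isSheaf_of_type _ _).2 (eqF_isSheaf f p₁ p₂ b w₁ w₂ φ)⟩

/-- Its inclusion. -/
noncomputable def glueι : glueSh f p₁ p₂ b w₁ w₂ φ ⟶ (EtDesc.pushSh f).obj F' := ⟨(eqF f p₁ p₂ b w₁ w₂ φ).ι⟩

/-- The comparison with the datum. -/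
noncomputable def gluePsi : (EtDesc.pullSh f).obj (glueSh f p₁ p₂ b w₁ w₂ φ) ⟶ F' :=
  ((EtDesc.adjSh f).homEquiv _ _).symm (glueι f p₁ p₂ b w₁ w₂ φ)

theorem gluePsi_up (V : X.Etale) (x : (glueSh f p₁ p₂ b w₁ w₂ φ).obj.obj (op V)) :
    (gluePsi f p₁ p₂ b w₁ w₂ φ).hom.app (op ((EtCoh.bc f).obj V)) (up f _ V x) =
      (glueι f p₁ p₂ b w₁ w₂ φ).hom.app (op V) x := by
  have h : (EtDesc.adjSh f).homEquiv _ _ (gluePsi f p₁ p₂ b w₁ w₂ φ) = glueι f p₁ p₂ b w₁ w₂ φ :=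
    Equiv.apply_symm_apply _ _
  rw [Adjunction.homEquiv_unit] at h
  exact (ConcreteCategory.congr_hom
    (congrArg (fun α : glueSh f p₁ p₂ b w₁ w₂ φ ⟶ (EtDesc.pushSh f).obj F' => α.hom.app (op V)) h) x)

theorem via_inv_up {S : Scheme.{u}} (g : T ⟶ S) (a : S ⟶ X) (w : g ≫ a = b) (F : EtDesc.Sh X) (V : X.Etale)
    (x : F.obj.obj (op V)) :
    (EtDesc.pullVia g a b w F).inv.hom.app (op ((EtCoh.bc b).obj V)) (up b F V x) =
      side b g a w ((EtDesc.pullSh a).obj F) V (up a F V x) := by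
  rw [← unit_viaC g a b w F V x, app_inv_apply]
  rfl

theorem map_side {S : Scheme.{u}} (g : T ⟶ S) (a : S ⟶ X) (w : g ≫ a = b) {G H : EtDesc.Sh S} (α : G ⟶ H) (V : X.Etale)
    (s : G.obj.obj (op ((EtCoh.bc a).obj V))) :
    ((EtDesc.pullSh g).map α).hom.app (op ((EtCoh.bc b).obj V)) (side b g a w G V s) =
      side b g a w H V (α.hom.app (op ((EtCoh.bc a).obj V)) s) := by
  rw [side, side, NatTrans.naturality_apply, up_natural]

theorem gluePsi_compat :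
    (EtDesc.pullVia p₂ f b w₂ (glueSh f p₁ p₂ b w₁ w₂ φ)).inv ≫ (EtDesc.pullSh p₂).map (gluePsi f p₁ p₂ b w₁ w₂ φ) =
      (EtDesc.pullVia p₁ f b w₁ (glueSh f p₁ p₂ b w₁ w₂ φ)).inv ≫
        (EtDesc.pullSh p₁).map (gluePsi f p₁ p₂ b w₁ w₂ φ) ≫ φ := by
  apply ((EtDesc.adjSh b).homEquiv _ _).injective
  refine Sheaf.hom_ext (NatTrans.ext (funext fun V => ConcreteCategory.hom_ext _ _ fun x => ?_))
  rw [Adjunction.homEquiv_unit, Adjunction.homEquiv_unit]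
  show ((EtDesc.pullSh p₂).map (gluePsi f p₁ p₂ b w₁ w₂ φ)).hom.app _
      ((EtDesc.pullVia p₂ f b w₂ _).inv.hom.app (op ((EtCoh.bc b).obj V.unop)) (up b _ V.unop x)) =
    φ.hom.app _ (((EtDesc.pullSh p₁).map (gluePsi f p₁ p₂ b w₁ w₂ φ)).hom.app _
      ((EtDesc.pullVia p₁ f b w₁ _).inv.hom.app (op ((EtCoh.bc b).obj V.unop)) (up b _ V.unop x)))
  rw [via_inv_up, via_inv_up, map_side, map_side, gluePsi_up]
  exact x.2.symm

theorem compat_iso {A₁ A₂ B B₁ B₂ : EtDesc.Sh T} (v₁ : A₁ ≅ B) (v₂ : A₂ ≅ B) (ψ₁ : A₁ ≅ B₁) (ψ₂ : A₂ ≅ B₂) (χ : B₁ ≅ B₂)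
    (h : v₂.inv ≫ ψ₂.hom = v₁.inv ≫ ψ₁.hom ≫ χ.hom) : ψ₁.symm ≪≫ (v₁ ≪≫ v₂.symm) ≪≫ ψ₂ = χ := by
  refine Iso.ext ?_
  simp only [Iso.trans_hom, Iso.symm_hom, Category.assoc, h, Iso.hom_inv_id_assoc, Iso.inv_hom_id_assoc]

theorem fib_left (g : T ⟶ X') (a : X' ⟶ X) (w : g ≫ a = b) {Ω : Type u} [Field Ω] [IsSepClosed Ω] {η : Spec (CommRingCat.of Ω) ⟶ X}
    {ζ : Spec (CommRingCat.of Ω) ⟶ T} (hζ : ζ ≫ b = η) {ξ : Spec (CommRingCat.of Ω) ⟶ X'} (hg : ζ ≫ g = ξ) (hξ : ξ ≫ a = η)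
    {V : X.Etale} (v : (Scheme.pointSmallEtale η).fiber.obj V) :
    ((EtFound.bcFiberEquiv g ζ _ ((Scheme.pointSmallEtale ζ).fiber.map (viaC g a b w V) (EtFound.liftPt b hζ v))).left :
      Spec (CommRingCat.of Ω) ⟶ ((EtCoh.bc a).obj V).left) = (EtFound.liftPt a hξ v).left := by
  subst hg
  rw [bcFiberEquiv_left]
  refine pullback.hom_ext ?_ ?_
  · refine Eq.trans ?_ (EtFound.liftPt_fst a hξ v).symm
    show (((EtFound.liftPt b hζ v).left : Spec (CommRingCat.of Ω) ⟶ ((EtCoh.bc b).obj V).left) ≫ (viaC g a b w V).left) ≫ _ ≫ _ = _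
    refine (Category.assoc _ _ _).trans ?_
    refine (congrArg (_ ≫ ·) ((Category.assoc _ _ _).symm.trans (viaC_left g a b w V).1)).trans ?_
    exact EtFound.liftPt_fst b hζ v
  · refine Eq.trans ?_ (pullback.lift_snd _ _ _).symm
    show ((((EtFound.liftPt b hζ v).left : Spec (CommRingCat.of Ω) ⟶ ((EtCoh.bc b).obj V).left) ≫ (viaC g a b w V).left) ≫ _) ≫ _ = _
    refine (Category.assoc _ _ _).trans ((Category.assoc _ _ _).trans ?_)
    refine (congrArg (_ ≫ ·) ((Category.assoc _ _ _).symm.trans (viaC_left g a b w V).2)).trans ?_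
    exact (Category.assoc _ _ _).symm.trans (congrArg (· ≫ g) (pullback.lift_snd _ _ _))

variable (hP : IsPullback p₁ p₂ f f)

theorem germ_sides_iff {Ω : Type u} [Field Ω] [IsSepClosed Ω] {η : Spec (CommRingCat.of Ω) ⟶ X}
    {ξ₁ ξ₂ : Spec (CommRingCat.of Ω) ⟶ X'} (h₁ : ξ₁ ≫ f = η) (h₂ : ξ₂ ≫ f = η)
    (ζ : Spec (CommRingCat.of Ω) ⟶ T) (hζ₁ : ζ ≫ p₁ = ξ₁) (hζ₂ : ζ ≫ p₂ = ξ₂) (hζ : ζ ≫ b = η)
    {V : X.Etale} (v : (Scheme.pointSmallEtale η).fiber.obj V) (s : F'.obj.obj (op ((EtCoh.bc f).obj V))) :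
    germ ((EtDesc.pullSh p₂).obj F') ζ ((EtCoh.bc b).obj V) (EtFound.liftPt b hζ v) (lhs f p₁ p₂ b w₁ φ V s) =
      germ ((EtDesc.pullSh p₂).obj F') ζ ((EtCoh.bc b).obj V) (EtFound.liftPt b hζ v) (side b p₂ f w₂ F' V s) ↔
    Phi φ hP ξ₁ ξ₂ (h₁.trans h₂.symm) (germ F' ξ₁ _ (EtFound.liftPt f h₁ v) s) =
      germ F' ξ₂ _ (EtFound.liftPt f h₂ v) s := by
  rw [lhs, side, side]
  refine (germ_phi_iff φ ζ (viaC p₁ f b w₁ V) (viaC p₂ f b w₂ V) (EtFound.liftPt b hζ v) s s).trans ?_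
  subst hζ₁ hζ₂
  rw [fib_ext (fib_left b p₁ f w₁ hζ rfl h₁ v), fib_ext (fib_left b p₂ f w₂ hζ rfl h₂ v),
    Phi_eq φ hP (h₁.trans h₂.symm) ζ rfl rfl, tr_rfl, tr_rfl]

end Groth.Agent.BigSiteLib.DescSec
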