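import Groth.Agent.BigSiteLib.EtDescSec.Glue

/-!
# Effective descent along integral surjections
-/

set_option autoImplicit false

universe u

open CategoryTheory CategoryTheory.Limits AlgebraicGeometry Opposite TopologicalSpace

namespace Groth.Agent.BigSiteLib.DescSec

set_option backward.isDefEq.respectTransparency.types false

variable {X' X : Scheme.{u}} (f : X' ⟶ X)
  {T : Scheme.{u}} (p₁ p₂ : T ⟶ X') (b : T ⟶ X) (w₁ : p₁ ≫ f = b) (w₂ : p₂ ≫ f = b)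
  (hP : IsPullback p₁ p₂ f f)
  {F' : EtDesc.Sh X'} (φ : (EtDesc.pullSh p₁).obj F' ⟶ (EtDesc.pullSh p₂).obj F')
  {Ω : Type u} [Field Ω] [IsAlgClosed Ω] {η : Spec (CommRingCat.of Ω) ⟶ X}

theorem germ_eq_of_locEq {S : Scheme.{u}} (G : EtDesc.Sh S) {U : S.Etale} {a a' : G.obj.obj (op U)} {z : U.left}
    (h : LocEq G.obj a a' z) (ξ : Spec (CommRingCat.of Ω) ⟶ S) (t : (Scheme.pointSmallEtale ξ).fiber.obj U)
    (hz : (t.left : Spec (CommRingCat.of Ω) ⟶ U.left).base (default : Spec (CommRingCat.of Ω)) = z) :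
    germ G ξ U t a = germ G ξ U t a' := by
  obtain ⟨W, k, ⟨w, hw⟩, e⟩ := h
  obtain ⟨t', ht', -⟩ := EtFound.exists_lift_point k t w (hw.trans hz.symm)
  rw [← ht']
  refine (germ_map G ξ k t' a).symm.trans ((congrArg (germ G ξ W t') e).trans (germ_map G ξ k t' a'))

theorem fib_map_injective {S : Scheme.{u}} {U V : S.Etale} (m : V ⟶ U) [Mono m.left] {ξ : Spec (CommRingCat.of Ω) ⟶ S}
    {t t' : (Scheme.pointSmallEtale ξ).fiber.obj V}
    (h : (((Scheme.pointSmallEtale ξ).fiber.map m t).left : Spec (CommRingCat.of Ω) ⟶ U.left) =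
      ((Scheme.pointSmallEtale ξ).fiber.map m t').left) : t = t' :=
  fib_ext ((cancel_mono m.left).1 h)

theorem fib_map_left {S : Scheme.{u}} {U V : S.Etale} (m : V ⟶ U) {ξ : Spec (CommRingCat.of Ω) ⟶ S}
    (t : (Scheme.pointSmallEtale ξ).fiber.obj V) :
    (((Scheme.pointSmallEtale ξ).fiber.map m t).left : Spec (CommRingCat.of Ω) ⟶ U.left) =
      (t.left : Spec (CommRingCat.of Ω) ⟶ V.left) ≫ m.left := rfl

/-- A family over the geometric fibre is locally constant if it is given by the datum. -/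
theorem exists_local [IsIntegralHom f] (ξ₁ : {ξ : Spec (CommRingCat.of Ω) ⟶ X' // ξ ≫ f = η})
    (c : ∀ ξ : {ξ : Spec (CommRingCat.of Ω) ⟶ X' // ξ ≫ f = η}, St F' ξ.1)
    (w₂ : p₂ ≫ f = p₁ ≫ f)
    (hc : ∀ ξ₁ ξ₂ : {ξ : Spec (CommRingCat.of Ω) ⟶ X' // ξ ≫ f = η},
      Phi φ hP ξ₁.1 ξ₂.1 (ξ₁.2.trans ξ₂.2.symm) (c ξ₁) = c ξ₂) :
    ∃ (V : X.Etale) (v : (Scheme.pointSmallEtale η).fiber.obj V) (O : ((EtCoh.bc f).obj V).left.Opens)
      (σ : ToType (F'.obj.obj (op (EtFound.restrictEtale ((EtCoh.bc f).obj V) O)))) (E : Set ↥(pullback f η)),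
      IsOpen E ∧ EtFound.fibrePt f ξ₁.2 ∈ E ∧
      ((EtFound.liftPt f ξ₁.2 v).left : Spec (CommRingCat.of Ω) ⟶ ((EtCoh.bc f).obj V).left).base
        (default : Spec (CommRingCat.of Ω)) ∈ O ∧
      ∀ (ξ : {ξ : Spec (CommRingCat.of Ω) ⟶ X' // ξ ≫ f = η})
        (r : (Scheme.pointSmallEtale ξ.1).fiber.obj (EtFound.restrictEtale ((EtCoh.bc f).obj V) O)),
        (Scheme.pointSmallEtale ξ.1).fiber.map (EtFound.restrictEtaleHom ((EtCoh.bc f).obj V) O) r = EtFound.liftPt f ξ.2 v →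
        EtFound.fibrePt f ξ.2 ∈ E →
        (Scheme.pointSmallEtale ξ.1).toPresheafFiber _ r F'.obj σ = c ξ := by

  obtain ⟨U, u, s, hs⟩ := germ_surjective F' ξ₁.1 (c ξ₁)
  obtain ⟨V, v, O, m, t, ht, hmt⟩ := EtFound.exists_open_factor f ξ₁.2 U u
  let UO := EtFound.restrictEtale ((EtCoh.bc f).obj V) O
  let ι := EtFound.restrictEtaleHom ((EtCoh.bc f).obj V) O
  haveI : Mono ι.left := inferInstanceAs (Mono O.ι)
  let σ : ToType (F'.obj.obj (op UO)) := F'.obj.map m.op s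
  have hσ : germ F' ξ₁.1 UO t σ = c ξ₁ := by rw [germ_map, hmt, hs]
  let c₁ := viaC p₁ f (p₁ ≫ f) rfl V
  let c₂ := viaC p₂ f (p₁ ≫ f) w₂ V
  let i₁ := (EtCoh.bc p₁).map ι
  let i₂ := (EtCoh.bc p₂).map ι
  let Q := pullback (pullback.fst c₁ i₁) (pullback.fst c₂ i₂)
  let π : Q ⟶ (EtCoh.bc (p₁ ≫ f)).obj V := pullback.fst (pullback.fst c₁ i₁) (pullback.fst c₂ i₂) ≫ pullback.fst c₁ i₁
  let m₁ : Q ⟶ (EtCoh.bc p₁).obj UO := pullback.fst (pullback.fst c₁ i₁) (pullback.fst c₂ i₂) ≫ pullback.snd c₁ i₁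
  let m₂ : Q ⟶ (EtCoh.bc p₂).obj UO := pullback.snd (pullback.fst c₁ i₁) (pullback.fst c₂ i₂) ≫ pullback.snd c₂ i₂
  have hm₁ : m₁ ≫ i₁ = π ≫ c₁ :=
    (Category.assoc _ _ _).trans ((congrArg (_ ≫ ·) pullback.condition.symm).trans (Category.assoc _ _ _).symm)
  have hm₂ : m₂ ≫ i₂ = π ≫ c₂ :=
    (Category.assoc _ _ _).trans ((congrArg (_ ≫ ·) pullback.condition.symm).trans
      ((Category.assoc _ _ _).symm.trans (congrArg (· ≫ c₂) pullback.condition.symm)))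
  have key : ∀ (ζ : Spec (CommRingCat.of Ω) ⟶ T) (hb : ζ ≫ p₁ ≫ f = η) (ξ : Spec (CommRingCat.of Ω) ⟶ X')
      (hξ : ξ ≫ f = η) (h₁ : ζ ≫ p₁ = ξ₁.1) (h₂ : ζ ≫ p₂ = ξ)
      (r : (Scheme.pointSmallEtale ξ).fiber.obj UO) (w : (Scheme.pointSmallEtale ζ).fiber.obj Q),
      (Scheme.pointSmallEtale ξ).fiber.map ι r = EtFound.liftPt f hξ v →
      (Scheme.pointSmallEtale ζ).fiber.map π w = EtFound.liftPt (p₁ ≫ f) hb v →
      (germ ((EtDesc.pullSh p₂).obj F') ζ Q w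
          (φ.hom.app (op Q) (((EtDesc.pullSh p₁).obj F').obj.map m₁.op (up p₁ F' UO σ))) =
        germ ((EtDesc.pullSh p₂).obj F') ζ Q w (((EtDesc.pullSh p₂).obj F').obj.map m₂.op (up p₂ F' UO σ)) ↔
      Phi φ hP ξ₁.1 ξ (ξ₁.2.trans hξ.symm) (c ξ₁) = germ F' ξ UO r σ) := by
    intro ζ hb ξ hξ h₁ h₂ r w hr hw
    rw [germ_phi_iff φ ζ m₁ m₂ w σ σ]
    have e₁ : ((EtFound.bcFiberEquiv p₁ ζ UO ((Scheme.pointSmallEtale ζ).fiber.map m₁ w)).left :
        Spec (CommRingCat.of Ω) ⟶ UO.left) = t.left := by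
      refine (cancel_mono ι.left).1 ?_
      change (((Scheme.pointSmallEtale (ζ ≫ p₁)).fiber.map ι (EtFound.bcFiberEquiv p₁ ζ UO
        ((Scheme.pointSmallEtale ζ).fiber.map m₁ w))).left : Spec (CommRingCat.of Ω) ⟶ ((EtCoh.bc f).obj V).left) =
          ((Scheme.pointSmallEtale ξ₁.1).fiber.map ι t).left
      rw [← bcFiber_map, ht, ← fib_left (p₁ ≫ f) p₁ f rfl hb h₁ ξ₁.2 v, ← hw,
        ← FunctorToTypes.map_comp_apply, ← FunctorToTypes.map_comp_apply, hm₁]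
    have e₂ : ((EtFound.bcFiberEquiv p₂ ζ UO ((Scheme.pointSmallEtale ζ).fiber.map m₂ w)).left :
        Spec (CommRingCat.of Ω) ⟶ UO.left) = r.left := by
      refine (cancel_mono ι.left).1 ?_
      change (((Scheme.pointSmallEtale (ζ ≫ p₂)).fiber.map ι (EtFound.bcFiberEquiv p₂ ζ UO
        ((Scheme.pointSmallEtale ζ).fiber.map m₂ w))).left : Spec (CommRingCat.of Ω) ⟶ ((EtCoh.bc f).obj V).left) =
          ((Scheme.pointSmallEtale ξ).fiber.map ι r).left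
      rw [← bcFiber_map, hr, ← fib_left (p₁ ≫ f) p₂ f w₂ hb h₂ hξ v, ← hw,
        ← FunctorToTypes.map_comp_apply, ← FunctorToTypes.map_comp_apply, hm₂]
    rw [Phi_eq φ hP (ξ₁.2.trans hξ.symm) ζ h₁ h₂, ← hσ, tr_germ F' h₁.symm _ t _ e₁.symm]
    subst h₂
    rw [tr_rfl, ← fib_ext e₂]
  let A : ((EtDesc.pullSh p₂).obj F').obj.obj (op Q) :=
    φ.hom.app (op Q) (((EtDesc.pullSh p₁).obj F').obj.map m₁.op (up p₁ F' UO σ))
  let B : ((EtDesc.pullSh p₂).obj F').obj.obj (op Q) := ((EtDesc.pullSh p₂).obj F').obj.map m₂.op (up p₂ F' UO σ)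
  let κ : pullback f η ⟶ ((EtCoh.bc (p₁ ≫ f)).obj V).left :=
    pullback.lift (pullback.snd f η ≫ (v.left : Spec (CommRingCat.of Ω) ⟶ V.left))
      (hP.lift (pullback.snd f η ≫ ξ₁.1) (pullback.fst f η) (by rw [Category.assoc, ξ₁.2, pullback.condition]))
      (by rw [Category.assoc, ← Category.assoc _ p₁ f, hP.lift_fst, Category.assoc, ξ₁.2]
          exact congrArg (pullback.snd f η ≫ ·) (Over.w v))
  have hκ : ∀ (ξ : Spec (CommRingCat.of Ω) ⟶ X') (hξ : ξ ≫ f = η) (hb : hP.lift ξ₁.1 ξ (ξ₁.2.trans hξ.symm) ≫ p₁ ≫ f = η),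
      κ (EtFound.fibrePt f hξ) = ((EtFound.liftPt (p₁ ≫ f) hb v).left :
        Spec (CommRingCat.of Ω) ⟶ ((EtCoh.bc (p₁ ≫ f)).obj V).left).base (default : Spec (CommRingCat.of Ω)) := by
    intro ξ hξ hb
    refine (Scheme.Hom.comp_apply _ _ _).symm.trans (congrArg (fun k : Spec (CommRingCat.of Ω) ⟶
      pullback V.hom (p₁ ≫ f) => k.base (default : Spec (CommRingCat.of Ω))) ?_)
    refine pullback.hom_ext ?_ ?_
    · refine Eq.trans ?_ (EtFound.liftPt_fst (p₁ ≫ f) hb v).symm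
      exact (Category.assoc _ _ _).trans ((congrArg (_ ≫ ·) (pullback.lift_fst _ _ _)).trans
        ((Category.assoc _ _ _).symm.trans ((congrArg (· ≫ _) (pullback.lift_snd _ _ _)).trans (Category.id_comp _))))
    · refine Eq.trans ?_ (pullback.lift_snd _ _ _).symm
      refine ((Category.assoc _ _ _).trans (congrArg (_ ≫ ·) (pullback.lift_snd _ _ _))).trans (hP.hom_ext ?_ ?_)
      · exact ((Category.assoc _ _ _).trans ((congrArg (_ ≫ ·) (hP.lift_fst _ _ _)).trans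
          ((Category.assoc _ _ _).symm.trans ((congrArg (· ≫ ξ₁.1) (pullback.lift_snd _ _ _)).trans (Category.id_comp _))))).trans
            (hP.lift_fst _ _ _).symm
      · exact ((Category.assoc _ _ _).trans ((congrArg (_ ≫ ·) (hP.lift_snd _ _ _)).trans (pullback.lift_fst _ _ _))).trans
          (hP.lift_snd _ _ _).symm
  have hO : ((EtFound.liftPt f ξ₁.2 v).left : Spec (CommRingCat.of Ω) ⟶ ((EtCoh.bc f).obj V).left).base
      (default : Spec (CommRingCat.of Ω)) ∈ O := by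
    rw [← ht]
    exact EtFound.mem_opens_congr (Scheme.Hom.comp_apply _ _ _) (Subtype.coe_prop _)
  refine ⟨V, v, O, σ, κ ⁻¹' (π.left '' {q : Q.left | LocEq ((EtDesc.pullSh p₂).obj F').obj A B q}), ?_, ?_, hO,
    fun ξ r hr hξE => ?_⟩
  · haveI := EtFound.etale_left π
    exact ((Scheme.Hom.isOpenMap π.left) _ (isOpen_locEq A B)).preimage κ.continuous
  · let ζ₀ := hP.lift ξ₁.1 ξ₁.1 rfl
    have hb : ζ₀ ≫ p₁ ≫ f = η := by rw [← Category.assoc, hP.lift_fst, ξ₁.2]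
    let t₀ := EtFound.liftPt (p₁ ≫ f) hb v
    obtain ⟨o₁, ho₁, -⟩ := Scheme.exists_preimage_of_isPullback (EtCoh.isPullback_bc_map p₁ ι)
      (c₁.left ((t₀.left : Spec (CommRingCat.of Ω) ⟶ ((EtCoh.bc (p₁ ≫ f)).obj V).left).base (default : Spec (CommRingCat.of Ω))))
      ((t.left : Spec (CommRingCat.of Ω) ⟶ UO.left).base (default : Spec (CommRingCat.of Ω))) (by
        refine ((Scheme.Hom.comp_apply _ _ _).trans (congrArg _ (Scheme.Hom.comp_apply _ _ _))).symm.trans ?_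
        refine (congrArg (fun k : Spec (CommRingCat.of Ω) ⟶ ((EtCoh.bc f).obj V).left => k.base (default : Spec (CommRingCat.of Ω)))
          ((?_ : _ = (t.left : Spec (CommRingCat.of Ω) ⟶ UO.left) ≫ ι.left))).trans (Scheme.Hom.comp_apply _ _ _)
        rw [← fib_map_left ι, ht, ← fib_left (p₁ ≫ f) p₁ f rfl hb (hP.lift_fst _ _ _) ξ₁.2 v]
        rfl)
    obtain ⟨o₂, ho₂, -⟩ := Scheme.exists_preimage_of_isPullback (EtCoh.isPullback_bc_map p₂ ι)
      (c₂.left ((t₀.left : Spec (CommRingCat.of Ω) ⟶ ((EtCoh.bc (p₁ ≫ f)).obj V).left).base (default : Spec (CommRingCat.of Ω))))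
      ((t.left : Spec (CommRingCat.of Ω) ⟶ UO.left).base (default : Spec (CommRingCat.of Ω))) (by
        refine ((Scheme.Hom.comp_apply _ _ _).trans (congrArg _ (Scheme.Hom.comp_apply _ _ _))).symm.trans ?_
        refine (congrArg (fun k : Spec (CommRingCat.of Ω) ⟶ ((EtCoh.bc f).obj V).left => k.base (default : Spec (CommRingCat.of Ω)))
          ((?_ : _ = (t.left : Spec (CommRingCat.of Ω) ⟶ UO.left) ≫ ι.left))).trans (Scheme.Hom.comp_apply _ _ _)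
        rw [← fib_map_left ι, ht, ← fib_left (p₁ ≫ f) p₂ f w₂ hb (hP.lift_snd _ _ _) ξ₁.2 v]
        rfl)
    obtain ⟨q₁, hq₁, -⟩ := Scheme.exists_preimage_of_isPullback
      ((IsPullback.of_hasPullback c₁ i₁).map (Scheme.Etale.forget T ⋙ Over.forget T)) _ o₁ ho₁.symm
    obtain ⟨q₂, hq₂, -⟩ := Scheme.exists_preimage_of_isPullback
      ((IsPullback.of_hasPullback c₂ i₂).map (Scheme.Etale.forget T ⋙ Over.forget T)) _ o₂ ho₂.symm
    obtain ⟨q, hq, -⟩ := Scheme.exists_preimage_of_isPullback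
      ((IsPullback.of_hasPullback (pullback.fst c₁ i₁) (pullback.fst c₂ i₂)).map (Scheme.Etale.forget T ⋙ Over.forget T))
      q₁ q₂ (hq₁.trans hq₂.symm)
    have hπ : π.left q = (t₀.left : Spec (CommRingCat.of Ω) ⟶ ((EtCoh.bc (p₁ ≫ f)).obj V).left).base (default : Spec (CommRingCat.of Ω)) :=
      (Scheme.Hom.comp_apply _ _ _).trans ((congrArg _ hq).trans hq₁)
    obtain ⟨w, hw, hwq⟩ := EtFound.exists_lift_point π t₀ q hπ
    refine ⟨q, locEq_of_germ ζ₀ w ((key ζ₀ hb ξ₁.1 ξ₁.2 (hP.lift_fst _ _ _) (hP.lift_snd _ _ _) t w ht hw).2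
      ((hc ξ₁ ξ₁).trans hσ.symm)) q hwq, hπ.trans (hκ ξ₁.1 ξ₁.2 hb).symm⟩
  · obtain ⟨q, hq, hπq⟩ := hξE
    let ζ := hP.lift ξ₁.1 ξ.1 (ξ₁.2.trans ξ.2.symm)
    have hb : ζ ≫ p₁ ≫ f = η := by rw [← Category.assoc, hP.lift_fst, ξ₁.2]
    obtain ⟨w, hw, hwq⟩ := EtFound.exists_lift_point π (EtFound.liftPt (p₁ ≫ f) hb v) q (hπq.trans (hκ ξ.1 ξ.2 hb))
    exact ((key ζ hb ξ.1 ξ.2 (hP.lift_fst _ _ _) (hP.lift_snd _ _ _) r w hr hw).1
      (germ_eq_of_locEq _ hq ζ w hwq)).symm.trans (hc ξ₁ ξ)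

end Groth.Agent.BigSiteLib.DescSec
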