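import Groth.Agent.EtFound.PullGerm
import Groth.Agent.EtFound.Basic
import Groth.Prelude.Def_SGA4b
import Groth.Prelude.Def_EtOpen
import Mathlib.AlgebraicGeometry.Morphisms.UniversallyOpen

/-!
# Local equality of sections and inverse images of sheaves of sets
-/

set_option autoImplicit false

universe u

open CategoryTheory CategoryTheory.Limits AlgebraicGeometry Opposite TopologicalSpace

namespace Groth.Agent.BigSiteLib.DescSec

set_option backward.isDefEq.respectTransparency.types false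

variable {S T : Scheme.{u}}

theorem iso_hom_inv_apply {A B : Type (u + 1)} (e : A ≅ B) (x : A) : e.inv (e.hom x) = x :=
  Iso.hom_inv_id_apply e x

theorem mapF (P : S.Etaleᵒᵖ ⥤ Type (u + 1)) {A B D : S.Etale} (f : A ⟶ B) (g : B ⟶ D) (x : P.obj (op D)) :
    P.map f.op (P.map g.op x) = P.map (f ≫ g).op x := by
  rw [op_comp, Functor.map_comp]; rfl

/-- Two sections agree on an etale neighbourhood of a point. -/
def LocEq (P : S.Etaleᵒᵖ ⥤ Type (u + 1)) {U : S.Etale} (a b : P.obj (op U)) (z : U.left) : Prop :=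
  ∃ (W : S.Etale) (k : W ⟶ U), z ∈ Set.range k.left ∧ P.map k.op a = P.map k.op b

variable {P : S.Etaleᵒᵖ ⥤ Type (u + 1)}

theorem LocEq.symm {U : S.Etale} {a b : P.obj (op U)} {z : U.left} (h : LocEq P a b z) : LocEq P b a z := by
  obtain ⟨W, k, hz, e⟩ := h
  exact ⟨W, k, hz, e.symm⟩

theorem LocEq.refl {U : S.Etale} (a : P.obj (op U)) (z : U.left) : LocEq P a a z :=
  ⟨U, 𝟙 U, ⟨z, rfl⟩, rfl⟩

theorem LocEq.map {U U' : S.Etale} (m : U' ⟶ U) {a b : P.obj (op U)} {z : U'.left}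
    (h : LocEq P a b (m.left z)) : LocEq P (P.map m.op a) (P.map m.op b) z := by
  obtain ⟨W, k, ⟨w, hw⟩, e⟩ := h
  obtain ⟨t, ht₁, -⟩ := Scheme.exists_preimage_of_isPullback
    ((IsPullback.of_hasPullback m k).map (Scheme.Etale.forget S ⋙ Over.forget S)) z w hw.symm
  refine ⟨pullback m k, pullback.fst m k, ⟨t, ht₁⟩, ?_⟩
  rw [mapF, mapF, pullback.condition, ← mapF, ← mapF, e]

theorem LocEq.of_map {U U' : S.Etale} (m : U' ⟶ U) {a b : P.obj (op U)} {z : U'.left}
    (h : LocEq P (P.map m.op a) (P.map m.op b) z) : LocEq P a b (m.left z) := by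
  obtain ⟨W, k, ⟨w, rfl⟩, e⟩ := h
  exact ⟨W, k ≫ m, ⟨w, rfl⟩, by rw [← mapF, ← mapF, e]⟩

theorem LocEq.trans {U : S.Etale} {a b c : P.obj (op U)} {z : U.left} (h : LocEq P a b z) (h' : LocEq P b c z) :
    LocEq P a c z := by
  obtain ⟨W, k, ⟨w, rfl⟩, e⟩ := h
  obtain ⟨W', k', hw', e'⟩ := h'.map k
  exact LocEq.of_map k ⟨W', k', hw', (congrArg (P.map k'.op) e).trans e'⟩

theorem LocEq.natural {Q : S.Etaleᵒᵖ ⥤ Type (u + 1)} (φ : P ⟶ Q) {U : S.Etale} {a b : P.obj (op U)} {z : U.left}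
    (h : LocEq P a b z) : LocEq Q (φ.app (op U) a) (φ.app (op U) b) z := by
  obtain ⟨W, k, hz, e⟩ := h
  exact ⟨W, k, hz, (NatTrans.naturality_apply φ k.op a).symm.trans ((congrArg _ e).trans (NatTrans.naturality_apply φ k.op b))⟩

theorem isOpen_locEq {U : S.Etale} (a b : P.obj (op U)) : IsOpen {z : U.left | LocEq P a b z} := by
  refine isOpen_iff_forall_mem_open.2 fun z ⟨W, k, hz, e⟩ => ?_
  haveI := EtFound.etale_left k
  exact ⟨Set.range k.left, fun z' hz' => ⟨W, k, hz', e⟩, (Scheme.Hom.isOpenMap k.left).isOpen_range, hz⟩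

theorem eq_of_locEq (F : EtDesc.Sh S) {U : S.Etale} {a b : F.obj.obj (op U)} (h : ∀ z, LocEq F.obj a b z) :
    a = b := by
  choose W k hz e using h
  refine (((isSheaf_iff_isSheaf_of_type _ _).1 F.property).isSeparated (Sieve.ofArrows W k)
    ((EtFound.mem_topology_iff _).2 fun z => ?_)).ext fun Y g hg => ?_
  · obtain ⟨w, hw⟩ := hz z
    exact ⟨W z, k z, w, Sieve.ofArrows_mk _ _ z, hw⟩
  · obtain ⟨Y', l, g', hg', rfl⟩ := hg
    obtain ⟨i⟩ := hg'
    rw [← mapF, ← mapF, e]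

/-- The geometric point over a point of an etale scheme gives equal germs. -/
theorem germ_of_locEq {U : S.Etale} {a b : P.obj (op U)} {z : U.left} (h : LocEq P a b z) :
    ∃ (Ω : Type u) (_ : Field Ω) (_ : IsSepClosed Ω) (ξ : Spec (CommRingCat.of Ω) ⟶ S)
      (t : (Scheme.pointSmallEtale ξ).fiber.obj U),
      (∀ w : Spec (CommRingCat.of Ω), (t.left : Spec (CommRingCat.of Ω) ⟶ U.left).base w = z) ∧
        (Scheme.pointSmallEtale ξ).toPresheafFiber U t P a = (Scheme.pointSmallEtale ξ).toPresheafFiber U t P b := by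
  obtain ⟨W, k, ⟨w, rfl⟩, e⟩ := h
  obtain ⟨Ω, _, _, ξ, t, ht⟩ := EtFound.exists_point_through W w
  refine ⟨Ω, inferInstance, inferInstance, ξ, (Scheme.pointSmallEtale ξ).fiber.map k t, fun w' => ?_, ?_⟩
  · show ((t.left : Spec (CommRingCat.of Ω) ⟶ W.left) ≫ k.left).base w' = _
    exact (Scheme.Hom.comp_apply _ _ _).trans (congrArg k.left (ht w'))
  · rw [← (Scheme.pointSmallEtale ξ).toPresheafFiber_w_apply, ← (Scheme.pointSmallEtale ξ).toPresheafFiber_w_apply, e]

theorem locEq_of_germ {U : S.Etale} {a b : P.obj (op U)} {Ω : Type u} [Field Ω] [IsSepClosed Ω]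
    (ξ : Spec (CommRingCat.of Ω) ⟶ S) (t : (Scheme.pointSmallEtale ξ).fiber.obj U)
    (e : (Scheme.pointSmallEtale ξ).toPresheafFiber U t P a = (Scheme.pointSmallEtale ξ).toPresheafFiber U t P b)
    (z : U.left) (hz : (t.left : Spec (CommRingCat.of Ω) ⟶ U.left).base (default : Spec (CommRingCat.of Ω)) = z) :
    LocEq P a b z := by
  obtain ⟨W, k, w, hw, he⟩ := ((Scheme.pointSmallEtale ξ).toPresheafFiber_eq_iff' (P := P) U t a b).1 e
  refine ⟨W, k, ⟨(w.left : Spec (CommRingCat.of Ω) ⟶ W.left).base (default : Spec (CommRingCat.of Ω)), ?_⟩, he⟩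
  subst hw
  exact hz

variable (g : T ⟶ S) (F : EtDesc.Sh S)

/-- Sections pulled back by the unit. -/
noncomputable abbrev up (U : S.Etale) (a : F.obj.obj (op U)) :
    ((EtDesc.pullSh g).obj F).obj.obj (op ((EtCoh.bc g).obj U)) :=
  ((EtDesc.adjSh g).unit.app F).hom.app (op U) a

theorem up_map {U U' : S.Etale} (m : U' ⟶ U) (a : F.obj.obj (op U)) :
    up g F U' (F.obj.map m.op a) = ((EtDesc.pullSh g).obj F).obj.map ((EtCoh.bc g).map m).op (up g F U a) :=
  NatTrans.naturality_apply ((EtDesc.adjSh g).unit.app F).hom m.op a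

/-- The projection of a base change. -/
noncomputable abbrev pr (U : S.Etale) : ((EtCoh.bc g).obj U).left ⟶ U.left := pullback.fst U.hom g

theorem locEq_up {U : S.Etale} {a b : F.obj.obj (op U)} {z : ((EtCoh.bc g).obj U).left}
    (h : LocEq F.obj a b (pr g U z)) : LocEq ((EtDesc.pullSh g).obj F).obj (up g F U a) (up g F U b) z := by
  obtain ⟨W, k, ⟨w, hw⟩, e⟩ := h
  obtain ⟨t, ht, -⟩ := Scheme.exists_preimage_of_isPullback (EtCoh.isPullback_bc_map g k) z w hw.symm
  refine ⟨_, (EtCoh.bc g).map k, ⟨t, ht⟩, ?_⟩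
  rw [← up_map, ← up_map, e]

theorem locEq_of_up {U : S.Etale} {a b : F.obj.obj (op U)} {z : ((EtCoh.bc g).obj U).left}
    (h : LocEq ((EtDesc.pullSh g).obj F).obj (up g F U a) (up g F U b) z) : LocEq F.obj a b (pr g U z) := by
  obtain ⟨Ω, _, _, ξ, t, ht, e⟩ := germ_of_locEq h
  refine locEq_of_germ (ξ ≫ g) (EtFound.bcFiberEquiv g ξ U t) ((EtFound.germ_unit_eq_iff g ξ F U t a b).1 e) _ ?_
  show ((t.left : Spec (CommRingCat.of Ω) ⟶ ((EtCoh.bc g).obj U).left) ≫ pullback.fst U.hom g).base _ = _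
  exact (Scheme.Hom.comp_apply _ _ _).trans (congrArg (pullback.fst U.hom g) (ht _))

theorem exists_locEq_up (s : ((EtDesc.pullSh g).obj F).obj.obj (op (EtCoh.top T))) (x : T) :
    ∃ (U : S.Etale) (a : F.obj.obj (op U)) (z : ((EtCoh.bc g).obj U).left) (m : (EtCoh.bc g).obj U ⟶ EtCoh.top T),
      ((EtCoh.bc g).obj U).hom z = x ∧
        LocEq ((EtDesc.pullSh g).obj F).obj (up g F U a) (((EtDesc.pullSh g).obj F).obj.map m.op s) z := by
  obtain ⟨Ω, _, _, ξ, t₀, ht₀⟩ := EtFound.exists_point_through (EtCoh.top T) x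
  let Φ := Scheme.pointSmallEtale ξ
  let G := (EtDesc.pullSh g).obj F
  let c := Φ.toPresheafFiber (EtCoh.top T) t₀ G.obj s
  obtain ⟨V, v, a, ha⟩ := (Scheme.pointSmallEtale (ξ ≫ g)).toPresheafFiber_jointly_surjective (P := F.obj)
    ((EtFound.sheafFiberPullIso g ξ).hom.app F c)
  let t := (EtFound.bcFiberEquiv g ξ V).symm v
  have hgerm : Φ.toPresheafFiber ((EtCoh.bc g).obj V) t G.obj (up g F V a) = c := by
    have h := (ConcreteCategory.comp_apply _ _ a).symm.trans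
      ((ConcreteCategory.congr_hom (EtFound.sheafFiberPullIso_germ g ξ F V t) a).trans (ConcreteCategory.comp_apply _ _ a))
    rw [show EtFound.bcFiberEquiv g ξ V t = v from Equiv.apply_symm_apply _ _] at h
    refine h.symm.trans ?_
    refine (congrArg ((EtFound.sheafFiberPullIso g ξ).inv.app F) ha).trans ?_
    exact iso_hom_inv_apply ((EtFound.sheafFiberPullIso g ξ).app F) c
  let m : (EtCoh.bc g).obj V ⟶ EtCoh.top T := (EtCore.topIsTerminal T).from _
  have htm : Φ.fiber.map m t = t₀ := by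
    refine Over.OverMorphism.ext ?_
    have h₁ : (t₀.left : Spec (CommRingCat.of Ω) ⟶ T) ≫ 𝟙 T = ξ := Over.w t₀
    have h₂ : ((t.left : Spec (CommRingCat.of Ω) ⟶ ((EtCoh.bc g).obj V).left) ≫ m.left) ≫ 𝟙 T = ξ := Over.w (Φ.fiber.map m t)
    exact (Category.comp_id _).symm.trans (h₂.trans (h₁.symm.trans (Category.comp_id _)))
  refine ⟨V, a, (t.left : Spec (CommRingCat.of Ω) ⟶ ((EtCoh.bc g).obj V).left).base (default : Spec (CommRingCat.of Ω)), m, ?_, ?_⟩
  · refine Eq.trans ?_ (ht₀ (default : Spec (CommRingCat.of Ω)))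
    rw [← htm]
    show _ = ((t.left : Spec (CommRingCat.of Ω) ⟶ ((EtCoh.bc g).obj V).left) ≫ m.left).base _
    have hm : ((EtCoh.bc g).obj V).hom = m.left := ((MorphismProperty.Over.w m).symm.trans (Category.comp_id _))
    rw [hm]
    exact (Scheme.Hom.comp_apply _ _ _).symm
  · refine locEq_of_germ ξ t ?_ _ rfl
    refine hgerm.trans ?_
    rw [Φ.toPresheafFiber_w_apply, htm]

end Groth.Agent.BigSiteLib.DescSec
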