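import Groth.Agent.BigSiteLib.EtDescSec.General

/-!
# Sections locally in the image of a morphism of sheaves of sets
-/

set_option autoImplicit false

universe u

open CategoryTheory CategoryTheory.Limits AlgebraicGeometry Opposite TopologicalSpace

namespace Groth.Agent.BigSiteLib.DescSec

set_option backward.isDefEq.respectTransparency.types false

variable {X S T : Scheme.{u}}

/-- A section is in the image near a point. -/
def LocIn {A B : EtDesc.Sh S} (a : A ⟶ B) {U : S.Etale} (y : B.obj.obj (op U)) (z : U.left) : Prop :=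
  ∃ (W : S.Etale) (k : W ⟶ U) (g : A.obj.obj (op W)), z ∈ Set.range k.left ∧ a.hom.app (op W) g = B.obj.map k.op y

variable {A B : EtDesc.Sh S} {a : A ⟶ B}

theorem LocIn.of_map {U U' : S.Etale} (m : U' ⟶ U) {y : B.obj.obj (op U)} {z : U'.left}
    (h : LocIn a (B.obj.map m.op y) z) : LocIn a y (m.left z) := by
  obtain ⟨W, k, g, ⟨w, rfl⟩, e⟩ := h
  exact ⟨W, k ≫ m, g, ⟨w, rfl⟩, e.trans (mapF B.obj k m y)⟩

theorem LocIn.map {U U' : S.Etale} (m : U' ⟶ U) {y : B.obj.obj (op U)} {z : U'.left}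
    (h : LocIn a y (m.left z)) : LocIn a (B.obj.map m.op y) z := by
  obtain ⟨W, k, g, ⟨w, hw⟩, e⟩ := h
  obtain ⟨t, ht₁, -⟩ := Scheme.exists_preimage_of_isPullback
    ((IsPullback.of_hasPullback m k).map (Scheme.Etale.forget S ⋙ Over.forget S)) z w hw.symm
  refine ⟨pullback m k, pullback.fst m k, A.obj.map (pullback.snd m k).op g, ⟨t, ht₁⟩, ?_⟩
  rw [mapF, pullback.condition, ← mapF, ← e]
  exact NatTrans.naturality_apply a.hom _ g

theorem LocIn.natural {A' B' : EtDesc.Sh S} {a' : A' ⟶ B'} (φ : A ⟶ A') (ψ : B ⟶ B') (h : φ ≫ a' = a ≫ ψ)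
    {U : S.Etale} {y : B.obj.obj (op U)} {z : U.left} (hy : LocIn a y z) : LocIn a' (ψ.hom.app (op U) y) z := by
  obtain ⟨W, k, g, hz, e⟩ := hy
  refine ⟨W, k, φ.hom.app (op W) g, hz, ?_⟩
  rw [← NatTrans.naturality_apply ψ.hom, ← e]
  exact ConcreteCategory.congr_hom (congrArg (fun α : A ⟶ B' => α.hom.app (op W)) h) g

theorem LocEq.locIn {U : S.Etale} {y y' : B.obj.obj (op U)} {z : U.left} (h : LocEq B.obj y y' z) (hy : LocIn a y' z) :
    LocIn a y z := by
  obtain ⟨W, k, ⟨w, rfl⟩, e⟩ := h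
  obtain ⟨W', k', g, hz, e'⟩ := hy.map k
  exact LocIn.of_map k ⟨W', k', g, hz, e'.trans (congrArg (B.obj.map k'.op) e.symm)⟩

theorem isOpen_locIn {U : S.Etale} (y : B.obj.obj (op U)) : IsOpen {z : U.left | LocIn a y z} := by
  refine isOpen_iff_forall_mem_open.2 fun z ⟨W, k, g, hz, e⟩ => ?_
  haveI := EtFound.etale_left k
  exact ⟨Set.range k.left, fun z' hz' => ⟨W, k, g, hz', e⟩, (Scheme.Hom.isOpenMap k.left).isOpen_range, hz⟩

theorem mem_range_of_locIn (ha : ∀ U, Function.Injective (a.hom.app (op U))) {U : S.Etale} {y : B.obj.obj (op U)}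
    (h : ∀ z, LocIn a y z) : ∃ x, a.hom.app (op U) x = y := by
  choose W k g hz e using h
  have hcov : Sieve.generate (Presieve.ofArrows W k) ∈ S.smallEtaleTopology U := by
    rw [EtFound.mem_topology_iff]
    intro u
    obtain ⟨w, hw⟩ := hz u
    exact ⟨W u, k u, w, ⟨W u, 𝟙 _, k u, ⟨u⟩, Category.id_comp _⟩, hw⟩
  obtain ⟨x, hx, -⟩ := (Presieve.isSheafFor_arrows_iff _ _).1 ((Presieve.isSheafFor_iff_generate _).2
    (((isSheaf_iff_isSheaf_of_type _ _).1 A.property) _ hcov)) g (fun i j Y p q h => ha Y (by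
      rw [NatTrans.naturality_apply a.hom, NatTrans.naturality_apply a.hom, e, e, mapF, mapF, h]))
  refine ⟨x, eq_of_locEq B fun u => ⟨W u, k u, hz u, ?_⟩⟩
  rw [← NatTrans.naturality_apply a.hom, hx, e]

theorem locIn_range {U : S.Etale} (x : A.obj.obj (op U)) (z : U.left) : LocIn a (a.hom.app (op U) x) z :=
  ⟨U, 𝟙 U, x, ⟨z, rfl⟩, by rw [op_id, CategoryTheory.Functor.map_id]; rfl⟩

variable (a) in
/-- Injectivity on germs. -/
theorem germ_injective (ha : ∀ U, Function.Injective (a.hom.app (op U))) {Ω : Type u} [Field Ω] [IsSepClosed Ω]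
    (ξ : Spec (CommRingCat.of Ω) ⟶ S) : Function.Injective ((Scheme.pointSmallEtale ξ).presheafFiber.map a.hom) := by
  let Φ := Scheme.pointSmallEtale ξ
  intro p q h
  obtain ⟨U, t, x, y, rfl, rfl⟩ := Φ.toPresheafFiber_jointly_surjective₂ (P := A.obj) p q
  rw [Φ.toPresheafFiber_naturality_apply, Φ.toPresheafFiber_naturality_apply] at h
  obtain ⟨W, k, w, hw, he⟩ := (Φ.toPresheafFiber_eq_iff' (P := B.obj) U t _ _).1 h
  rw [← NatTrans.naturality_apply a.hom, ← NatTrans.naturality_apply a.hom] at he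
  rw [← hw, ← Φ.toPresheafFiber_w_apply, ← Φ.toPresheafFiber_w_apply, ha W he]

theorem locIn_of_germ {U : S.Etale} {y : B.obj.obj (op U)} {Ω : Type u} [Field Ω] [IsSepClosed Ω]
    (ξ : Spec (CommRingCat.of Ω) ⟶ S) (t : (Scheme.pointSmallEtale ξ).fiber.obj U)
    (c : (Scheme.pointSmallEtale ξ).presheafFiber.obj A.obj)
    (e : (Scheme.pointSmallEtale ξ).presheafFiber.map a.hom c = (Scheme.pointSmallEtale ξ).toPresheafFiber U t B.obj y)
    (z : U.left) (hz : (t.left : Spec (CommRingCat.of Ω) ⟶ U.left).base (default : Spec (CommRingCat.of Ω)) = z) :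
    LocIn a y z := by
  let Φ := Scheme.pointSmallEtale ξ
  obtain ⟨W₀, w₀, g₀, rfl⟩ := Φ.toPresheafFiber_jointly_surjective (P := A.obj) c
  obtain ⟨⟨W, w⟩, ⟨α, hα⟩, ⟨β, hβ⟩, -⟩ := IsCofilteredOrEmpty.cone_objs
    (Φ.fiber.elementsMk W₀ w₀) (Φ.fiber.elementsMk U t)
  obtain ⟨α', hα'⟩ : ∃ α' : W ⟶ W₀, Φ.fiber.map α' w = w₀ := ⟨α, hα⟩
  obtain ⟨β', hβ'⟩ : ∃ β' : W ⟶ U, Φ.fiber.map β' w = t := ⟨β, hβ⟩
  rw [Φ.toPresheafFiber_naturality_apply, ← hα', ← hβ', ← Φ.toPresheafFiber_w_apply, ← Φ.toPresheafFiber_w_apply,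
    ← NatTrans.naturality_apply a.hom] at e
  obtain ⟨W', k, w', hw', he⟩ := (Φ.toPresheafFiber_eq_iff' (P := B.obj) W w _ _).1 e
  refine ⟨W', k ≫ β', A.obj.map k.op (A.obj.map α'.op g₀),
    ⟨(w'.left : Spec (CommRingCat.of Ω) ⟶ W'.left).base (default : Spec (CommRingCat.of Ω)), ?_⟩, ?_⟩
  · subst hw'
    subst hβ'
    exact (Scheme.Hom.comp_apply _ _ _).trans ((congrArg β'.left (Scheme.Hom.comp_apply _ _ _).symm).trans
      ((Scheme.Hom.comp_apply _ _ _).symm.trans hz))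
  · rw [NatTrans.naturality_apply a.hom, he, mapF]

theorem germ_of_locIn {U : S.Etale} {y : B.obj.obj (op U)} {z : U.left} (h : LocIn a y z) :
    ∃ (Ω : Type u) (_ : Field Ω) (_ : IsSepClosed Ω) (ξ : Spec (CommRingCat.of Ω) ⟶ S)
      (t : (Scheme.pointSmallEtale ξ).fiber.obj U) (c : (Scheme.pointSmallEtale ξ).presheafFiber.obj A.obj),
      (∀ w : Spec (CommRingCat.of Ω), (t.left : Spec (CommRingCat.of Ω) ⟶ U.left).base w = z) ∧
        (Scheme.pointSmallEtale ξ).presheafFiber.map a.hom c = (Scheme.pointSmallEtale ξ).toPresheafFiber U t B.obj y := by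
  obtain ⟨W, k, g, ⟨w, rfl⟩, e⟩ := h
  obtain ⟨Ω, _, _, ξ, t, ht⟩ := EtFound.exists_point_through W w
  let Φ := Scheme.pointSmallEtale ξ
  refine ⟨Ω, inferInstance, inferInstance, ξ, Φ.fiber.map k t, Φ.toPresheafFiber W t A.obj g, fun w' => ?_, ?_⟩
  · show ((t.left : Spec (CommRingCat.of Ω) ⟶ W.left) ≫ k.left).base w' = _
    exact (Scheme.Hom.comp_apply _ _ _).trans (congrArg k.left (ht w'))
  · rw [Φ.toPresheafFiber_naturality_apply, e, Φ.toPresheafFiber_w_apply]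

theorem nat_apply {C : Type*} [Category C] {F G : C ⥤ Type (u + 1)} (η : F ⟶ G) {x y : C} (φ : x ⟶ y) (c : F.obj x) :
    η.app y (F.map φ c) = G.map φ (η.app x c) :=
  NatTrans.naturality_apply η φ c

variable (g : T ⟶ S)

theorem germ_map_pull {Ω : Type u} [Field Ω] [IsSepClosed Ω] (ξ : Spec (CommRingCat.of Ω) ⟶ T)
    (c : (Scheme.pointSmallEtale ξ).presheafFiber.obj ((EtDesc.pullSh g).obj A).obj) :
    (EtFound.sheafFiberPullIso g ξ).hom.app B ((Scheme.pointSmallEtale ξ).presheafFiber.map ((EtDesc.pullSh g).map a).hom c) =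
      (Scheme.pointSmallEtale (ξ ≫ g)).presheafFiber.map a.hom ((EtFound.sheafFiberPullIso g ξ).hom.app A c) :=
  nat_apply (EtFound.sheafFiberPullIso g ξ).hom a c

theorem pull_map_injective (ha : ∀ U, Function.Injective (a.hom.app (op U))) (U : T.Etale) :
    Function.Injective (((EtDesc.pullSh g).map a).hom.app (op U)) :=
  EtFound.injective_of_stalks ((EtDesc.pullSh g).map a) (fun Ω _ _ ξ p q h => by
    have h' := congrArg ((EtFound.sheafFiberPullIso g ξ).hom.app B) h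
    replace h' := ((germ_map_pull (a := a) g ξ p).symm.trans h').trans (germ_map_pull (a := a) g ξ q)
    have hinj : Function.Injective ((EtFound.sheafFiberPullIso g ξ).hom.app A) :=
      Function.LeftInverse.injective (g := (EtFound.sheafFiberPullIso g ξ).inv.app A)
        (iso_hom_inv_apply ((EtFound.sheafFiberPullIso g ξ).app A))
    exact hinj (germ_injective a ha (ξ ≫ g) h')) U

theorem germ_iso_up {Ω : Type u} [Field Ω] [IsSepClosed Ω] (ξ : Spec (CommRingCat.of Ω) ⟶ T) (U : S.Etale)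
    (t : (Scheme.pointSmallEtale ξ).fiber.obj ((EtCoh.bc g).obj U)) (y : ToType (B.obj.obj (op U))) :
    (EtFound.sheafFiberPullIso g ξ).hom.app B
        ((Scheme.pointSmallEtale ξ).toPresheafFiber ((EtCoh.bc g).obj U) t ((EtDesc.pullSh g).obj B).obj (up g B U y)) =
      (Scheme.pointSmallEtale (ξ ≫ g)).toPresheafFiber U (EtFound.bcFiberEquiv g ξ U t) B.obj y := by
  have h' := (ConcreteCategory.comp_apply _ _ y).symm.trans
    ((ConcreteCategory.congr_hom (EtFound.sheafFiberPullIso_germ g ξ B U t) y).trans (ConcreteCategory.comp_apply _ _ y))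
  refine (congrArg ((EtFound.sheafFiberPullIso g ξ).hom.app B) h').symm.trans ?_
  exact iso_hom_inv_apply ((EtFound.sheafFiberPullIso g ξ).app B).symm _

theorem locIn_up {U : S.Etale} {y : B.obj.obj (op U)} {z : ((EtCoh.bc g).obj U).left} (h : LocIn a y (pr g U z)) :
    LocIn ((EtDesc.pullSh g).map a) (up g B U y) z := by
  obtain ⟨W, k, x, ⟨w, hw⟩, e⟩ := h
  obtain ⟨t, ht, -⟩ := Scheme.exists_preimage_of_isPullback (EtCoh.isPullback_bc_map g k) z w hw.symm
  refine ⟨_, (EtCoh.bc g).map k, up g A W x, ⟨t, ht⟩, ?_⟩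
  rw [up_natural, e, up_map]

theorem locIn_of_up {U : S.Etale} {y : B.obj.obj (op U)} {z : ((EtCoh.bc g).obj U).left}
    (h : LocIn ((EtDesc.pullSh g).map a) (up g B U y) z) : LocIn a y (pr g U z) := by
  obtain ⟨Ω, _, _, ξ, t, c, ht, e⟩ := germ_of_locIn h
  refine locIn_of_germ (ξ ≫ g) (EtFound.bcFiberEquiv g ξ U t) ((EtFound.sheafFiberPullIso g ξ).hom.app A c) ?_ _ ?_
  · rw [← germ_map_pull, e, germ_iso_up]
  · show ((t.left : Spec (CommRingCat.of Ω) ⟶ ((EtCoh.bc g).obj U).left) ≫ pullback.fst U.hom g).base _ = _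
    exact (Scheme.Hom.comp_apply _ _ _).trans (congrArg (pullback.fst U.hom g) (ht _))

theorem exists_locEq_up_obj (F : EtDesc.Sh S) {U' : T.Etale} (y : ((EtDesc.pullSh g).obj F).obj.obj (op U')) (z : U'.left) :
    ∃ (V : S.Etale) (x : F.obj.obj (op V)) (W : T.Etale) (k₁ : W ⟶ U') (k₂ : W ⟶ (EtCoh.bc g).obj V),
      z ∈ Set.range k₁.left ∧
        ((EtDesc.pullSh g).obj F).obj.map k₁.op y = ((EtDesc.pullSh g).obj F).obj.map k₂.op (up g F V x) := by
  obtain ⟨Ω, _, _, ξ, t₀, ht₀⟩ := EtFound.exists_point_through U' z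
  let Φ := Scheme.pointSmallEtale ξ
  let G := (EtDesc.pullSh g).obj F
  let c := Φ.toPresheafFiber U' t₀ G.obj y
  obtain ⟨V, v, x, hx⟩ := (Scheme.pointSmallEtale (ξ ≫ g)).toPresheafFiber_jointly_surjective (P := F.obj)
    ((EtFound.sheafFiberPullIso g ξ).hom.app F c)
  let t := (EtFound.bcFiberEquiv g ξ V).symm v
  have hg : Φ.toPresheafFiber ((EtCoh.bc g).obj V) t G.obj (up g F V x) = c :=
    germ_up_of_germ g ξ F V t x c (by rw [Equiv.apply_symm_apply]; exact hx)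
  obtain ⟨⟨W₀, w₀⟩, ⟨α, hα⟩, ⟨β, hβ⟩, -⟩ := IsCofilteredOrEmpty.cone_objs
    (Φ.fiber.elementsMk U' t₀) (Φ.fiber.elementsMk ((EtCoh.bc g).obj V) t)
  obtain ⟨α', hα'⟩ : ∃ α' : W₀ ⟶ U', Φ.fiber.map α' w₀ = t₀ := ⟨α, hα⟩
  obtain ⟨β', hβ'⟩ : ∃ β' : W₀ ⟶ (EtCoh.bc g).obj V, Φ.fiber.map β' w₀ = t := ⟨β, hβ⟩
  have e : Φ.toPresheafFiber W₀ w₀ G.obj (G.obj.map α'.op y) = Φ.toPresheafFiber W₀ w₀ G.obj (G.obj.map β'.op (up g F V x)) := by
    rw [Φ.toPresheafFiber_w_apply, Φ.toPresheafFiber_w_apply, hα', hβ', hg]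
  obtain ⟨W, k, w, hw, he⟩ := (Φ.toPresheafFiber_eq_iff' (P := G.obj) W₀ w₀ _ _).1 e
  rw [mapF, mapF] at he
  refine ⟨V, x, W, k ≫ α', k ≫ β', ⟨(w.left : Spec (CommRingCat.of Ω) ⟶ W.left).base (default : Spec (CommRingCat.of Ω)), ?_⟩, he⟩
  subst hw
  subst hα'
  exact (Scheme.Hom.comp_apply _ _ _).trans ((congrArg α'.left (Scheme.Hom.comp_apply _ _ _).symm).trans
    ((Scheme.Hom.comp_apply _ _ _).symm.trans (ht₀ _)))

end Groth.Agent.BigSiteLib.DescSec
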