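import Groth.Agent.BigSiteLib.EtDescSec.Via

/-!
# Descent of sections along universally submersive morphisms
-/

set_option autoImplicit false

universe u

open CategoryTheory CategoryTheory.Limits AlgebraicGeometry Opposite TopologicalSpace

namespace Groth.Agent.BigSiteLib.DescSec

set_option backward.isDefEq.respectTransparency.types false

variable {X' X : Scheme.{u}} (f : X' ⟶ X)

/-- the map to the final object -/
noncomputable abbrev toTop {S : Scheme.{u}} (U : S.Etale) : U ⟶ EtCoh.top S := (EtCore.topIsTerminal S).from U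

theorem map_toTop {S : Scheme.{u}} (G : EtDesc.Sh S) {U U' : S.Etale} (m : U' ⟶ U) (s : G.obj.obj (op (EtCoh.top S))) :
    G.obj.map m.op (G.obj.map (toTop U).op s) = G.obj.map (toTop U').op s :=
  (mapF G.obj m (toTop U) s).trans (congrArg (fun k : U' ⟶ EtCoh.top S => G.obj.map k.op s)
    ((EtCore.topIsTerminal S).hom_ext _ _))

theorem map_top_self {S : Scheme.{u}} (G : EtDesc.Sh S) (m : EtCoh.top S ⟶ EtCoh.top S) (s : G.obj.obj (op (EtCoh.top S))) :
    G.obj.map m.op s = s := by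
  rw [(EtCore.topIsTerminal S).hom_ext m (𝟙 _), op_id, CategoryTheory.Functor.map_id]
  rfl

theorem via_res {S T : Scheme.{u}} (g : T ⟶ S) (G : EtDesc.Sh S) {H : EtDesc.Sh T} (φ : (EtDesc.pullSh g).obj G ⟶ H)
    {U : S.Etale} {W : T.Etale} (c : W ⟶ (EtCoh.bc g).obj U) (s : G.obj.obj (op (EtCoh.top S))) :
    φ.hom.app (op W) (((EtDesc.pullSh g).obj G).obj.map c.op (up g G U (G.obj.map (toTop U).op s))) =
      H.obj.map (toTop W).op (φ.hom.app (op (EtCoh.top T)) (EtDesc.secPull g G s)) := by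
  rw [← NatTrans.naturality_apply, up_map, mapF]
  show _ = φ.hom.app (op W) (((EtDesc.pullSh g).obj G).obj.map (toTop W).op
    (((EtDesc.pullSh g).obj G).obj.map (EtCore.bcTopIso g).inv.op (up g G (EtCoh.top S) s)))
  rw [mapF]
  exact congrArg (fun k : W ⟶ (EtCoh.bc g).obj (EtCoh.top S) =>
    φ.hom.app (op W) (((EtDesc.pullSh g).obj G).obj.map k.op (up g G (EtCoh.top S) s))) ((EtCore.bcTopIsTerminal g).hom_ext _ _)

theorem via_secPull {S T R : Scheme.{u}} (g : T ⟶ S) (a : S ⟶ R) (b : T ⟶ R) (w : g ≫ a = b) (F : EtDesc.Sh R)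
    (s : F.obj.obj (op (EtCoh.top R))) :
    (EtDesc.pullVia g a b w F).hom.hom.app (op (EtCoh.top T))
      (EtDesc.secPull g ((EtDesc.pullSh a).obj F) (EtDesc.secPull a F s)) = EtDesc.secPull b F s := by
  let G := (EtDesc.pullSh a).obj F
  obtain ⟨c, -, -, hc⟩ := unit_pullVia g a b w F (EtCoh.top R)
  have e : up a F (EtCoh.top R) s = G.obj.map (toTop ((EtCoh.bc a).obj (EtCoh.top R))).op (EtDesc.secPull a F s) := by
    show _ = G.obj.map _ (G.obj.map (EtCore.bcTopIso a).inv.op (up a F (EtCoh.top R) s))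
    rw [mapF, (EtCore.bcTopIsTerminal a).hom_ext (toTop _ ≫ (EtCore.bcTopIso a).inv) (𝟙 _), op_id,
      CategoryTheory.Functor.map_id]
    rfl
  have h := hc s
  rw [e] at h
  replace h := (via_res g G (EtDesc.pullVia g a b w F).hom c (EtDesc.secPull a F s)).symm.trans h
  refine Eq.trans ?_ (congrArg (((EtDesc.pullSh b).obj F).obj.map (EtCore.bcTopIso b).inv.op) h)
  rw [mapF]
  exact (map_top_self ((EtDesc.pullSh b).obj F) ((EtCore.bcTopIso b).inv ≫ toTop ((EtCoh.bc b).obj (EtCoh.top R))) _).symm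

theorem trans_symm_apply_eq_iff {S : Scheme.{u}} {A B C : EtDesc.Sh S} (α : A ≅ B) (β : C ≅ B) (U : S.Etale)
    (x : A.obj.obj (op U)) (y : C.obj.obj (op U)) :
    (α ≪≫ β.symm).hom.hom.app (op U) x = y ↔ α.hom.hom.app (op U) x = β.hom.hom.app (op U) y := by
  let β' := ((sheafToPresheaf _ _).mapIso β).app (op U)
  constructor
  · rintro rfl
    exact (iso_hom_inv_apply β'.symm _).symm
  · intro h
    exact (congrArg β'.inv h).trans (iso_hom_inv_apply β' y)

theorem app_inv_apply {S : Scheme.{u}} {A B : EtDesc.Sh S} (α : A ≅ B) (U : S.Etale) (x : A.obj.obj (op U)) :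
    α.inv.hom.app (op U) (α.hom.hom.app (op U) x) = x :=
  iso_hom_inv_apply (((sheafToPresheaf _ _).mapIso α).app (op U)) x

theorem canIso_eq (F : EtDesc.Sh X) : EtDesc.canIso f F =
    EtDesc.pullVia (pullback.fst f f) f (pullback.fst f f ≫ f) rfl F ≪≫
      (EtDesc.pullVia (pullback.snd f f) f (pullback.fst f f ≫ f) pullback.condition.symm F).symm := by
  delta EtDesc.canIso
  rfl

theorem iso_apply_eq_iff {S : Scheme.{u}} {A B C : EtDesc.Sh S} (I : A ≅ C) (α : A ≅ B) (β : C ≅ B)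
    (hI : I = α ≪≫ β.symm) (U : S.Etale) (x : A.obj.obj (op U)) (y : C.obj.obj (op U)) :
    I.hom.hom.app (op U) x = y ↔ α.hom.hom.app (op U) x = β.hom.hom.app (op U) y := by
  subst hI
  exact trans_symm_apply_eq_iff α β U x y

theorem canIso_eq_iff (F : EtDesc.Sh X) (x : ((EtDesc.pullSh (pullback.fst f f)).obj ((EtDesc.pullSh f).obj F)).obj.obj (op (EtCoh.top (EtDesc.X2 f))))
    (y : ((EtDesc.pullSh (pullback.snd f f)).obj ((EtDesc.pullSh f).obj F)).obj.obj (op (EtCoh.top (EtDesc.X2 f)))) :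
    (EtDesc.canIso f F).hom.hom.app (op (EtCoh.top (EtDesc.X2 f))) x = y ↔
      (EtDesc.pullVia (pullback.fst f f) f (pullback.fst f f ≫ f) rfl F).hom.hom.app _ x =
        (EtDesc.pullVia (pullback.snd f f) f (pullback.fst f f ≫ f) pullback.condition.symm F).hom.hom.app _ y :=
  iso_apply_eq_iff (EtDesc.canIso f F) _ _ (canIso_eq f F) _ x y

theorem locEq_transfer {S T : Scheme.{u}} (g : T ⟶ S) (G : EtDesc.Sh S) {H : EtDesc.Sh T} (φ : (EtDesc.pullSh g).obj G ≅ H)
    {U : S.Etale} {W : T.Etale} (c : W ⟶ (EtCoh.bc g).obj U) (a : G.obj.obj (op U)) (A : H.obj.obj (op W))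
    (s : G.obj.obj (op (EtCoh.top S)))
    (hA : φ.hom.hom.app (op W) (((EtDesc.pullSh g).obj G).obj.map c.op (up g G U a)) = A)
    (w : W.left) (h : LocEq G.obj a (G.obj.map (toTop U).op s) (pr g U (c.left w))) :
    LocEq H.obj A (H.obj.map (toTop W).op (φ.hom.hom.app (op (EtCoh.top T)) (EtDesc.secPull g G s))) w := by
  have h₁ := ((locEq_up g G h).map c).natural φ.hom.hom
  rw [hA, via_res] at h₁
  exact h₁

theorem locEq_transfer_back {S T : Scheme.{u}} (g : T ⟶ S) (G : EtDesc.Sh S) {H : EtDesc.Sh T} (φ : (EtDesc.pullSh g).obj G ≅ H)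
    {U : S.Etale} {W : T.Etale} (c : W ⟶ (EtCoh.bc g).obj U) (a : G.obj.obj (op U)) (A : H.obj.obj (op W))
    (s : G.obj.obj (op (EtCoh.top S)))
    (hA : φ.hom.hom.app (op W) (((EtDesc.pullSh g).obj G).obj.map c.op (up g G U a)) = A)
    (w : W.left) (h : LocEq H.obj A (H.obj.map (toTop W).op (φ.hom.hom.app (op (EtCoh.top T)) (EtDesc.secPull g G s))) w) :
    LocEq G.obj a (G.obj.map (toTop U).op s) (pr g U (c.left w)) := by
  rw [← hA, ← via_res g G φ.hom c s] at h
  have h₂ := h.natural φ.inv.hom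
  rw [app_inv_apply, app_inv_apply] at h₂
  exact locEq_of_up g G (LocEq.of_map c h₂)

theorem locEq_transfer₂ {S T : Scheme.{u}} (g₁ g₂ : T ⟶ S) (G : EtDesc.Sh S) {H : EtDesc.Sh T}
    (φ₁ : (EtDesc.pullSh g₁).obj G ≅ H) (φ₂ : (EtDesc.pullSh g₂).obj G ≅ H)
    {U : S.Etale} {W : T.Etale} (c₁ : W ⟶ (EtCoh.bc g₁).obj U) (c₂ : W ⟶ (EtCoh.bc g₂).obj U)
    (a : G.obj.obj (op U)) (A : H.obj.obj (op W))
    (hA₁ : φ₁.hom.hom.app (op W) (((EtDesc.pullSh g₁).obj G).obj.map c₁.op (up g₁ G U a)) = A)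
    (hA₂ : φ₂.hom.hom.app (op W) (((EtDesc.pullSh g₂).obj G).obj.map c₂.op (up g₂ G U a)) = A)
    (s : G.obj.obj (op (EtCoh.top S)))
    (hs : φ₁.hom.hom.app (op (EtCoh.top T)) (EtDesc.secPull g₁ G s) = φ₂.hom.hom.app (op (EtCoh.top T)) (EtDesc.secPull g₂ G s))
    (w : W.left) (h : LocEq G.obj a (G.obj.map (toTop U).op s) (pr g₁ U (c₁.left w))) :
    LocEq G.obj a (G.obj.map (toTop U).op s) (pr g₂ U (c₂.left w)) := by
  have h₁ := locEq_transfer g₁ G φ₁ c₁ a A s hA₁ w h
  rw [hs] at h₁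
  exact locEq_transfer_back g₂ G φ₂ c₂ a A s hA₂ w h₁

theorem x2_app {P Q : EtDesc.Sh (pullback f f)} (φ : P ⟶ Q) (x : P.obj.obj (op (EtCoh.top (pullback f f))))
    (y : Q.obj.obj (op (EtCoh.top (pullback f f))))
    (h : φ.hom.app (op (EtCoh.top (EtDesc.X2 f))) x = y) : φ.hom.app (op (EtCoh.top (pullback f f))) x = y := h

theorem x2_app' {P Q : EtDesc.Sh (pullback f f)} (φ : P ⟶ Q) (x : P.obj.obj (op (EtCoh.top (pullback f f))))
    (y : Q.obj.obj (op (EtCoh.top (pullback f f))))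
    (h : φ.hom.app (op (EtCoh.top (pullback f f))) x = y) : φ.hom.app (op (EtCoh.top (EtDesc.X2 f))) x = y := h

variable (hf : EtDesc.IsUnivSubmersive f)
include hf

theorem fst_surjective_isQuotientMap {V : Scheme.{u}} (g : V ⟶ X) :
    Function.Surjective (pullback.fst g f) ∧ Topology.IsQuotientMap (pullback.fst g f) := by
  have h := hf V g
  have e : pullback.fst g f = (pullbackSymmetry g f).hom ≫ pullback.snd f g := (pullbackSymmetry_hom_comp_snd g f).symm
  let φ := Scheme.homeoOfIso (pullbackSymmetry g f)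
  have he : ⇑(pullback.fst g f) = ⇑(pullback.snd f g) ∘ ⇑φ := by
    funext z
    rw [e, Scheme.Hom.comp_apply]
    rfl
  rw [he]
  exact ⟨h.1.comp φ.surjective, h.2.comp φ.isQuotientMap⟩

theorem secPull_injective (F : EtDesc.Sh X) : Function.Injective (EtDesc.secPull f F) := by
  intro s t h
  refine eq_of_locEq F fun v => ?_
  obtain ⟨z, rfl⟩ := (fst_surjective_isQuotientMap f hf (EtCoh.top X).hom).1 v
  refine locEq_of_up f F ?_
  have h' := congrArg (((EtDesc.pullSh f).obj F).obj.map (EtCore.bcTopIso f).hom.op) h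
  simp only [EtDesc.secPull, mapF, Iso.hom_inv_id, op_id, CategoryTheory.Functor.map_id] at h'
  exact (show up f F _ s = up f F _ t from h') ▸ LocEq.refl _ _

variable {F : EtDesc.Sh X} (s' : ((EtDesc.pullSh f).obj F).obj.obj (op (EtCoh.top X')))
  (hs' : (EtDesc.canIso f F).hom.hom.app (op (EtCoh.top (EtDesc.X2 f)))
          (EtDesc.secPull (pullback.fst f f) ((EtDesc.pullSh f).obj F) s') =
        EtDesc.secPull (pullback.snd f f) ((EtDesc.pullSh f).obj F) s')

omit hf in
/-- a local section agreeing with the given one at a point of the base change -/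
abbrev Match (V : X.Etale) (a : F.obj.obj (op V)) (z : ((EtCoh.bc f).obj V).left) : Prop :=
  LocEq ((EtDesc.pullSh f).obj F).obj (up f F V a)
    (((EtDesc.pullSh f).obj F).obj.map (toTop ((EtCoh.bc f).obj V)).op s') z

omit hf in
theorem match_aux {T : Scheme.{u}} (p₁ p₂ : T ⟶ X') (hP : IsPullback p₁ p₂ f f) (b : T ⟶ X) (w₁ : p₁ ≫ f = b) (w₂ : p₂ ≫ f = b)
    (hσ : (EtDesc.pullVia p₁ f b w₁ F).hom.hom.app (op (EtCoh.top T)) (EtDesc.secPull p₁ ((EtDesc.pullSh f).obj F) s') =
      (EtDesc.pullVia p₂ f b w₂ F).hom.hom.app (op (EtCoh.top T)) (EtDesc.secPull p₂ ((EtDesc.pullSh f).obj F) s'))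
    {V : X.Etale} {a : F.obj.obj (op V)} {z₁ z₂ : ((EtCoh.bc f).obj V).left}
    (hz : pr f V z₁ = pr f V z₂) (h : Match f s' V a z₁) : Match f s' V a z₂ := by
  obtain ⟨c₁, c₁f, c₁s, hc₁⟩ := unit_pullVia p₁ f b w₁ F V
  obtain ⟨c₂, c₂f, c₂s, hc₂⟩ := unit_pullVia p₂ f b w₂ F V
  obtain ⟨t, ht₁, ht₂⟩ := Scheme.Pullback.exists_preimage_pullback (f := pullback.fst V.hom f) (g := pullback.fst V.hom f) z₁ z₂ hz
  let r₁ := pullback.fst (pullback.fst V.hom f) (pullback.fst V.hom f)
  let r₂ := pullback.snd (pullback.fst V.hom f) (pullback.fst V.hom f)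
  have hr : r₁ ≫ pullback.fst V.hom f = r₂ ≫ pullback.fst V.hom f := pullback.condition
  let q : pullback (pullback.fst V.hom f) (pullback.fst V.hom f) ⟶ T :=
    hP.lift (r₁ ≫ pullback.snd V.hom f) (r₂ ≫ pullback.snd V.hom f) (by
      rw [Category.assoc, Category.assoc, ← pullback.condition, ← Category.assoc, hr, Category.assoc])
  let L : pullback (pullback.fst V.hom f) (pullback.fst V.hom f) ⟶ pullback V.hom b :=
    pullback.lift (r₁ ≫ pullback.fst V.hom f) q (by
      rw [← w₁, ← Category.assoc q, hP.lift_fst, Category.assoc, Category.assoc, pullback.condition])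
  have hd₁ : L ≫ (c₁.left ≫ pullback.fst ((EtCoh.bc f).obj V).hom p₁) = r₁ := pullback.hom_ext
    ((Category.assoc _ _ _).trans ((congrArg (L ≫ ·) c₁f).trans (pullback.lift_fst _ _ _)))
    ((Category.assoc _ _ _).trans ((congrArg (L ≫ ·) c₁s).trans
      ((Category.assoc _ _ _).symm.trans ((congrArg (· ≫ p₁) (pullback.lift_snd _ _ _)).trans (hP.lift_fst _ _ _)))))
  have hd₂ : L ≫ (c₂.left ≫ pullback.fst ((EtCoh.bc f).obj V).hom p₂) = r₂ := pullback.hom_ext
    ((Category.assoc _ _ _).trans ((congrArg (L ≫ ·) c₂f).trans ((pullback.lift_fst _ _ _).trans hr)))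
    ((Category.assoc _ _ _).trans ((congrArg (L ≫ ·) c₂s).trans
      ((Category.assoc _ _ _).symm.trans ((congrArg (· ≫ p₂) (pullback.lift_snd _ _ _)).trans (hP.lift_snd _ _ _)))))
  let w : ((EtCoh.bc b).obj V).left := L t
  have hw₁ : pr p₁ ((EtCoh.bc f).obj V) (c₁.left w) = z₁ := by
    rw [← ht₁]
    exact ((Scheme.Hom.comp_apply _ _ _).symm.trans (Scheme.Hom.comp_apply _ _ _).symm).trans
      (congrArg (fun m : pullback (pullback.fst V.hom f) (pullback.fst V.hom f) ⟶ pullback V.hom f => m t) hd₁)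
  have hw₂ : pr p₂ ((EtCoh.bc f).obj V) (c₂.left w) = z₂ := by
    rw [← ht₂]
    exact ((Scheme.Hom.comp_apply _ _ _).symm.trans (Scheme.Hom.comp_apply _ _ _).symm).trans
      (congrArg (fun m : pullback (pullback.fst V.hom f) (pullback.fst V.hom f) ⟶ pullback V.hom f => m t) hd₂)
  have h₂ := locEq_transfer₂ p₁ p₂ ((EtDesc.pullSh f).obj F) (EtDesc.pullVia p₁ f b w₁ F) (EtDesc.pullVia p₂ f b w₂ F)
    c₁ c₂ (up f F V a) _ (hc₁ a) (hc₂ a) s' hσ w ((congrArg (fun z => Match f s' V a z) hw₁).mpr h)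
  exact (congrArg (fun z => Match f s' V a z) hw₂).mp h₂

include hs' in
omit hf in
theorem match_of_match {V : X.Etale} {a : F.obj.obj (op V)} {z₁ z₂ : ((EtCoh.bc f).obj V).left}
    (hz : pr f V z₁ = pr f V z₂) (h : Match f s' V a z₁) : Match f s' V a z₂ :=
  match_aux f s' (pullback.fst f f) (pullback.snd f f) (IsPullback.of_hasPullback f f) _ rfl pullback.condition.symm
    ((iso_apply_eq_iff (EtDesc.canIso f F) _ _ (canIso_eq f F) (EtCoh.top (pullback f f)) _ _).1 (x2_app f (EtDesc.canIso f F).hom _ _ hs')) hz h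

omit hf in
/-- the open set where a local section agrees with the given one -/
def good (V : X.Etale) (a : F.obj.obj (op V)) : Set V.left := {v | ∀ z, pr f V z = v → Match f s' V a z}

include hs' in
theorem isOpen_good (V : X.Etale) (a : F.obj.obj (op V)) : IsOpen (good f s' V a) := by
  have hq := (fst_surjective_isQuotientMap f hf V.hom).2
  refine hq.isOpen_preimage.1 ?_
  have e : pullback.fst V.hom f ⁻¹' good f s' V a = {z : ((EtCoh.bc f).obj V).left | Match f s' V a z} :=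
    Set.ext fun z => ⟨fun hz => hz z rfl, fun hz z' hz' => match_of_match f s' hs' hz'.symm hz⟩
  rw [e]
  exact isOpen_locEq _ _

include hs' in
omit hf in
theorem exists_mem_good (x' : X') :
    ∃ (V : X.Etale) (a : F.obj.obj (op V)) (v : V.left), v ∈ good f s' V a ∧ V.hom v = f x' := by
  obtain ⟨V, a, z, m, hz, h⟩ := exists_locEq_up f F s' x'
  rw [(EtCore.topIsTerminal X').hom_ext m (toTop _)] at h
  refine ⟨V, a, pr f V z, fun z' hz' => match_of_match f s' hs' hz'.symm h, ?_⟩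
  rw [← hz]
  exact ((Scheme.Hom.comp_apply _ _ _).symm.trans
    (congrArg (fun m : pullback V.hom f ⟶ X => m z) pullback.condition)).trans (Scheme.Hom.comp_apply _ _ _)

theorem locEq_of_good {V₁ V₂ Y : X.Etale} {a₁ : F.obj.obj (op V₁)} {a₂ : F.obj.obj (op V₂)} (p₁ : Y ⟶ V₁) (p₂ : Y ⟶ V₂)
    {y : Y.left} (h₁ : p₁.left y ∈ good f s' V₁ a₁) (h₂ : p₂.left y ∈ good f s' V₂ a₂) :
    LocEq F.obj (F.obj.map p₁.op a₁) (F.obj.map p₂.op a₂) y := by
  obtain ⟨z, rfl⟩ := (fst_surjective_isQuotientMap f hf Y.hom).1 y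
  have key : ∀ {V : X.Etale} {a : F.obj.obj (op V)} (p : Y ⟶ V), p.left (pullback.fst Y.hom f z) ∈ good f s' V a →
      LocEq ((EtDesc.pullSh f).obj F).obj (up f F Y (F.obj.map p.op a))
        (((EtDesc.pullSh f).obj F).obj.map (toTop ((EtCoh.bc f).obj Y)).op s') z := by
    intro V a p hp
    have h := (hp (((EtCoh.bc f).map p).left z)
      (((Scheme.Hom.comp_apply _ _ _).symm.trans
        (congrArg (fun m : ((EtCoh.bc f).obj Y).left ⟶ V.left => m z) (EtCoh.isPullback_bc_map f p).w)).trans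
          (Scheme.Hom.comp_apply _ _ _))).map ((EtCoh.bc f).map p)
    rwa [← up_map, map_toTop] at h
  exact locEq_of_up f F ((key p₁ h₁).trans (key p₂ h₂).symm)

include hs' in
theorem exists_secPull : ∃ s, EtDesc.secPull f F s = s' := by
  have hsurj : ∀ x : X, ∃ x', f x' = x := fun x => by
    obtain ⟨z, hz⟩ := (fst_surjective_isQuotientMap f hf (𝟙 X)).1 x
    refine ⟨pullback.snd (𝟙 X) f z, ?_⟩
    rw [← Scheme.Hom.comp_apply, ← pullback.condition, Category.comp_id]
    exact hz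
  choose V a v hv hvx using fun x : X' => exists_mem_good f s' hs' x
  let O : ∀ x : X', (V x).left.Opens := fun x => ⟨good f s' (V x) (a x), isOpen_good f hf s' hs' _ _⟩
  let U : X' → X.Etale := fun x => MorphismProperty.Over.mk ⊤ ((O x).ι ≫ (V x).hom) (by
    haveI : Etale (V x).hom := (V x).prop
    exact inferInstanceAs (Etale ((O x).ι ≫ (V x).hom)))
  let ι : ∀ x, U x ⟶ V x := fun x => MorphismProperty.Over.homMk (O x).ι rfl
  let b : ∀ x, F.obj.obj (op (U x)) := fun x => F.obj.map (ι x).op (a x)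
  have hcomp : ∀ i j (Y : X.Etale) (p : Y ⟶ U i) (q : Y ⟶ U j),
      F.obj.map p.op (b i) = F.obj.map q.op (b j) := fun i j Y p q => by
    refine eq_of_locEq F fun y => ?_
    rw [mapF, mapF]
    exact locEq_of_good f hf s' (p ≫ ι i) (q ≫ ι j) (p.left y).2 (q.left y).2
  have hcov : Sieve.generate (Presieve.ofArrows U (fun x => toTop (U x))) ∈ X.smallEtaleTopology (EtCoh.top X) := by
    rw [EtFound.mem_topology_iff]
    intro x
    obtain ⟨x', rfl⟩ := hsurj x
    refine ⟨U x', toTop (U x'), ⟨v x', hv x'⟩, ⟨U x', 𝟙 _, toTop (U x'), ⟨x'⟩, Category.id_comp _⟩, ?_⟩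
    have hm : (U x').hom = (toTop (U x')).left := (MorphismProperty.Over.w (toTop (U x'))).symm.trans (Category.comp_id _)
    rw [← hm]
    exact hvx x'
  obtain ⟨s, hs, -⟩ := (Presieve.isSheafFor_arrows_iff _ _).1 ((Presieve.isSheafFor_iff_generate _).2
    (((isSheaf_iff_isSheaf_of_type _ _).1 F.property) _ hcov)) b (fun i j Y p q _ => hcomp i j Y p q)
  refine ⟨s, ?_⟩
  let G := (EtDesc.pullSh f).obj F
  have key : up f F (EtCoh.top X) s = G.obj.map (toTop ((EtCoh.bc f).obj (EtCoh.top X))).op s' := by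
    refine eq_of_locEq G fun z => ?_
    let z₀ := pullback.snd (EtCoh.top X).hom f z
    have hm : (U z₀).hom = (toTop (U z₀)).left := (MorphismProperty.Over.w (toTop (U z₀))).symm.trans (Category.comp_id _)
    have hz : pullback.fst (EtCoh.top X).hom f z = (toTop (U z₀)).left ⟨v z₀, hv z₀⟩ := by
      rw [← hm]
      refine Eq.trans ?_ (hvx z₀).symm
      show ((pullback.fst (EtCoh.top X).hom f) ≫ 𝟙 X) z = _
      exact (congrArg (fun m : pullback (EtCoh.top X).hom f ⟶ X => m z) pullback.condition).trans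
        (Scheme.Hom.comp_apply _ _ _)
    obtain ⟨t, ht, ht'⟩ := Scheme.exists_preimage_of_isPullback (EtCoh.isPullback_bc_map f (toTop (U z₀))) z
      (⟨v z₀, hv z₀⟩ : (U z₀).left) hz
    rw [← ht]
    refine LocEq.of_map ((EtCoh.bc f).map (toTop (U z₀))) ?_
    rw [← up_map, hs, map_toTop]
    have h := (show Match f s' (V z₀) (a z₀) (((EtCoh.bc f).map (ι z₀)).left t) from ?_)
    · have h' := h.map ((EtCoh.bc f).map (ι z₀))
      rw [← up_map, map_toTop] at h'
      exact h'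
    · refine (hv z₀) _ ?_
      refine ((Scheme.Hom.comp_apply _ _ _).symm.trans
        (congrArg (fun m : ((EtCoh.bc f).obj (U z₀)).left ⟶ (V z₀).left => m t) (EtCoh.isPullback_bc_map f (ι z₀)).w)).trans ?_
      exact (Scheme.Hom.comp_apply _ _ _).trans (congrArg (ι z₀).left ht')
  show G.obj.map (EtCore.bcTopIso f).inv.op (up f F (EtCoh.top X) s) = s'
  rw [key, mapF, map_top_self]

theorem sections_equalizer (F : EtDesc.Sh X) :
    Function.Injective (EtDesc.secPull f F) ∧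
    Set.range (EtDesc.secPull f F) =
      {s' | (EtDesc.canIso f F).hom.hom.app (op (EtCoh.top (EtDesc.X2 f)))
          (EtDesc.secPull (pullback.fst f f) ((EtDesc.pullSh f).obj F) s') =
        EtDesc.secPull (pullback.snd f f) ((EtDesc.pullSh f).obj F) s'} := by
  refine ⟨secPull_injective f hf F, Set.ext fun s' => ⟨?_, fun h => exists_secPull f hf s' h⟩⟩
  rintro ⟨s, rfl⟩
  exact x2_app' f (EtDesc.canIso f F).hom _ _ ((iso_apply_eq_iff (EtDesc.canIso f F) _ _ (canIso_eq f F) (EtCoh.top (pullback f f)) _ _).2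
    ((via_secPull _ _ _ _ F s).trans (via_secPull _ _ _ _ F s).symm))

end Groth.Agent.BigSiteLib.DescSec
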