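import Groth.Agent.BigSiteLib.EtDescSec.Effective

/-!
# Germs related by a descent datum
-/

set_option autoImplicit false

universe u

open CategoryTheory CategoryTheory.Limits AlgebraicGeometry Opposite TopologicalSpace

namespace Groth.Agent.BigSiteLib.DescSec

set_option backward.isDefEq.respectTransparency.types false

variable {X' X : Scheme.{u}} {f : X' ⟶ X} {F' : EtDesc.Sh X'}
  (φ : (EtDesc.pullSh (pullback.fst f f)).obj F' ≅ (EtDesc.pullSh (pullback.snd f f)).obj F')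

local notation "pb" => IsPullback.of_hasPullback f f

/-- A point of an etale object as an element of the fibre. -/
noncomputable def ptMk {S : Scheme.{u}} {Ω : Type u} [Field Ω] [IsSepClosed Ω] {U : S.Etale}
    {ξ : Spec (CommRingCat.of Ω) ⟶ S} (k : Spec (CommRingCat.of Ω) ⟶ U.left) (e : k ≫ U.hom = ξ) :
    (Scheme.pointSmallEtale ξ).fiber.obj U :=
  CategoryTheory.Over.homMk k e

theorem ptMk_left {S : Scheme.{u}} {Ω : Type u} [Field Ω] [IsSepClosed Ω] {U : S.Etale}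
    {ξ : Spec (CommRingCat.of Ω) ⟶ S} (t : (Scheme.pointSmallEtale ξ).fiber.obj U) :
    ptMk (t.left : Spec (CommRingCat.of Ω) ⟶ U.left) (CategoryTheory.Over.w t) = t := fib_ext rfl

/-- The datum sends the germ of `s` at `k` to the germ of `x` at `k'`. -/
def Rel {Ω : Type u} [Field Ω] [IsSepClosed Ω] {U U' : X'.Etale} (s : ToType (F'.obj.obj (op U)))
    (k : Spec (CommRingCat.of Ω) ⟶ U.left) (x : ToType (F'.obj.obj (op U'))) (k' : Spec (CommRingCat.of Ω) ⟶ U'.left) : Prop :=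
  ∃ h : (k ≫ U.hom) ≫ f = (k' ≫ U'.hom) ≫ f,
    Phi φ.hom pb (k ≫ U.hom) (k' ≫ U'.hom) h (germ F' _ U (ptMk k rfl) s) = germ F' _ U' (ptMk k' rfl) x

section rel

variable {Ω : Type u} [Field Ω] [IsSepClosed Ω] {U U' U'' : X'.Etale} {s : ToType (F'.obj.obj (op U))}
  {x : ToType (F'.obj.obj (op U'))} {y : ToType (F'.obj.obj (op U''))}
  {k : Spec (CommRingCat.of Ω) ⟶ U.left} {k' : Spec (CommRingCat.of Ω) ⟶ U'.left} {k'' : Spec (CommRingCat.of Ω) ⟶ U''.left}

theorem rel_iff {ξ₁ ξ₂ : Spec (CommRingCat.of Ω) ⟶ X'} (t : (Scheme.pointSmallEtale ξ₁).fiber.obj U)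
    (t' : (Scheme.pointSmallEtale ξ₂).fiber.obj U') (ht : (t.left : Spec (CommRingCat.of Ω) ⟶ U.left) = k)
    (ht' : (t'.left : Spec (CommRingCat.of Ω) ⟶ U'.left) = k') (h : ξ₁ ≫ f = ξ₂ ≫ f) :
    Rel φ s k x k' ↔ Phi φ.hom pb ξ₁ ξ₂ h (germ F' ξ₁ U t s) = germ F' ξ₂ U' t' x := by
  have e₁ : k ≫ U.hom = ξ₁ := by rw [← ht]; exact CategoryTheory.Over.w t
  have e₂ : k' ≫ U'.hom = ξ₂ := by rw [← ht']; exact CategoryTheory.Over.w t'
  rw [show t = ptMk k e₁ from fib_ext ht, show t' = ptMk k' e₂ from fib_ext ht']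
  clear ht ht' t t'
  subst e₁ e₂
  exact ⟨fun ⟨_, e⟩ => e, fun e => ⟨h, e⟩⟩

theorem rel_self (hφ : EtDesc.IsCocycle F' φ) {ξ : Spec (CommRingCat.of Ω) ⟶ X'} (t : (Scheme.pointSmallEtale ξ).fiber.obj U)
    (t' : (Scheme.pointSmallEtale ξ).fiber.obj U') (ht : (t.left : Spec (CommRingCat.of Ω) ⟶ U.left) = k)
    (ht' : (t'.left : Spec (CommRingCat.of Ω) ⟶ U'.left) = k') :
    Rel φ s k x k' ↔ germ F' ξ U t s = germ F' ξ U' t' x := by
  rw [rel_iff φ t t' ht ht' rfl, Phi_self f φ hφ]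

variable {φ}

theorem Rel.trans (hφ : EtDesc.IsCocycle F' φ) (h₁ : Rel φ s k x k') (h₂ : Rel φ x k' y k'') : Rel φ s k y k'' := by
  obtain ⟨a, e₁⟩ := h₁
  obtain ⟨b, e₂⟩ := h₂
  exact ⟨a.trans b, by rw [← Phi_trans f φ hφ _ _ _ a b, e₁, e₂]⟩

theorem Rel.symm (hφ : EtDesc.IsCocycle F' φ) (h : Rel φ s k x k') : Rel φ x k' s k := by
  obtain ⟨a, e⟩ := h
  exact ⟨a.symm, by rw [← e, Phi_trans f φ hφ, Phi_self f φ hφ]⟩

theorem rel_map_right {W : X'.Etale} (m : W ⟶ U') (l : Spec (CommRingCat.of Ω) ⟶ W.left) :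
    Rel φ s k (F'.obj.map m.op x) l ↔ Rel φ s k x (l ≫ m.left) := by
  have e : (l ≫ m.left) ≫ U'.hom = l ≫ W.hom := (Category.assoc _ _ _).trans (congrArg (l ≫ ·) (MorphismProperty.Over.w m))
  refine ⟨fun hr => ?_, fun hh => ?_⟩
  · obtain ⟨h, hh⟩ := hr
    refine (rel_iff φ (ptMk k rfl) (ptMk (l ≫ m.left) e) rfl rfl h).2 (hh.trans ?_)
    exact germ_map F' _ m (ptMk l rfl) x
  · obtain ⟨h, -⟩ := id hh
    have := (rel_iff φ (ptMk k rfl) (ptMk (l ≫ m.left) e) rfl rfl (h.trans (congrArg (· ≫ f) e))).1 hh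
    exact ⟨_, this.trans (germ_map F' _ m (ptMk l rfl) x).symm⟩

end rel

/-- A point through a given point. -/
theorem exists_geometric {S : Scheme.{u}} (z : S) :
    ∃ (Ω : Type u) (_ : Field Ω) (_ : IsAlgClosed Ω) (k : Spec (CommRingCat.of Ω) ⟶ S),
      k.base (default : Spec (CommRingCat.of Ω)) = z := by
  refine ⟨AlgebraicClosure (S.residueField z), inferInstance, inferInstance,
    Spec.map (CommRingCat.ofHom (algebraMap (S.residueField z) (AlgebraicClosure (S.residueField z)))) ≫ S.fromSpecResidueField z, ?_⟩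
  exact (Scheme.Hom.comp_apply _ _ _).trans (Scheme.fromSpecResidueField_apply z _)

theorem germ_eq_of_locEq' {S : Scheme.{u}} (G : EtDesc.Sh S) {U : S.Etale} {a a' : G.obj.obj (op U)} {z : U.left}
    (h : LocEq G.obj a a' z) {Ω : Type u} [Field Ω] [IsSepClosed Ω] (ξ : Spec (CommRingCat.of Ω) ⟶ S)
    (t : (Scheme.pointSmallEtale ξ).fiber.obj U)
    (hz : (t.left : Spec (CommRingCat.of Ω) ⟶ U.left).base (default : Spec (CommRingCat.of Ω)) = z) :
    germ G ξ U t a = germ G ξ U t a' := by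
  obtain ⟨W, k, ⟨w, hw⟩, e⟩ := h
  obtain ⟨t', ht', -⟩ := EtFound.exists_lift_point k t w (hw.trans hz.symm)
  rw [← ht']
  refine (germ_map G ξ k t' a).symm.trans ((congrArg (germ G ξ W t') e).trans (germ_map G ξ k t' a'))

variable (f) in
/-- The open locus where the datum identifies two sections. -/
theorem exists_relOpen {U U' : X'.Etale} (s : ToType (F'.obj.obj (op U))) (x : ToType (F'.obj.obj (op U')))
    {R : Scheme.{u}} (a : R ⟶ U.left) (b : R ⟶ U'.left) (h : (a ≫ U.hom) ≫ f = (b ≫ U'.hom) ≫ f) :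
    ∃ E : R.Opens, ∀ (Ω : Type u) [Field Ω] [IsSepClosed Ω] (τ : Spec (CommRingCat.of Ω) ⟶ R),
      τ.base (default : Spec (CommRingCat.of Ω)) ∈ E ↔ Rel φ s (τ ≫ a) x (τ ≫ b) := by
  let A₁ := (EtCoh.bc (pullback.fst f f)).obj U
  let A₂ := (EtCoh.bc (pullback.snd f f)).obj U'
  haveI : AlgebraicGeometry.Etale A₁.hom := A₁.prop
  haveI : AlgebraicGeometry.Etale A₂.hom := A₂.prop
  haveI : AlgebraicGeometry.Etale (pullback.fst A₁.hom A₂.hom) := MorphismProperty.pullback_fst _ _ inferInstance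
  let Q : (pullback f f).Etale := Scheme.Etale.mk (pullback.fst A₁.hom A₂.hom ≫ A₁.hom)
  let m₁ : Q ⟶ A₁ := MorphismProperty.Over.homMk (pullback.fst A₁.hom A₂.hom) rfl
  let m₂ : Q ⟶ A₂ := MorphismProperty.Over.homMk (pullback.snd A₁.hom A₂.hom) pullback.condition.symm
  let g : R ⟶ pullback f f := pullback.lift (a ≫ U.hom) (b ≫ U'.hom) h
  let l : R ⟶ Q.left := pullback.lift (pullback.lift a g (pullback.lift_fst _ _ _).symm : R ⟶ A₁.left)
    (pullback.lift b g (pullback.lift_snd _ _ _).symm : R ⟶ A₂.left) ((pullback.lift_snd _ _ _).trans (pullback.lift_snd _ _ _).symm)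
  let A : ((EtDesc.pullSh (pullback.snd f f)).obj F').obj.obj (op Q) :=
    φ.hom.hom.app (op Q) (((EtDesc.pullSh (pullback.fst f f)).obj F').obj.map m₁.op (up (pullback.fst f f) F' U s))
  let B : ((EtDesc.pullSh (pullback.snd f f)).obj F').obj.obj (op Q) :=
    ((EtDesc.pullSh (pullback.snd f f)).obj F').obj.map m₂.op (up (pullback.snd f f) F' U' x)
  refine ⟨⟨l ⁻¹' {z | LocEq ((EtDesc.pullSh (pullback.snd f f)).obj F').obj A B z},
    (isOpen_locEq A B).preimage l.continuous⟩, fun Ω _ _ τ => ?_⟩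
  let ζ := τ ≫ g
  let w : (Scheme.pointSmallEtale ζ).fiber.obj Q := ptMk (τ ≫ l) (by
    show (τ ≫ l) ≫ pullback.fst A₁.hom A₂.hom ≫ A₁.hom = τ ≫ g
    refine (Category.assoc _ _ _).trans (congrArg (τ ≫ ·) ?_)
    refine ((Category.assoc _ _ _).symm.trans (congrArg (· ≫ A₁.hom) (pullback.lift_fst _ _ _))).trans ?_
    exact pullback.lift_snd _ _ _)
  have e₁ : ζ ≫ pullback.fst f f = (τ ≫ a) ≫ U.hom := by simp only [ζ, g, Category.assoc, pullback.lift_fst]
  have e₂ : ζ ≫ pullback.snd f f = (τ ≫ b) ≫ U'.hom := by simp only [ζ, g, Category.assoc, pullback.lift_snd]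
  have hk₁ : ((EtFound.bcFiberEquiv (pullback.fst f f) ζ U ((Scheme.pointSmallEtale ζ).fiber.map m₁ w)).left :
      Spec (CommRingCat.of Ω) ⟶ U.left) = τ ≫ a := by
    rw [bcFiberEquiv_left]
    show ((τ ≫ l) ≫ pullback.fst A₁.hom A₂.hom) ≫ pullback.fst U.hom (pullback.fst f f) = τ ≫ a
    simp only [Category.assoc]
    erw [pullback.lift_fst_assoc, pullback.lift_fst]
  have hk₂ : ((EtFound.bcFiberEquiv (pullback.snd f f) ζ U' ((Scheme.pointSmallEtale ζ).fiber.map m₂ w)).left :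
      Spec (CommRingCat.of Ω) ⟶ U'.left) = τ ≫ b := by
    rw [bcFiberEquiv_left]
    show ((τ ≫ l) ≫ pullback.snd A₁.hom A₂.hom) ≫ pullback.fst U'.hom (pullback.snd f f) = τ ≫ b
    simp only [Category.assoc]
    erw [pullback.lift_snd_assoc, pullback.lift_fst]
  have hg : (ζ ≫ pullback.fst f f) ≫ f = (ζ ≫ pullback.snd f f) ≫ f := by simp only [Category.assoc, pullback.condition]
  have key : germ ((EtDesc.pullSh (pullback.snd f f)).obj F') ζ Q w A = germ ((EtDesc.pullSh (pullback.snd f f)).obj F') ζ Q w B ↔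
      Rel φ s (τ ≫ a) x (τ ≫ b) := by
    refine (germ_phi_iff φ.hom ζ m₁ m₂ w s x).trans ?_
    rw [rel_iff φ _ _ hk₁ hk₂ hg, Phi_eq φ.hom pb hg ζ rfl rfl, tr_rfl, tr_rfl]
  refine ⟨fun hE => key.1 (germ_eq_of_locEq' _ hE ζ w ?_), fun hR => locEq_of_germ ζ w (key.2 hR) _ ?_⟩
  · exact Scheme.Hom.comp_apply _ _ _
  · exact Scheme.Hom.comp_apply _ _ _

end Groth.Agent.BigSiteLib.DescSec
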