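import Groth.Agent.BigSiteLib.EtDescSec.Sub
import Groth.Prelude.Def_EtBCD
import Groth.Agent.EtFound.PushOutside

/-!
# Pullback of global sections and base change
-/

set_option autoImplicit false

universe u

open CategoryTheory CategoryTheory.Limits AlgebraicGeometry Opposite TopologicalSpace

namespace Groth.Agent.BigSiteLib.DescSec

set_option backward.isDefEq.respectTransparency.types false

variable {X Y Xb Yb : Scheme.{u}}

theorem map_terminal_eq {S : Scheme.{u}} (G : EtDesc.Sh S) {U U' : S.Etale} (hU : IsTerminal U) (m m' : U' ⟶ U)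
    (s : G.obj.obj (op U)) : G.obj.map m.op s = G.obj.map m'.op s := by rw [hU.hom_ext m m']

/-- Global sections of a direct image. -/
noncomputable def toPush (p : Xb ⟶ X) (G : EtDesc.Sh Xb) :
    G.obj.obj (op (EtCoh.top Xb)) ≃ ((EtDesc.pushSh p).obj G).obj.obj (op (EtCoh.top X)) where
  toFun s := G.obj.map (EtCore.bcTopIso p).hom.op s
  invFun s := G.obj.map (EtCore.bcTopIso p).inv.op s
  left_inv s := (mapF G.obj _ _ s).trans (map_top_self G _ s)
  right_inv s := by
    refine (mapF G.obj _ _ (show G.obj.obj (op ((EtCoh.bc p).obj (EtCoh.top X))) from s)).trans ?_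
    rw [Iso.hom_inv_id, op_id, CategoryTheory.Functor.map_id]
    rfl

theorem secPull_natural (h : Y ⟶ X) {A B : EtDesc.Sh X} (u : A ⟶ B) (s : A.obj.obj (op (EtCoh.top X))) :
    ((EtDesc.pullSh h).map u).hom.app (op (EtCoh.top Y)) (EtDesc.secPull h A s) =
      EtDesc.secPull h B (u.hom.app (op (EtCoh.top X)) s) :=
  (NatTrans.naturality_apply ((EtDesc.pullSh h).map u).hom (EtCore.bcTopIso h).inv.op _).trans
    (congrArg _ (up_natural h u (EtCoh.top X) s))

/-- Sections pulled back into the image locate the section in the image. -/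
theorem mem_range_of_secPull (h : Y ⟶ X) (hinj : ∀ F : EtDesc.Sh X, Function.Injective (EtDesc.secPull h F))
    {F G : EtDesc.Sh X} (u : F ⟶ G) [Mono u] (η : G.obj.obj (op (EtCoh.top X)))
    (ξ : ((EtDesc.pullSh h).obj F).obj.obj (op (EtCoh.top Y)))
    (hξ : ((EtDesc.pullSh h).map u).hom.app (op (EtCoh.top Y)) ξ = EtDesc.secPull h G η) :
    ∃ x, u.hom.app (op (EtCoh.top X)) x = η := by
  classical
  refine mem_range_of_locIn (injective_app_of_mono u) ?_
  let Z : Set X := {x | ¬ LocIn u η x}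
  let P : X.Etaleᵒᵖ ⥤ Type (u + 1) :=
    { obj := fun U => ULift.{u + 1} ({z : U.unop.left // U.unop.hom z ∈ Z} → Bool)
      map := fun {U V} i => TypeCat.ofHom fun a => ⟨fun z => a.down ⟨i.unop.left z.1, by
        rw [← Scheme.Hom.comp_apply, MorphismProperty.Over.w i.unop]; exact z.2⟩⟩
      map_id := fun U => by ext a; rfl
      map_comp := fun {U V W} i k => by ext a; rfl }
  have hP : Presieve.IsSheaf X.smallEtaleTopology P := fun U S hS x hx => by
    have hcov := (EtFound.mem_topology_iff _).1 hS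
    choose W k w hk hw using hcov
    refine ⟨⟨fun z => (x (k z.1) (hk z.1)).down ⟨w z.1, by
      have := hw z.1
      rw [← MorphismProperty.Over.w (k z.1), Scheme.Hom.comp_apply, this]; exact z.2⟩⟩, fun V m hm => ?_, fun t ht => ?_⟩
    · refine ULift.ext _ _ (funext fun z => ?_)
      obtain ⟨o, ho₁, ho₂⟩ := Scheme.exists_preimage_of_isPullback
        ((IsPullback.of_hasPullback m (k (m.left z.1))).map (Scheme.Etale.forget X ⋙ Over.forget X)) z.1 (w (m.left z.1)) (hw _).symm
      have e := congrArg ULift.down (hx (pullback.fst m (k (m.left z.1))) (pullback.snd m (k (m.left z.1))) hm (hk (m.left z.1)) pullback.condition)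
      have hoZ : (pullback m (k (m.left z.1))).hom o ∈ Z := by
        rw [← MorphismProperty.Over.w (pullback.fst m (k (m.left z.1))), Scheme.Hom.comp_apply]
        exact ho₁.symm ▸ z.2
      refine Eq.trans ?_ ((congrFun e ⟨o, hoZ⟩).symm.trans ?_)
      · exact congrArg (x (k (m.left z.1)) (hk _)).down (Subtype.ext ho₂.symm)
      · exact congrArg (x m hm).down (Subtype.ext ho₁)
    · refine ULift.ext _ _ (funext fun z => ?_)
      have hz : (W z.1).hom (w z.1) ∈ Z := by
        rw [← MorphismProperty.Over.w (k z.1), Scheme.Hom.comp_apply, hw z.1]; exact z.2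
      refine Eq.trans ?_ (congrFun (congrArg ULift.down (ht (k z.1) (hk z.1))) ⟨w z.1, hz⟩)
      exact congrArg t.down (Subtype.ext (hw z.1).symm)
  let PS : EtDesc.Sh X := ⟨P, (isSheaf_iff_isSheaf_of_type _ _).2 hP⟩
  have hlocY : ∀ z : ((EtCoh.bc h).obj (EtCoh.top X)).left, LocIn u η (pr h (EtCoh.top X) z) := fun z => by
    refine locIn_of_up h (A := F) ?_
    have e := congrArg (((EtDesc.pullSh h).obj G).obj.map (EtCore.bcTopIso h).hom.op) hξ
    rw [← NatTrans.naturality_apply] at e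
    have e' : ((EtDesc.pullSh h).obj G).obj.map (EtCore.bcTopIso h).hom.op (EtDesc.secPull h G η) = up h G _ η := by
      refine (mapF _ _ _ _).trans ?_
      rw [Iso.hom_inv_id, op_id, CategoryTheory.Functor.map_id]
      rfl
    rw [e'] at e
    exact e ▸ locIn_range _ z
  let Wo : (EtCoh.top X).left.Opens := ⟨{x | LocIn u η x}, isOpen_locIn η⟩
  have hPS : ∀ a b : ToType (PS.obj.obj (op (EtCoh.top X))), a = b := fun a b => by
    refine hinj PS ?_
    have hab : up h PS (EtCoh.top X) a = up h PS (EtCoh.top X) b := eq_of_locEq _ fun z => by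
      refine locEq_up h PS ?_
      let m := EtFound.restrictEtaleHom (EtCoh.top X) Wo
      refine ⟨_, m, ⟨⟨_, hlocY z⟩, rfl⟩, ?_⟩
      refine ULift.ext _ _ (funext fun y => ?_)
      exact absurd (Subtype.coe_prop y.1) (fun hy => y.2 hy)
    exact congrArg (fun t => ((EtDesc.pullSh h).obj PS).obj.map (EtCore.bcTopIso h).inv.op t) hab
  intro x
  by_contra hx
  have := congrArg ULift.down (hPS ⟨fun _ => true⟩ ⟨fun _ => false⟩)
  exact Bool.noConfusion (congrFun this ⟨x, hx⟩)

theorem baseChange_secPull (h : Y ⟶ X) (p : Xb ⟶ X) (hb : Yb ⟶ Xb) (pY : Yb ⟶ Y) (w : hb ≫ p = pY ≫ h)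
    (G : EtDesc.Sh Xb) (s : G.obj.obj (op (EtCoh.top Xb))) :
    (EtBC.baseChange0Sh p h pY hb w G).hom.app (op (EtCoh.top Y))
        (EtDesc.secPull h ((EtDesc.pushSh p).obj G) (toPush p G s)) =
      toPush pY ((EtDesc.pullSh hb).obj G) (EtDesc.secPull hb G s) := by
  let m := (EtDesc.pushSh p).map ((EtDesc.adjSh hb).unit.app G) ≫ (EtDesc.pushCompSh p hb).hom.app _ ≫
      (EtBC.pushCongrSh w).hom.app _ ≫ (EtDesc.pushCompSh h pY).inv.app _
  have hu : (EtBC.baseChange0Sh p h pY hb w G).hom.app (op ((EtCoh.bc h).obj (EtCoh.top X)))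
      (up h _ (EtCoh.top X) (toPush p G s)) = m.hom.app (op (EtCoh.top X)) (toPush p G s) := by
    have e : (EtDesc.adjSh h).homEquiv _ _ (EtBC.baseChange0Sh p h pY hb w G) = m := Equiv.apply_symm_apply _ _
    rw [Adjunction.homEquiv_unit] at e
    exact ConcreteCategory.congr_hom
      (congrArg (fun α : (EtDesc.pushSh p).obj G ⟶ (EtDesc.pushSh h).obj ((EtDesc.pushSh pY).obj ((EtDesc.pullSh hb).obj G)) =>
        α.hom.app (op (EtCoh.top X))) e) (toPush p G s)
  refine (NatTrans.naturality_apply (EtBC.baseChange0Sh p h pY hb w G).hom _ _).trans ?_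
  rw [hu]
  let H : EtDesc.Sh Yb := (EtDesc.pullSh hb).obj G
  have hup : up hb G ((EtCoh.bc p).obj (EtCoh.top X)) (toPush p G s) =
      H.obj.map ((EtCoh.bc hb).map (EtCore.bcTopIso p).hom).op (up hb G (EtCoh.top Xb) s) :=
    up_map hb G (EtCore.bcTopIso p).hom s
  have hsec : up hb G (EtCoh.top Xb) s = H.obj.map (EtCore.bcTopIso hb).hom.op (EtDesc.secPull hb G s) := by
    refine ((mapF H.obj _ _ _).trans ?_).symm
    rw [Iso.hom_inv_id, op_id, CategoryTheory.Functor.map_id]
    rfl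
  obtain ⟨c, hc⟩ : ∃ c : (EtCoh.bc pY).obj ((EtCoh.bc h).obj (EtCoh.top X)) ⟶ (EtCoh.bc hb).obj ((EtCoh.bc p).obj (EtCoh.top X)),
      m.hom.app (op (EtCoh.top X)) (toPush p G s) = H.obj.map c.op (up hb G ((EtCoh.bc p).obj (EtCoh.top X)) (toPush p G s)) := by
    refine ⟨(MorphismProperty.Over.pullbackComp (P := EtCoh.etaleMP) (Q := ⊤) pY h).inv.app (EtCoh.top X) ≫
      (MorphismProperty.Over.pullbackCongr (P := EtCoh.etaleMP) (Q := ⊤) w).inv.app (EtCoh.top X) ≫
      (MorphismProperty.Over.pullbackComp (P := EtCoh.etaleMP) (Q := ⊤) hb p).hom.app (EtCoh.top X), ?_⟩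
    refine Eq.trans ?_ ((congrArg (H.obj.map _) (mapF H.obj _ _ _)).trans (mapF H.obj _ _ _))
    rfl
  rw [hc, hup, hsec, mapF, mapF]
  show ((EtDesc.pullSh hb).obj G).obj.map ((EtCoh.bc pY).map (EtCore.bcTopIso h).inv).op _ = _
  rw [mapF]
  exact map_terminal_eq H (EtCore.topIsTerminal Yb) _ _ _

theorem injective_unit (p : Xb ⟶ X) (hp : Function.Surjective p.base) (F : EtDesc.Sh X) (U : X.Etale) :
    Function.Injective (((EtDesc.adjSh p).unit.app F).hom.app (op U)) := fun a b e => eq_of_locEq F fun u => by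
  haveI : Surjective p := ⟨hp⟩
  haveI : Surjective (pullback.fst U.hom p) := MorphismProperty.pullback_fst _ _ inferInstance
  obtain ⟨z, hz⟩ := (pullback.fst U.hom p).surjective u
  exact hz ▸ locEq_of_up p F (show LocEq ((EtDesc.pullSh p).obj F).obj (up p F U a) (up p F U b) z from
    (show up p F U a = up p F U b from e) ▸ LocEq.refl (P := ((EtDesc.pullSh p).obj F).obj) (up p F U a) z)

theorem mono_unit (p : Xb ⟶ X) (hp : Function.Surjective p.base) (F : EtDesc.Sh X) :
    Mono ((EtDesc.adjSh p).unit.app F) := by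
  haveI : Mono ((EtDesc.adjSh p).unit.app F).hom := @NatTrans.mono_of_mono_app _ _ _ _ _ _ _
    fun U => (mono_iff_injective _).2 (injective_unit p hp F U.unop)
  exact (sheafToPresheaf _ _).mono_of_mono_map this

theorem mem_range_secPull (h : Y ⟶ X) (hinj : ∀ F : EtDesc.Sh X, Function.Injective (EtDesc.secPull h F))
    {F G : EtDesc.Sh X} (u : F ⟶ G) [Mono u] (ξ : EtDesc.sect ((EtDesc.pullSh h).obj F) (EtCoh.top Y))
    (hξ : ((EtDesc.pullSh h).map u).hom.app (op (EtCoh.top Y)) ξ ∈ Set.range (EtDesc.secPull h G)) :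
    ξ ∈ Set.range (EtDesc.secPull h F) := by
  obtain ⟨η, hη⟩ := hξ
  obtain ⟨x, rfl⟩ := mem_range_of_secPull h hinj u η ξ hη.symm
  exact ⟨x, pull_map_injective h (injective_app_of_mono u) _ ((secPull_natural h u x).trans hη)⟩

theorem secPull_injective_baseChange (h : Y ⟶ X) (p : Xb ⟶ X) (hb : Yb ⟶ Xb) (pY : Yb ⟶ Y) (w : hb ≫ p = pY ≫ h)
    (hinj : ∀ F : EtDesc.Sh X, Function.Injective (EtDesc.secPull h F))
    (hm : ∀ G : EtDesc.Sh Xb, Mono (EtBC.baseChange0Sh p h pY hb w G)) (G : EtDesc.Sh Xb) :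
    Function.Injective (EtDesc.secPull hb G) := fun s t e => by
  haveI := hm G
  refine (toPush p G).injective (hinj _ ?_)
  refine injective_app_of_mono (EtBC.baseChange0Sh p h pY hb w G) _ ?_
  rw [baseChange_secPull, baseChange_secPull, e]

theorem secPull_bijective_baseChange (h : Y ⟶ X) (p : Xb ⟶ X) (hb : Yb ⟶ Xb) (pY : Yb ⟶ Y) (w : hb ≫ p = pY ≫ h)
    (hbij : ∀ F : EtDesc.Sh X, Function.Bijective (EtDesc.secPull h F))
    (hi : ∀ G : EtDesc.Sh Xb, IsIso (EtBC.baseChange0Sh p h pY hb w G)) (G : EtDesc.Sh Xb) :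
    Function.Bijective (EtDesc.secPull hb G) := by
  refine ⟨secPull_injective_baseChange h p hb pY w (fun F => (hbij F).1) (fun G => by haveI := hi G; infer_instance) G, fun y => ?_⟩
  haveI := hi G
  let β := EtBC.baseChange0Sh p h pY hb w G
  obtain ⟨η, hη⟩ := (hbij _).2 ((inv β).hom.app (op (EtCoh.top Y)) (toPush pY _ y))
  refine ⟨(toPush p G).symm η, (toPush pY _).injective ?_⟩
  rw [← baseChange_secPull h p hb pY w, Equiv.apply_symm_apply, hη]
  exact app_inv_apply (asIso β).symm _ _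

theorem secPull_injective_of_cover (h : Y ⟶ X) (p : Xb ⟶ X) (hb : Yb ⟶ Xb) (pY : Yb ⟶ Y) (w : hb ≫ p = pY ≫ h)
    (hp : Function.Surjective p.base) (hinj : ∀ G : EtDesc.Sh Xb, Function.Injective (EtDesc.secPull hb G)) (F : EtDesc.Sh X) :
    Function.Injective (EtDesc.secPull h F) := fun s t e => by
  refine injective_unit p hp F _ ((toPush p _).symm.injective (hinj _ ((toPush pY _).injective ?_)))
  rw [← baseChange_secPull h p hb pY w, ← baseChange_secPull h p hb pY w, Equiv.apply_symm_apply, Equiv.apply_symm_apply,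
    ← secPull_natural, ← secPull_natural]
  exact congrArg _ (congrArg _ e)

theorem secPull_bijective_of_cover (h : Y ⟶ X) (p : Xb ⟶ X) (hb : Yb ⟶ Xb) (pY : Yb ⟶ Y) (w : hb ≫ p = pY ≫ h)
    (hp : Function.Surjective p.base) (hbij : ∀ G : EtDesc.Sh Xb, Function.Bijective (EtDesc.secPull hb G))
    (hm : ∀ G : EtDesc.Sh Xb, Mono (EtBC.baseChange0Sh p h pY hb w G)) (F : EtDesc.Sh X) :
    Function.Bijective (EtDesc.secPull h F) := by
  have hinj : ∀ F : EtDesc.Sh X, Function.Injective (EtDesc.secPull h F) :=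
    secPull_injective_of_cover h p hb pY w hp fun G => (hbij G).1
  refine ⟨hinj F, fun y => ?_⟩
  let P := (EtDesc.pullSh p).obj F
  let ι : F ⟶ (EtDesc.pushSh p).obj P := (EtDesc.adjSh p).unit.app F
  haveI : Mono ι := mono_unit p hp F
  haveI := hm P
  let β := EtBC.baseChange0Sh p h pY hb w P
  obtain ⟨xb, hxb⟩ := (hbij P).2 ((toPush pY _).symm (β.hom.app _ (((EtDesc.pullSh h).map ι).hom.app (op (EtCoh.top Y)) y)))
  refine mem_range_secPull h hinj ι y ⟨toPush p P xb, injective_app_of_mono β _ ?_⟩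
  rw [baseChange_secPull, hxb, Equiv.apply_symm_apply]

end Groth.Agent.BigSiteLib.DescSec
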