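import Groth.Agent.BigSiteLib.EtDescSec.Rel

/-!
# Spreading a section along a universally submersive cover
-/

set_option autoImplicit false

universe u

open CategoryTheory CategoryTheory.Limits AlgebraicGeometry Opposite TopologicalSpace

namespace Groth.Agent.BigSiteLib.DescSec

set_option backward.isDefEq.respectTransparency.types false

variable {X' X : Scheme.{u}} {f : X' ⟶ X} {F' : EtDesc.Sh X'}
  (φ : (EtDesc.pullSh (pullback.fst f f)).obj F' ≅ (EtDesc.pullSh (pullback.snd f f)).obj F')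
  (hφ : EtDesc.IsCocycle F' φ) {V : X.Etale} {W : Scheme.{u}} (q : W ⟶ V.left) (hq : EtDesc.IsUnivSubmersive q)
  {U : X'.Etale} (s₀ : ToType (F'.obj.obj (op U))) (u : W ⟶ U.left) (w : (u ≫ U.hom) ≫ f = q ≫ V.hom)
  (hm : ∀ (Ω : Type u) [Field Ω] [IsSepClosed Ω] (ω₁ ω₂ : Spec (CommRingCat.of Ω) ⟶ W), ω₁ ≫ q = ω₂ ≫ q →
    Rel φ s₀ (ω₁ ≫ u) s₀ (ω₂ ≫ u))

local notation "pb" => IsPullback.of_hasPullback f f

include w in
theorem comp_eq {Ω : Type u} [Field Ω] (ω : Spec (CommRingCat.of Ω) ⟶ W)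
    (k : Spec (CommRingCat.of Ω) ⟶ ((EtCoh.bc f).obj V).left) (h : k ≫ pullback.fst V.hom f = ω ≫ q) :
    ((ω ≫ u) ≫ U.hom) ≫ f = (k ≫ ((EtCoh.bc f).obj V).hom) ≫ f := by
  have e : (k ≫ pullback.snd V.hom f) ≫ f = (k ≫ pullback.fst V.hom f) ≫ V.hom :=
    (Category.assoc _ _ _).trans ((congrArg (k ≫ ·) pullback.condition.symm).trans (Category.assoc _ _ _).symm)
  have e' : ((ω ≫ u) ≫ U.hom) ≫ f = (ω ≫ q) ≫ V.hom :=
    ((congrArg (· ≫ f) (Category.assoc _ _ _)).trans (Category.assoc _ _ _)).trans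
      ((congrArg (ω ≫ ·) w).trans (Category.assoc _ _ _).symm)
  exact e'.trans ((congrArg (· ≫ V.hom) h).symm.trans e.symm)

/-- `x` carries the transported germs on the whole of `Y'`. -/
def Carries {Y' : X'.Etale} (m : Y' ⟶ (EtCoh.bc f).obj V) (x : ToType (F'.obj.obj (op Y'))) : Prop :=
  ∀ (Ω : Type u) [Field Ω] [IsSepClosed Ω] (ω : Spec (CommRingCat.of Ω) ⟶ W) (l : Spec (CommRingCat.of Ω) ⟶ Y'.left),
    (l ≫ m.left) ≫ pullback.fst V.hom f = ω ≫ q → Rel φ s₀ (ω ≫ u) x l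

include hφ hq w hm in
theorem exists_carries (z : ((EtCoh.bc f).obj V).left) :
    ∃ (Y' : X'.Etale) (m : Y' ⟶ (EtCoh.bc f).obj V) (x : ToType (F'.obj.obj (op Y'))),
      z ∈ Set.range m.left ∧ Carries φ q s₀ u m x := by
  let Y := (EtCoh.bc f).obj V
  let g : Y.left ⟶ V.left := pullback.fst V.hom f
  obtain ⟨p, hp⟩ := (fst_surjective_isQuotientMap q hq g).1 z
  obtain ⟨Ω, _, _, τ, hτ⟩ := exists_geometric p
  let ω := τ ≫ pullback.snd g q
  let k : Spec (CommRingCat.of Ω) ⟶ Y.left := τ ≫ pullback.fst g q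
  have hk : k ≫ g = ω ≫ q := by simp only [k, ω, Category.assoc, pullback.condition]
  have hξ := comp_eq q u w ω k hk
  obtain ⟨U₁, t₁, x₁, hx₁⟩ := germ_surjective F' (k ≫ Y.hom)
    (Phi φ.hom pb ((ω ≫ u) ≫ U.hom) (k ≫ Y.hom) hξ (germ F' _ U (ptMk (ω ≫ u) rfl) s₀))
  haveI : AlgebraicGeometry.Etale U₁.hom := U₁.prop
  haveI : AlgebraicGeometry.Etale Y.hom := Y.prop
  haveI : AlgebraicGeometry.Etale (pullback.fst U₁.hom Y.hom) := MorphismProperty.pullback_fst _ _ inferInstance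
  let Y₀ : X'.Etale := Scheme.Etale.mk (pullback.fst U₁.hom Y.hom ≫ U₁.hom)
  let m₁ : Y₀ ⟶ U₁ := MorphismProperty.Over.homMk (pullback.fst U₁.hom Y.hom) rfl
  let m₂ : Y₀ ⟶ Y := MorphismProperty.Over.homMk (pullback.snd U₁.hom Y.hom) pullback.condition.symm
  let x₀ : ToType (F'.obj.obj (op Y₀)) := F'.obj.map m₁.op x₁
  let l₀ : Spec (CommRingCat.of Ω) ⟶ Y₀.left :=
    pullback.lift (t₁.left : Spec (CommRingCat.of Ω) ⟶ U₁.left) k (CategoryTheory.Over.w t₁)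
  have hl₁ : l₀ ≫ m₁.left = (t₁.left : Spec (CommRingCat.of Ω) ⟶ U₁.left) := pullback.lift_fst _ _ _
  have hl₂ : l₀ ≫ m₂.left = k := pullback.lift_snd _ _ _
  have hrel : Rel φ s₀ (ω ≫ u) x₀ l₀ :=
    (rel_map_right m₁ l₀).2 ((rel_iff φ (ptMk (ω ≫ u) rfl) t₁ rfl hl₁.symm hξ).2 hx₁.symm)
  let π : Y₀.left ⟶ V.left := m₂.left ≫ g
  let a : pullback π q ⟶ U.left := pullback.snd π q ≫ u
  let b : pullback π q ⟶ Y₀.left := pullback.fst π q
  obtain ⟨E, hE⟩ := exists_relOpen f φ s₀ x₀ a b (by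
    show ((pullback.snd π q ≫ u) ≫ U.hom) ≫ f = (b ≫ Y₀.hom) ≫ f
    rw [← MorphismProperty.Over.w m₂]
    simp only [Category.assoc] at w ⊢
    rw [w, ← pullback.condition_assoc]
    show b ≫ π ≫ V.hom = b ≫ m₂.left ≫ pullback.snd V.hom f ≫ f
    simp only [π, g, Category.assoc]
    exact congrArg (fun t => b ≫ m₂.left ≫ t) pullback.condition)
  have hsat : ∀ r₁ r₂ : ↥(pullback π q), b r₁ = b r₂ → r₁ ∈ E → r₂ ∈ E := by
    intro r₁ r₂ e h₁
    obtain ⟨o, ho₁, ho₂⟩ := Scheme.Pullback.exists_preimage_pullback (f := b) (g := b) r₁ r₂ e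
    obtain ⟨Ω', _, _, ρ, hρ⟩ := exists_geometric o
    have h1 : (ρ ≫ pullback.fst b b).base (default : Spec (CommRingCat.of Ω')) = r₁ :=
      (Scheme.Hom.comp_apply _ _ _).trans ((congrArg _ hρ).trans ho₁)
    have h2 : (ρ ≫ pullback.snd b b).base (default : Spec (CommRingCat.of Ω')) = r₂ :=
      (Scheme.Hom.comp_apply _ _ _).trans ((congrArg _ hρ).trans ho₂)
    have R₁ := (hE Ω' (ρ ≫ pullback.fst b b)).1 (h1.symm ▸ h₁)
    rw [← h2]
    refine (hE Ω' (ρ ≫ pullback.snd b b)).2 ?_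
    have eb : (ρ ≫ pullback.fst b b) ≫ b = (ρ ≫ pullback.snd b b) ≫ b := by simp only [Category.assoc, pullback.condition]
    have eq' : ((ρ ≫ pullback.snd b b) ≫ pullback.snd π q) ≫ q = ((ρ ≫ pullback.fst b b) ≫ pullback.snd π q) ≫ q := by
      rw [Category.assoc _ (pullback.snd π q) q, Category.assoc _ (pullback.snd π q) q, ← pullback.condition]
      exact ((Category.assoc _ _ _).symm.trans (congrArg (· ≫ π) eb.symm)).trans (Category.assoc _ _ _)
    have R₂ : Rel φ s₀ ((ρ ≫ pullback.snd b b) ≫ a) s₀ ((ρ ≫ pullback.fst b b) ≫ a) := by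
      simp only [a, ← Category.assoc]
      exact hm Ω' _ _ eq'
    have := R₂.trans hφ R₁
    rwa [eb] at this
  have hpre : b ⁻¹' (b '' (E : Set ↥(pullback π q))) = E := Set.ext fun r =>
    ⟨fun ⟨r', h', e⟩ => hsat r' r e h', fun h => ⟨r, h, rfl⟩⟩
  let N : Y₀.left.Opens := ⟨b '' E, (fst_surjective_isQuotientMap q hq π).2.isOpen_preimage.1 (by
    show IsOpen (b ⁻¹' (b '' (E : Set ↥(pullback π q))))
    rw [hpre]; exact E.2)⟩
  have hlN : l₀.base (default : Spec (CommRingCat.of Ω)) ∈ N := by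
    let r₀ : Spec (CommRingCat.of Ω) ⟶ pullback π q := pullback.lift l₀ ω (by rw [← hk, ← hl₂, Category.assoc])
    refine ⟨r₀.base default, (hE Ω r₀).2 ?_, (Scheme.Hom.comp_apply _ _ _).symm.trans
      (congrArg (fun j : Spec (CommRingCat.of Ω) ⟶ Y₀.left => j.base default) (pullback.lift_fst _ _ _))⟩
    have : r₀ ≫ a = ω ≫ u := (Category.assoc _ _ _).symm.trans (congrArg (· ≫ u) (pullback.lift_snd _ _ _))
    rw [this, show r₀ ≫ b = l₀ from pullback.lift_fst _ _ _]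
    exact hrel
  let Y' := EtFound.restrictEtale Y₀ N
  let ι := EtFound.restrictEtaleHom Y₀ N
  refine ⟨Y', ι ≫ m₂, F'.obj.map ι.op x₀, ⟨⟨_, hlN⟩, ?_⟩, fun Ω' _ _ ω' l hl => (rel_map_right ι l).2 ?_⟩
  · show (N.ι ≫ m₂.left).base _ = z
    refine (Scheme.Hom.comp_apply _ _ _).trans ?_
    refine ((Scheme.Hom.comp_apply _ _ _).symm.trans (congrArg (fun j : Spec (CommRingCat.of Ω) ⟶ Y.left => j.base default) hl₂)).trans ?_
    exact (Scheme.Hom.comp_apply _ _ _).trans ((congrArg _ hτ).trans hp)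
  · let r : Spec (CommRingCat.of Ω') ⟶ pullback π q := pullback.lift (l ≫ N.ι) ω' (Eq.trans (by
      show (l ≫ N.ι) ≫ m₂.left ≫ g = (l ≫ (N.ι ≫ m₂.left)) ≫ g
      simp only [Category.assoc]) hl)
    have hr₁ : r ≫ b = l ≫ N.ι := pullback.lift_fst _ _ _
    have hr₂ : r ≫ a = ω' ≫ u := (Category.assoc _ _ _).symm.trans (congrArg (· ≫ u) (pullback.lift_snd _ _ _))
    obtain ⟨r', hr', e⟩ : b (r.base default) ∈ b '' (E : Set ↥(pullback π q)) := by
      rw [← Scheme.Hom.comp_apply, hr₁, Scheme.Hom.comp_apply]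
      exact Subtype.coe_prop (l.base default)
    have h' := (hE Ω' r).1 (hsat r' _ e hr')
    rw [hr₂, hr₁] at h'
    exact h'

include hφ hq w hm in
/-- The transported germs form a section. -/
theorem exists_spread :
    ∃ s : ToType (F'.obj.obj (op ((EtCoh.bc f).obj V))), ∀ (Ω : Type u) [Field Ω] [IsSepClosed Ω]
      (ω : Spec (CommRingCat.of Ω) ⟶ W) (k : Spec (CommRingCat.of Ω) ⟶ ((EtCoh.bc f).obj V).left),
      k ≫ pullback.fst V.hom f = ω ≫ q → Rel φ s₀ (ω ≫ u) s k := by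
  choose Y' m x hz hx using exists_carries φ hφ q hq s₀ u w hm
  let g : ((EtCoh.bc f).obj V).left ⟶ V.left := pullback.fst V.hom f
  have hcomp : ∀ i j (Z : X'.Etale) (a : Z ⟶ Y' i) (b : Z ⟶ Y' j), a ≫ m i = b ≫ m j →
      F'.obj.map a.op (x i) = F'.obj.map b.op (x j) := fun i j Z a b e => by
    refine eq_of_locEq F' fun z => ?_
    obtain ⟨p, hp⟩ := (fst_surjective_isQuotientMap q hq ((a ≫ m i).left ≫ g)).1 z
    obtain ⟨Ω, _, _, τ, hτ⟩ := exists_geometric p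
    let k : Spec (CommRingCat.of Ω) ⟶ Z.left := τ ≫ pullback.fst ((a ≫ m i).left ≫ g) q
    have hi : (k ≫ (a ≫ m i).left) ≫ g = (τ ≫ pullback.snd ((a ≫ m i).left ≫ g) q) ≫ q := by
      simp only [k, Category.assoc, pullback.condition]
    have R₁ := hx i Ω _ (k ≫ a.left) (Eq.trans (by
      show ((k ≫ a.left) ≫ (m i).left) ≫ g = (k ≫ (a.left ≫ (m i).left)) ≫ g
      simp only [Category.assoc]) hi)
    have R₂ := hx j Ω _ (k ≫ b.left) (Eq.trans (by
      show ((k ≫ b.left) ≫ (m j).left) ≫ g = (k ≫ (a ≫ m i).left) ≫ g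
      rw [e]
      show ((k ≫ b.left) ≫ (m j).left) ≫ g = (k ≫ (b.left ≫ (m j).left)) ≫ g
      simp only [Category.assoc]) hi)
    have R₃ := ((rel_map_right a k).2 R₁).symm hφ |>.trans hφ ((rel_map_right b k).2 R₂)
    exact locEq_of_germ (k ≫ Z.hom) (ptMk k rfl) ((rel_self φ hφ (ptMk k rfl) (ptMk k rfl) rfl rfl).1 R₃) z
      ((Scheme.Hom.comp_apply _ _ _).trans ((congrArg _ hτ).trans hp))
  have hcov : Sieve.generate (Presieve.ofArrows Y' m) ∈ X'.smallEtaleTopology ((EtCoh.bc f).obj V) := by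
    rw [EtFound.mem_topology_iff]
    intro z
    obtain ⟨y, hy⟩ := hz z
    exact ⟨Y' z, m z, y, ⟨Y' z, 𝟙 _, m z, ⟨z⟩, Category.id_comp _⟩, hy⟩
  obtain ⟨s, hs, -⟩ := (Presieve.isSheafFor_arrows_iff _ _).1 ((Presieve.isSheafFor_iff_generate _).2
    (((isSheaf_iff_isSheaf_of_type _ _).1 F'.property) _ hcov)) x hcomp
  refine ⟨s, fun Ω _ _ ω k hk => ?_⟩
  obtain ⟨y, hy⟩ := hz (k.base (default : Spec (CommRingCat.of Ω)))
  obtain ⟨l, hl, -⟩ := EtFound.exists_lift_point (m (k.base default)) (ptMk k rfl) y hy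
  have hl' : (l.left : Spec (CommRingCat.of Ω) ⟶ (Y' (k.base default)).left) ≫ (m (k.base default)).left = k :=
    congrArg (fun t : (Scheme.pointSmallEtale (k ≫ ((EtCoh.bc f).obj V).hom)).fiber.obj _ => (t.left : Spec (CommRingCat.of Ω) ⟶ _)) hl
  have R := hx _ Ω ω l.left (hl'.symm ▸ hk)
  rw [← hs (k.base default), rel_map_right] at R
  exact (congrArg (fun j => Rel φ s₀ (ω ≫ u) s j) hl').mp R

end Groth.Agent.BigSiteLib.DescSec
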