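import Groth.Agent.BigSiteLib.EtDescSec.LocIn

/-!
# Descent data on geometric stalks
-/

set_option autoImplicit false

universe u

open CategoryTheory CategoryTheory.Limits AlgebraicGeometry Opposite TopologicalSpace

namespace Groth.Agent.BigSiteLib.DescSec

set_option backward.isDefEq.respectTransparency.types false

variable {Ω : Type u} [Field Ω] [IsSepClosed Ω] {X S T : Scheme.{u}}

/-- The stalk at a geometric point. -/
abbrev St (G : EtDesc.Sh X) (ξ : Spec (CommRingCat.of Ω) ⟶ X) : Type (u + 1) :=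
  (Scheme.pointSmallEtale ξ).presheafFiber.obj G.obj

/-- The germ of a section. -/
noncomputable abbrev germ (G : EtDesc.Sh X) (ξ : Spec (CommRingCat.of Ω) ⟶ X) (U : X.Etale)
    (t : (Scheme.pointSmallEtale ξ).fiber.obj U) (s : ToType (G.obj.obj (op U))) : St G ξ :=
  (Scheme.pointSmallEtale ξ).toPresheafFiber U t G.obj s

theorem germ_map (G : EtDesc.Sh X) (ξ : Spec (CommRingCat.of Ω) ⟶ X) {U V : X.Etale} (m : V ⟶ U)
    (t : (Scheme.pointSmallEtale ξ).fiber.obj V) (s : ToType (G.obj.obj (op U))) :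
    germ G ξ V t (G.obj.map m.op s) = germ G ξ U ((Scheme.pointSmallEtale ξ).fiber.map m t) s :=
  (Scheme.pointSmallEtale ξ).toPresheafFiber_w_apply m t G.obj s

theorem germ_surjective (G : EtDesc.Sh X) (ξ : Spec (CommRingCat.of Ω) ⟶ X) (c : St G ξ) :
    ∃ (U : X.Etale) (t : (Scheme.pointSmallEtale ξ).fiber.obj U) (s : ToType (G.obj.obj (op U))), germ G ξ U t s = c :=
  (Scheme.pointSmallEtale ξ).toPresheafFiber_jointly_surjective (P := G.obj) c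

/-- Transport of geometric points of an etale scheme along an equality. -/
noncomputable def trPt {ξ ξ' : Spec (CommRingCat.of Ω) ⟶ X} (h : ξ = ξ') {U : X.Etale}
    (t : (Scheme.pointSmallEtale ξ).fiber.obj U) : (Scheme.pointSmallEtale ξ').fiber.obj U :=
  Over.homMk (t.left : Spec (CommRingCat.of Ω) ⟶ U.left) ((Over.w t).trans h)

theorem trPt_rfl {ξ : Spec (CommRingCat.of Ω) ⟶ X} {U : X.Etale} (t : (Scheme.pointSmallEtale ξ).fiber.obj U) :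
    trPt rfl t = t := Over.OverMorphism.ext rfl

theorem fib_ext {ξ : Spec (CommRingCat.of Ω) ⟶ X} {U : X.Etale} {t t' : (Scheme.pointSmallEtale ξ).fiber.obj U}
    (h : (t.left : Spec (CommRingCat.of Ω) ⟶ U.left) = t'.left) : t = t' := Over.OverMorphism.ext h

/-- Transport of stalks along an equality of points. -/
def tr (G : EtDesc.Sh X) {ξ ξ' : Spec (CommRingCat.of Ω) ⟶ X} (h : ξ = ξ') (c : St G ξ) : St G ξ' := h ▸ c

theorem tr_rfl (G : EtDesc.Sh X) {ξ : Spec (CommRingCat.of Ω) ⟶ X} (c : St G ξ) : tr G rfl c = c := rfl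

theorem tr_tr (G : EtDesc.Sh X) {ξ ξ' ξ'' : Spec (CommRingCat.of Ω) ⟶ X} (h : ξ = ξ') (h' : ξ' = ξ'') (c : St G ξ) :
    tr G h' (tr G h c) = tr G (h.trans h') c := by
  subst h h'
  rfl

theorem tr_germ (G : EtDesc.Sh X) {ξ ξ' : Spec (CommRingCat.of Ω) ⟶ X} (h : ξ = ξ') (U : X.Etale)
    (t : (Scheme.pointSmallEtale ξ).fiber.obj U) (t' : (Scheme.pointSmallEtale ξ').fiber.obj U)
    (ht : (t.left : Spec (CommRingCat.of Ω) ⟶ U.left) = t'.left) (s : ToType (G.obj.obj (op U))) :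
    tr G h (germ G ξ U t s) = germ G ξ' U t' s := by
  subst h
  rw [fib_ext ht]
  rfl

/-- The stalk of an inverse image. -/
noncomputable def stI (g : T ⟶ S) (τ : Spec (CommRingCat.of Ω) ⟶ T) (G : EtDesc.Sh S) :
    St ((EtDesc.pullSh g).obj G) τ ≃ St G (τ ≫ g) where
  toFun c := (EtFound.sheafFiberPullIso g τ).hom.app G c
  invFun c := (EtFound.sheafFiberPullIso g τ).inv.app G c
  left_inv c := iso_hom_inv_apply ((EtFound.sheafFiberPullIso g τ).app G) c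
  right_inv c := iso_hom_inv_apply ((EtFound.sheafFiberPullIso g τ).app G).symm c

theorem stI_germ (g : T ⟶ S) (τ : Spec (CommRingCat.of Ω) ⟶ T) (G : EtDesc.Sh S) (U : S.Etale)
    (t : (Scheme.pointSmallEtale τ).fiber.obj ((EtCoh.bc g).obj U)) (s : ToType (G.obj.obj (op U))) :
    stI g τ G (germ ((EtDesc.pullSh g).obj G) τ ((EtCoh.bc g).obj U) t (up g G U s)) =
      germ G (τ ≫ g) U (EtFound.bcFiberEquiv g τ U t) s :=
  germ_iso_up g τ U t s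

theorem stI_natural (g : T ⟶ S) (τ : Spec (CommRingCat.of Ω) ⟶ T) {A B : EtDesc.Sh S} (a : A ⟶ B)
    (c : St ((EtDesc.pullSh g).obj A) τ) :
    stI g τ B ((Scheme.pointSmallEtale τ).presheafFiber.map ((EtDesc.pullSh g).map a).hom c) =
      (Scheme.pointSmallEtale (τ ≫ g)).presheafFiber.map a.hom (stI g τ A c) :=
  germ_map_pull g τ c

attribute [irreducible] stI

theorem germ_natural {A B : EtDesc.Sh X} (a : A ⟶ B) (ξ : Spec (CommRingCat.of Ω) ⟶ X) (U : X.Etale)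
    (t : (Scheme.pointSmallEtale ξ).fiber.obj U) (s : ToType (A.obj.obj (op U))) :
    (Scheme.pointSmallEtale ξ).presheafFiber.map a.hom (germ A ξ U t s) = germ B ξ U t (a.hom.app (op U) s) :=
  (Scheme.pointSmallEtale ξ).toPresheafFiber_naturality_apply a.hom U t s

theorem bcFiberEquiv_left (g : T ⟶ S) (τ : Spec (CommRingCat.of Ω) ⟶ T) (U : S.Etale)
    (t : (Scheme.pointSmallEtale τ).fiber.obj ((EtCoh.bc g).obj U)) :
    ((EtFound.bcFiberEquiv g τ U t).left : Spec (CommRingCat.of Ω) ⟶ U.left) =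
      (t.left : Spec (CommRingCat.of Ω) ⟶ pullback U.hom g) ≫ pullback.fst U.hom g := rfl

theorem bcFiberEquiv_symm_left (g : T ⟶ S) (τ : Spec (CommRingCat.of Ω) ⟶ T) (U : S.Etale)
    (v : (Scheme.pointSmallEtale (τ ≫ g)).fiber.obj U) :
    (((EtFound.bcFiberEquiv g τ U).symm v).left : Spec (CommRingCat.of Ω) ⟶ pullback U.hom g) ≫ pullback.fst U.hom g =
      v.left := pullback.lift_fst _ _ _

theorem via_stalk (g : T ⟶ S) (a : S ⟶ X) (b : T ⟶ X) (w : g ≫ a = b) (F : EtDesc.Sh X)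
    (τ : Spec (CommRingCat.of Ω) ⟶ T) (h : (τ ≫ g) ≫ a = τ ≫ b)
    (x : St ((EtDesc.pullSh g).obj ((EtDesc.pullSh a).obj F)) τ) :
    stI b τ F ((Scheme.pointSmallEtale τ).presheafFiber.map (EtDesc.pullVia g a b w F).hom.hom x) =
      tr F h (stI a (τ ≫ g) F (stI g τ ((EtDesc.pullSh a).obj F) x)) := by
  obtain ⟨y, rfl⟩ := (stI g τ ((EtDesc.pullSh a).obj F)).symm.surjective x
  obtain ⟨y, rfl⟩ := (stI a (τ ≫ g) F).symm.surjective y
  obtain ⟨V, v, s, rfl⟩ := germ_surjective F ((τ ≫ g) ≫ a) y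
  rw [Equiv.apply_symm_apply, Equiv.apply_symm_apply]
  let v' : (Scheme.pointSmallEtale (τ ≫ b)).fiber.obj V := trPt h v
  let t := (EtFound.bcFiberEquiv b τ V).symm v'
  let t₁ := (Scheme.pointSmallEtale τ).fiber.map (viaC g a b w V) t
  have hl : ((EtFound.bcFiberEquiv a (τ ≫ g) V (EtFound.bcFiberEquiv g τ _ t₁)).left : Spec (CommRingCat.of Ω) ⟶ V.left) = v.left := by
    rw [bcFiberEquiv_left, bcFiberEquiv_left]
    show (((t.left : Spec (CommRingCat.of Ω) ⟶ ((EtCoh.bc b).obj V).left) ≫ (viaC g a b w V).left) ≫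
      pullback.fst ((EtCoh.bc a).obj V).hom g) ≫ pullback.fst V.hom a = v.left
    refine (Category.assoc _ _ _).trans ((Category.assoc _ _ _).trans ?_)
    refine (congrArg (_ ≫ ·) ((Category.assoc _ _ _).symm.trans (viaC_left g a b w V).1)).trans ?_
    exact bcFiberEquiv_symm_left b τ V v'
  have hx : (stI g τ ((EtDesc.pullSh a).obj F)).symm ((stI a (τ ≫ g) F).symm (germ F ((τ ≫ g) ≫ a) V v s)) =
      germ ((EtDesc.pullSh g).obj ((EtDesc.pullSh a).obj F)) τ ((EtCoh.bc b).obj V) t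
        (((EtDesc.pullSh g).obj ((EtDesc.pullSh a).obj F)).obj.map (viaC g a b w V).op
          (up g ((EtDesc.pullSh a).obj F) _ (up a F V s))) := by
    rw [Equiv.symm_apply_eq, Equiv.symm_apply_eq, germ_map, stI_germ, stI_germ, fib_ext hl]
  rw [hx, germ_natural, unit_viaC, stI_germ]
  refine (tr_germ F h V v _ ?_ s).symm
  rw [Equiv.apply_symm_apply]
  rfl


theorem map_comp_apply' {A B C : EtDesc.Sh X} (α : A ⟶ B) (β : B ⟶ C) (ξ : Spec (CommRingCat.of Ω) ⟶ X) (c : St A ξ) :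
    (Scheme.pointSmallEtale ξ).presheafFiber.map (α ≫ β).hom c =
      (Scheme.pointSmallEtale ξ).presheafFiber.map β.hom ((Scheme.pointSmallEtale ξ).presheafFiber.map α.hom c) := by
  show (Scheme.pointSmallEtale ξ).presheafFiber.map (α.hom ≫ β.hom) c = _
  rw [Functor.map_comp]
  rfl

theorem map_inv_hom_apply {A B : EtDesc.Sh X} (α : A ≅ B) (ξ : Spec (CommRingCat.of Ω) ⟶ X) (c : St B ξ) :
    (Scheme.pointSmallEtale ξ).presheafFiber.map α.hom.hom ((Scheme.pointSmallEtale ξ).presheafFiber.map α.inv.hom c) = c := by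
  rw [← map_comp_apply', Iso.inv_hom_id]
  show (Scheme.pointSmallEtale ξ).presheafFiber.map (𝟙 B.obj) c = c
  rw [CategoryTheory.Functor.map_id]
  rfl

section datum

variable {X' : Scheme.{u}} {f : X' ⟶ X} {p₁ p₂ : T ⟶ X'} {F' : EtDesc.Sh X'}
  (φ : (EtDesc.pullSh p₁).obj F' ⟶ (EtDesc.pullSh p₂).obj F')

/-- The descent datum at a point of the double product. -/
noncomputable def phiSt (ζ : Spec (CommRingCat.of Ω) ⟶ T) (c : St F' (ζ ≫ p₁)) : St F' (ζ ≫ p₂) :=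
  stI p₂ ζ F' ((Scheme.pointSmallEtale ζ).presheafFiber.map φ.hom ((stI p₁ ζ F').symm c))

theorem germ_phi_iff (ζ : Spec (CommRingCat.of Ω) ⟶ T) {U₁ U₂ : X'.Etale} {W : T.Etale}
    (m₁ : W ⟶ (EtCoh.bc p₁).obj U₁) (m₂ : W ⟶ (EtCoh.bc p₂).obj U₂) (w : (Scheme.pointSmallEtale ζ).fiber.obj W)
    (s : ToType (F'.obj.obj (op U₁))) (s' : ToType (F'.obj.obj (op U₂))) :
    germ ((EtDesc.pullSh p₂).obj F') ζ W w
        (φ.hom.app (op W) (((EtDesc.pullSh p₁).obj F').obj.map m₁.op (up p₁ F' U₁ s))) =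
      germ ((EtDesc.pullSh p₂).obj F') ζ W w (((EtDesc.pullSh p₂).obj F').obj.map m₂.op (up p₂ F' U₂ s')) ↔
    phiSt φ ζ (germ F' (ζ ≫ p₁) U₁ (EtFound.bcFiberEquiv p₁ ζ U₁ ((Scheme.pointSmallEtale ζ).fiber.map m₁ w)) s) =
      germ F' (ζ ≫ p₂) U₂ (EtFound.bcFiberEquiv p₂ ζ U₂ ((Scheme.pointSmallEtale ζ).fiber.map m₂ w)) s' := by
  rw [phiSt, ← stI_germ, ← stI_germ, Equiv.symm_apply_apply, ← germ_map, ← germ_map, germ_natural]
  exact (stI p₂ ζ F').injective.eq_iff.symm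

/-- The descent datum between two points with the same image. -/
noncomputable def Phi (hP : IsPullback p₁ p₂ f f) (ξ₁ ξ₂ : Spec (CommRingCat.of Ω) ⟶ X') (h : ξ₁ ≫ f = ξ₂ ≫ f)
    (c : St F' ξ₁) : St F' ξ₂ :=
  tr F' (hP.lift_snd ξ₁ ξ₂ h) (phiSt φ (hP.lift ξ₁ ξ₂ h) (tr F' (hP.lift_fst ξ₁ ξ₂ h).symm c))

theorem Phi_eq (hP : IsPullback p₁ p₂ f f) {ξ₁ ξ₂ : Spec (CommRingCat.of Ω) ⟶ X'} (h : ξ₁ ≫ f = ξ₂ ≫ f)
    (ζ : Spec (CommRingCat.of Ω) ⟶ T) (h₁ : ζ ≫ p₁ = ξ₁) (h₂ : ζ ≫ p₂ = ξ₂) (c : St F' ξ₁) :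
    Phi φ hP ξ₁ ξ₂ h c = tr F' h₂ (phiSt φ ζ (tr F' h₁.symm c)) := by
  obtain rfl : ζ = hP.lift ξ₁ ξ₂ h := hP.hom_ext (h₁.trans (hP.lift_fst _ _ _).symm) (h₂.trans (hP.lift_snd _ _ _).symm)
  rfl

theorem phiSt_bijective [IsIso φ] (ζ : Spec (CommRingCat.of Ω) ⟶ T) : Function.Bijective (phiSt φ ζ) := by
  haveI : IsIso φ.hom := inferInstanceAs (IsIso ((sheafToPresheaf _ _).map φ))
  have h : Function.Bijective ((Scheme.pointSmallEtale ζ).presheafFiber.map φ.hom) :=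
    (ConcreteCategory.isIso_iff_bijective ((Scheme.pointSmallEtale ζ).presheafFiber.map φ.hom)).1 inferInstance
  exact ((stI p₂ ζ F').bijective.comp h).comp (stI p₁ ζ F').symm.bijective

end datum

theorem pullIso_stalk {T₃ X' : Scheme.{u}} {p₁ p₂ : T ⟶ X'} {F' : EtDesc.Sh X'}
    (φ : (EtDesc.pullSh p₁).obj F' ≅ (EtDesc.pullSh p₂).obj F') (g : T₃ ⟶ T) (b₁ b₂ : T₃ ⟶ X')
    (w₁ : g ≫ p₁ = b₁) (w₂ : g ≫ p₂ = b₂) (τ : Spec (CommRingCat.of Ω) ⟶ T₃)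
    (h₁ : (τ ≫ g) ≫ p₁ = τ ≫ b₁) (h₂ : (τ ≫ g) ≫ p₂ = τ ≫ b₂) (c : St F' (τ ≫ b₁)) :
    stI b₂ τ F' ((Scheme.pointSmallEtale τ).presheafFiber.map
        ((EtDesc.pullVia g p₁ b₁ w₁ F').symm ≪≫ (EtDesc.pullSh g).mapIso φ ≪≫ EtDesc.pullVia g p₂ b₂ w₂ F').hom.hom
        ((stI b₁ τ F').symm c)) =
      tr F' h₂ (phiSt φ.hom (τ ≫ g) (tr F' h₁.symm c)) := by
  obtain ⟨x, hx⟩ : ∃ x, x = (Scheme.pointSmallEtale τ).presheafFiber.map (EtDesc.pullVia g p₁ b₁ w₁ F').inv.hom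
      ((stI b₁ τ F').symm c) := ⟨_, rfl⟩
  have hc : c = tr F' h₁ (stI p₁ (τ ≫ g) F' (stI g τ ((EtDesc.pullSh p₁).obj F') x)) := by
    rw [← via_stalk g p₁ b₁ w₁ F' τ h₁, hx, map_inv_hom_apply, Equiv.apply_symm_apply]
  simp only [Iso.trans_hom, Iso.symm_hom, Functor.mapIso_hom, map_comp_apply']
  rw [← hx, via_stalk g p₂ b₂ w₂ F' τ h₂, stI_natural, hc, tr_tr, tr_rfl, phiSt, Equiv.symm_apply_apply]

theorem Phi_trans {X' : Scheme.{u}} (f : X' ⟶ X) {F' : EtDesc.Sh X'}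
    (φ : (EtDesc.pullSh (pullback.fst f f)).obj F' ≅ (EtDesc.pullSh (pullback.snd f f)).obj F')
    (hφ : EtDesc.IsCocycle F' φ) (ξ₁ ξ₂ ξ₃ : Spec (CommRingCat.of Ω) ⟶ X') (h₁₂ : ξ₁ ≫ f = ξ₂ ≫ f)
    (h₂₃ : ξ₂ ≫ f = ξ₃ ≫ f) (c : St F' ξ₁) :
    Phi φ.hom (IsPullback.of_hasPullback f f) ξ₂ ξ₃ h₂₃ (Phi φ.hom (IsPullback.of_hasPullback f f) ξ₁ ξ₂ h₁₂ c) =
      Phi φ.hom (IsPullback.of_hasPullback f f) ξ₁ ξ₃ (h₁₂.trans h₂₃) c := by
  let hP := IsPullback.of_hasPullback f f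
  let τ : Spec (CommRingCat.of Ω) ⟶ EtDesc.X3 f := pullback.lift (hP.lift ξ₁ ξ₂ h₁₂) (hP.lift ξ₂ ξ₃ h₂₃)
    ((hP.lift_snd _ _ _).trans (hP.lift_fst _ _ _).symm)
  have e1 : τ ≫ EtDesc.q1 (f := f) = ξ₁ :=
    (Category.assoc _ _ _).symm.trans ((congrArg (· ≫ pullback.fst f f) (pullback.lift_fst _ _ _)).trans (hP.lift_fst _ _ _))
  have e2 : τ ≫ EtDesc.q2 (f := f) = ξ₂ :=
    (Category.assoc _ _ _).symm.trans ((congrArg (· ≫ pullback.snd f f) (pullback.lift_fst _ _ _)).trans (hP.lift_snd _ _ _))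
  have e3 : τ ≫ EtDesc.q3 (f := f) = ξ₃ :=
    (Category.assoc _ _ _).symm.trans ((congrArg (· ≫ pullback.snd f f) (pullback.lift_snd _ _ _)).trans (hP.lift_snd _ _ _))
  obtain ⟨d, rfl⟩ : ∃ d, tr F' e1 d = c := ⟨tr F' e1.symm c, by rw [tr_tr]; rfl⟩
  have k12 : ∀ h d, tr F' e2 (stI _ τ F' ((Scheme.pointSmallEtale τ).presheafFiber.map
      (EtDesc.pullIsoVia (EtDesc.p12 f) EtDesc.q1 EtDesc.q2 rfl rfl F' φ).hom.hom ((stI _ τ F').symm d))) =
      Phi φ.hom hP ξ₁ ξ₂ h (tr F' e1 d) := fun h d => by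
    rw [EtDesc.pullIsoVia, pullIso_stalk φ (EtDesc.p12 f) EtDesc.q1 EtDesc.q2 rfl rfl τ (Category.assoc _ _ _) (Category.assoc _ _ _),
      Phi_eq φ.hom hP h (τ ≫ EtDesc.p12 f) ((Category.assoc _ _ _).trans e1) ((Category.assoc _ _ _).trans e2),
      tr_tr, tr_tr]
  have k23 : ∀ h d, tr F' e3 (stI _ τ F' ((Scheme.pointSmallEtale τ).presheafFiber.map
      (EtDesc.pullIsoVia (EtDesc.p23 f) EtDesc.q2 EtDesc.q3 EtDesc.p23_fst rfl F' φ).hom.hom ((stI _ τ F').symm d))) =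
      Phi φ.hom hP ξ₂ ξ₃ h (tr F' e2 d) := fun h d => by
    rw [EtDesc.pullIsoVia, pullIso_stalk φ (EtDesc.p23 f) EtDesc.q2 EtDesc.q3 EtDesc.p23_fst rfl τ
        ((Category.assoc _ _ _).trans (congrArg (τ ≫ ·) EtDesc.p23_fst)) (Category.assoc _ _ _),
      Phi_eq φ.hom hP h (τ ≫ EtDesc.p23 f) (((Category.assoc _ _ _).trans (congrArg (τ ≫ ·) EtDesc.p23_fst)).trans e2)
        ((Category.assoc _ _ _).trans e3), tr_tr, tr_tr]
  have k13 : ∀ h d, tr F' e3 (stI _ τ F' ((Scheme.pointSmallEtale τ).presheafFiber.map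
      (EtDesc.pullIsoVia (EtDesc.p13 f) EtDesc.q1 EtDesc.q3 EtDesc.p13_fst EtDesc.p13_snd F' φ).hom.hom ((stI _ τ F').symm d))) =
      Phi φ.hom hP ξ₁ ξ₃ h (tr F' e1 d) := fun h d => by
    rw [EtDesc.pullIsoVia, pullIso_stalk φ (EtDesc.p13 f) EtDesc.q1 EtDesc.q3 EtDesc.p13_fst EtDesc.p13_snd τ
        ((Category.assoc _ _ _).trans (congrArg (τ ≫ ·) EtDesc.p13_fst))
        ((Category.assoc _ _ _).trans (congrArg (τ ≫ ·) EtDesc.p13_snd)),
      Phi_eq φ.hom hP h (τ ≫ EtDesc.p13 f) (((Category.assoc _ _ _).trans (congrArg (τ ≫ ·) EtDesc.p13_fst)).trans e1)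
        (((Category.assoc _ _ _).trans (congrArg (τ ≫ ·) EtDesc.p13_snd)).trans e3), tr_tr, tr_tr]
  rw [← k12 h₁₂ d, ← k23, Equiv.symm_apply_apply, ← map_comp_apply', hφ, k13]

theorem Phi_self {X' : Scheme.{u}} (f : X' ⟶ X) {F' : EtDesc.Sh X'}
    (φ : (EtDesc.pullSh (pullback.fst f f)).obj F' ≅ (EtDesc.pullSh (pullback.snd f f)).obj F')
    (hφ : EtDesc.IsCocycle F' φ) (ξ : Spec (CommRingCat.of Ω) ⟶ X') (c : St F' ξ) :
    Phi φ.hom (IsPullback.of_hasPullback f f) ξ ξ rfl c = c := by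
  have hP := IsPullback.of_hasPullback f f
  have hinj : Function.Injective (Phi φ.hom (IsPullback.of_hasPullback f f) ξ ξ rfl) := fun x y h => by
    rw [Phi, Phi] at h
    have h' := congrArg (tr F' ((IsPullback.of_hasPullback f f).lift_snd ξ ξ rfl).symm) h
    rw [tr_tr, tr_tr, tr_rfl, tr_rfl] at h'
    have h'' := congrArg (tr F' ((IsPullback.of_hasPullback f f).lift_fst ξ ξ rfl)) ((phiSt_bijective φ.hom _).1 h')
    rwa [tr_tr, tr_tr, tr_rfl, tr_rfl] at h''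
  exact hinj (Phi_trans f φ hφ ξ ξ ξ rfl rfl c)


end Groth.Agent.BigSiteLib.DescSec
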