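import Groth.Agent.BigSiteLib.EtDescSec.LocEq

/-!
# Composites of inverse images and the unit
-/

set_option autoImplicit false

universe u

open CategoryTheory CategoryTheory.Limits AlgebraicGeometry Opposite TopologicalSpace

namespace Groth.Agent.BigSiteLib.DescSec

set_option backward.isDefEq.respectTransparency.types false

variable {X Y Z : Scheme.{u}}

/-- comparison of iterated and composite base change -/
noncomputable def bcC (g : Z ⟶ Y) (f : Y ⟶ X) (V : X.Etale) :
    (EtCoh.bc (g ≫ f)).obj V ⟶ (EtCoh.bc g).obj ((EtCoh.bc f).obj V) :=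
  (MorphismProperty.Over.pullbackComp (P := EtCoh.etaleMP) (Q := ⊤) g f).hom.app V

theorem bcC_fst_fst (g : Z ⟶ Y) (f : Y ⟶ X) (V : X.Etale) :
    ((bcC g f V).left ≫ pullback.fst ((EtCoh.bc f).obj V).hom g) ≫ pullback.fst V.hom f = pullback.fst V.hom (g ≫ f) :=
  (Category.assoc _ _ _).trans (MorphismProperty.Over.pullbackComp_left_fst_fst g f V)

theorem bcC_fst_snd (g : Z ⟶ Y) (f : Y ⟶ X) (V : X.Etale) :
    ((bcC g f V).left ≫ pullback.fst ((EtCoh.bc f).obj V).hom g) ≫ pullback.snd V.hom f =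
      pullback.snd V.hom (g ≫ f) ≫ g := by
  have h := MorphismProperty.Over.w (bcC g f V)
  exact (Category.assoc _ _ _).trans (((congrArg ((bcC g f V).left ≫ ·)
    (pullback.condition (f := ((EtCoh.bc f).obj V).hom) (g := g))).trans (Category.assoc _ _ _).symm).trans
    (congrArg (· ≫ g) h))

theorem unit_pullCompSh (g : Z ⟶ Y) (f : Y ⟶ X) (F : EtDesc.Sh X) (V : X.Etale) (a : F.obj.obj (op V)) :
    ((EtDesc.pullCompSh g f).inv.app F).hom.app (op ((EtCoh.bc (g ≫ f)).obj V))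
      (((EtDesc.pullSh g).obj ((EtDesc.pullSh f).obj F)).obj.map (bcC g f V).op
        (up g ((EtDesc.pullSh f).obj F) _ (up f F V a))) =
      up (g ≫ f) F V a := by
  let A2 := ((EtDesc.adjSh f).comp (EtDesc.adjSh g)).ofNatIsoRight (EtDesc.pushCompSh f g)
  have hu : (EtDesc.adjSh (g ≫ f)).unit.app F ≫ (EtDesc.pushSh (g ≫ f)).map ((EtDesc.pullCompSh g f).hom.app F) =
      A2.unit.app F :=
    Adjunction.unit_leftAdjointUniq_hom_app (EtDesc.adjSh (g ≫ f)) A2 F
  have hu2 : A2.unit.app F = (EtDesc.adjSh f).unit.app F ≫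
      (EtDesc.pushSh f).map ((EtDesc.adjSh g).unit.app ((EtDesc.pullSh f).obj F)) ≫
        (EtDesc.pushCompSh f g).hom.app _ := by
    simp [A2, Adjunction.ofNatIsoRight, Adjunction.mkOfHomEquiv, Adjunction.equivHomsetRightOfNatIso,
      Adjunction.homEquiv_unit, Adjunction.comp_unit_app]
  have h3 := congrArg (· ≫ (EtDesc.pushSh (g ≫ f)).map ((EtDesc.pullCompSh g f).inv.app F)) (hu.trans hu2)
  simp only [Category.assoc] at h3
  rw [← Functor.map_comp, Iso.hom_inv_id_app, CategoryTheory.Functor.map_id] at h3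
  exact (ConcreteCategory.congr_hom (congrArg (fun α : F ⟶ (EtDesc.pushSh (g ≫ f)).obj ((EtDesc.pullSh (g ≫ f)).obj F) => α.hom.app (op V)) h3) a).symm

theorem unit_pullVia (g : Z ⟶ Y) (f : Y ⟶ X) (b : Z ⟶ X) (w : g ≫ f = b) (F : EtDesc.Sh X) (V : X.Etale) :
    ∃ c : (EtCoh.bc b).obj V ⟶ (EtCoh.bc g).obj ((EtCoh.bc f).obj V),
      (c.left ≫ pullback.fst ((EtCoh.bc f).obj V).hom g) ≫ pullback.fst V.hom f = pullback.fst V.hom b ∧
      (c.left ≫ pullback.fst ((EtCoh.bc f).obj V).hom g) ≫ pullback.snd V.hom f = pullback.snd V.hom b ≫ g ∧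
      ∀ a : F.obj.obj (op V), (EtDesc.pullVia g f b w F).hom.hom.app (op ((EtCoh.bc b).obj V))
        (((EtDesc.pullSh g).obj ((EtDesc.pullSh f).obj F)).obj.map c.op (up g ((EtDesc.pullSh f).obj F) _ (up f F V a))) =
        up b F V a := by
  subst w
  refine ⟨bcC g f V, bcC_fst_fst g f V, bcC_fst_snd g f V, fun a => ?_⟩
  have e : (EtDesc.pullVia g f (g ≫ f) rfl F).hom = (EtDesc.pullCompSh g f).inv.app F := by
    simp [EtDesc.pullVia, EtDesc.pullCongrSh]
  rw [e]
  exact unit_pullCompSh g f F V a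

end Groth.Agent.BigSiteLib.DescSec
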